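import Mathlib

/-!
Weight space projections for a linearly parametrised abelian subgroup `r : F^m → G`.
-/

set_option autoImplicit false
set_option linter.unusedSectionVars false

namespace Cfsg.Agent.AbelianProj

open Matrix
open scoped commutatorElement

variable (F : Type*) [Field F] [Fintype F]

/-- A fixed primitive additive character. -/
noncomputable def psi : AddChar F ℂ := AddChar.FiniteField.primitiveChar_to_Complex F

theorem psi_primitive : (psi F).IsPrimitive :=
  AddChar.FiniteField.primitiveChar_to_Complex_isPrimitive F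

variable {F}
variable {m : ℕ}

theorem sum_psi_dot [DecidableEq F] (c : Fin m → F) :
    ∑ b : Fin m → F, psi F (b ⬝ᵥ c) = if c = 0 then ((Fintype.card F : ℂ)) ^ m else 0 := by
  split_ifs with hc
  · subst hc; simp
  · obtain ⟨i, hi⟩ := Function.ne_iff.mp hc
    let φ : AddChar (Fin m → F) ℂ :=
      { toFun := fun b => psi F (b ⬝ᵥ c)
        map_zero_eq_one' := by simp
        map_add_eq_mul' := fun a b => by rw [add_dotProduct, AddChar.map_add_eq_mul] }
    have hφ : φ ≠ 0 := by
      intro h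
      apply psi_primitive F hi
      ext x
      have := DFunLike.congr_fun h (Pi.single i x)
      simpa [φ, AddChar.mulShift_apply, mul_comm] using this
    exact AddChar.sum_eq_zero_iff_ne_zero.mpr hφ

variable {G : Type*} [Group G] {V : Type*} [AddCommGroup V] [Module ℂ V]
variable (ρ : Representation ℂ G V) (r : (Fin m → F) → G)

/-- The projection onto the weight space of `c`. -/
noncomputable def proj (c : Fin m → F) : Module.End ℂ V :=
  (((Fintype.card F : ℂ)) ^ m)⁻¹ • ∑ b : Fin m → F, psi F (-(b ⬝ᵥ c)) • ρ (r b)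

theorem qm_ne_zero : ((Fintype.card F : ℂ)) ^ m ≠ 0 :=
  pow_ne_zero _ (Nat.cast_ne_zero.mpr Fintype.card_ne_zero)

variable {r}

theorem hom_zero (hr : ∀ a b, r (a + b) = r a * r b) : r 0 = 1 := by
  have h := hr 0 0
  rw [add_zero] at h
  exact left_eq_mul.mp h

theorem sum_proj [DecidableEq F] (hr : ∀ a b, r (a + b) = r a * r b) :
    ∑ c : Fin m → F, proj ρ r c = 1 := by
  simp only [proj, ← Finset.smul_sum]
  rw [Finset.sum_comm]
  have h : ∀ b : Fin m → F, ∑ c : Fin m → F, psi F (-(b ⬝ᵥ c)) • ρ (r b) =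
      (if b = 0 then ((Fintype.card F : ℂ)) ^ m else 0) • ρ (r b) := by
    intro b
    rw [← Finset.sum_smul]
    congr 1
    have h' := sum_psi_dot (F := F) (-b)
    simp only [neg_eq_zero] at h'
    rw [← h']
    exact Finset.sum_congr rfl fun c _ => by rw [dotProduct_neg, dotProduct_comm]
  simp only [h, ite_smul, zero_smul, Finset.sum_ite_eq', Finset.mem_univ, if_true, smul_smul,
    inv_mul_cancel₀ qm_ne_zero, one_smul, hom_zero hr, map_one]

theorem rad_mul_proj (hr : ∀ a b, r (a + b) = r a * r b) (b c : Fin m → F) :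
    ρ (r b) * proj ρ r c = psi F (b ⬝ᵥ c) • proj ρ r c := by
  rw [proj, mul_smul_comm, smul_comm (psi F (b ⬝ᵥ c))]
  congr 1
  rw [Finset.mul_sum, Finset.smul_sum]
  refine Fintype.sum_equiv (Equiv.addLeft b) _ _ fun x => ?_
  rw [mul_smul_comm, ← map_mul, ← hr, smul_smul, ← AddChar.map_add_eq_mul, Equiv.coe_addLeft]
  congr 2
  rw [add_dotProduct]; ring

theorem proj_mul_proj [DecidableEq F] (hr : ∀ a b, r (a + b) = r a * r b) (c c' : Fin m → F) :
    proj ρ r c * proj ρ r c' = if c' = c then proj ρ r c' else 0 := by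
  conv_lhs => arg 1; rw [proj]
  rw [smul_mul_assoc, Finset.sum_mul]
  simp only [smul_mul_assoc, rad_mul_proj ρ hr, smul_smul, ← Finset.sum_smul, ← AddChar.map_add_eq_mul]
  have h : ∀ x : Fin m → F, -(x ⬝ᵥ c) + x ⬝ᵥ c' = x ⬝ᵥ (c' - c) := fun x => by
    rw [dotProduct_sub]; ring
  simp only [h, sum_psi_dot, sub_eq_zero]
  split_ifs
  · rw [inv_mul_cancel₀ qm_ne_zero, one_smul]
  · rw [mul_zero, zero_smul]

theorem isIdempotent_proj (hr : ∀ a b, r (a + b) = r a * r b) (c : Fin m → F) :
    proj ρ r c * proj ρ r c = proj ρ r c := by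
  classical
  rw [proj_mul_proj ρ hr, if_pos rfl]

theorem isProj_range (hr : ∀ a b, r (a + b) = r a * r b) (c : Fin m → F) :
    LinearMap.IsProj (LinearMap.range (proj ρ r c)) (proj ρ r c) := by
  refine ⟨fun x => LinearMap.mem_range_self _ x, ?_⟩
  rintro _ ⟨x, rfl⟩
  exact LinearMap.congr_fun (isIdempotent_proj ρ hr c) x

theorem proj_eq_self (hr : ∀ a b, r (a + b) = r a * r b) {c : Fin m → F} {v : V}
    (hv : v ∈ LinearMap.range (proj ρ r c)) : proj ρ r c v = v :=
  (isProj_range ρ hr c).map_id v hv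

theorem trace_proj_eq_finrank [FiniteDimensional ℂ V] (hr : ∀ a b, r (a + b) = r a * r b)
    (c : Fin m → F) :
    LinearMap.trace ℂ V (proj ρ r c) = Module.finrank ℂ (LinearMap.range (proj ρ r c)) :=
  (isProj_range ρ hr c).trace

theorem trace_proj_char [FiniteDimensional ℂ V] (c : Fin m → F) :
    LinearMap.trace ℂ V (proj ρ r c) = (((Fintype.card F : ℂ)) ^ m)⁻¹ *
      ∑ b : Fin m → F, psi F (-(b ⬝ᵥ c)) * ρ.character (r b) := by
  simp only [proj, map_smul, map_sum, smul_eq_mul, Representation.character]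

/-- The dimensions of the weight spaces when the character is constant on `r b`, `b ≠ 0`. -/
theorem card_mul_trace_proj [DecidableEq F] [FiniteDimensional ℂ V]
    (hr : ∀ a b, r (a + b) = r a * r b) (t : ℂ) (ht : ∀ b : Fin m → F, b ≠ 0 → ρ.character (r b) = t)
    (c : Fin m → F) :
    ((Fintype.card F : ℂ)) ^ m * LinearMap.trace ℂ V (proj ρ r c) =
      (Module.finrank ℂ V : ℂ) - t + if c = 0 then ((Fintype.card F : ℂ)) ^ m * t else 0 := by
  rw [trace_proj_char, ← mul_assoc, mul_inv_cancel₀ qm_ne_zero, one_mul]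
  have h : ∀ b : Fin m → F, psi F (-(b ⬝ᵥ c)) * ρ.character (r b) =
      psi F (b ⬝ᵥ (-c)) * t + if b = 0 then ((Module.finrank ℂ V : ℂ) - t) else 0 := by
    intro b
    rw [dotProduct_neg]
    split_ifs with hb
    · subst hb
      simp [hom_zero hr, Representation.char_one]
    · rw [ht b hb, add_zero]
  simp only [h, Finset.sum_add_distrib, ← Finset.sum_mul, sum_psi_dot, neg_eq_zero,
    Finset.sum_ite_eq', Finset.mem_univ, if_true]
  split_ifs <;> ring

theorem conj_proj {g : G} {T : (Fin m → F) ≃ (Fin m → F)} {c c' : Fin m → F}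
    (hg : ∀ b, r (T b) * g = g * r b) (hd : ∀ b, T b ⬝ᵥ c' = b ⬝ᵥ c) :
    ρ g * proj ρ r c = proj ρ r c' * ρ g := by
  rw [proj, proj, mul_smul_comm, smul_mul_assoc, Finset.mul_sum, Finset.sum_mul]
  congr 1
  refine Fintype.sum_equiv T _ _ fun b => ?_
  rw [mul_smul_comm, smul_mul_assoc, ← map_mul, ← map_mul, hg, hd]

theorem commute_inv {g : G} {P : Module.End ℂ V} (h : Commute (ρ g) P) : Commute (ρ g⁻¹) P := by
  show ρ g⁻¹ * P = P * ρ g⁻¹
  calc ρ g⁻¹ * P = ρ g⁻¹ * (P * (ρ g * ρ g⁻¹)) := by rw [← map_mul, mul_inv_cancel, map_one, mul_one]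
    _ = ρ g⁻¹ * (ρ g * P) * ρ g⁻¹ := by rw [← mul_assoc P, ← h.eq]; simp only [mul_assoc]
    _ = P * ρ g⁻¹ := by rw [← mul_assoc, ← map_mul, inv_mul_cancel, map_one, one_mul]

/-- An element commuting with a rank-one projection acts on it by a scalar. -/
theorem exists_scalar [FiniteDimensional ℂ V] {g : G} {P : Module.End ℂ V}
    (h1 : Module.finrank ℂ (LinearMap.range P) = 1) (h : Commute (ρ g) P) :
    ∃ μ : ℂ, ρ g * P = μ • P := by
  obtain ⟨⟨v, hvm⟩, hv0, hspan⟩ := finrank_eq_one_iff'.1 h1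
  have hfv : ρ g v ∈ LinearMap.range P := by
    obtain ⟨x, rfl⟩ := hvm
    exact ⟨ρ g x, (LinearMap.congr_fun h.eq x).symm⟩
  obtain ⟨μ, hμ⟩ := hspan ⟨_, hfv⟩
  have hμ' : ρ g v = μ • v := (congrArg Subtype.val hμ).symm
  refine ⟨μ, LinearMap.ext fun x => ?_⟩
  obtain ⟨a, ha⟩ := hspan ⟨P x, LinearMap.mem_range_self _ x⟩
  have ha' : P x = a • v := (congrArg Subtype.val ha).symm
  show ρ g (P x) = μ • P x
  rw [ha', map_smul, hμ', smul_comm]

theorem ne_zero_of_finrank {P : Module.End ℂ V}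
    (h1 : Module.finrank ℂ (LinearMap.range P) = 1) : P ≠ 0 := by
  rintro rfl
  rw [LinearMap.range_zero, finrank_bot] at h1
  omega

/-- Commutators of elements stabilising a rank-one projection fix it. -/
theorem commutator_fix [FiniteDimensional ℂ V] {g h : G} {P : Module.End ℂ V}
    (h1 : Module.finrank ℂ (LinearMap.range P) = 1) (hg : Commute (ρ g) P) (hh : Commute (ρ h) P) :
    ρ ⁅g, h⁆ * P = P := by
  obtain ⟨a, ha⟩ := exists_scalar ρ h1 hg
  obtain ⟨b, hb⟩ := exists_scalar ρ h1 hh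
  obtain ⟨a', ha'⟩ := exists_scalar ρ h1 (commute_inv ρ hg)
  obtain ⟨b', hb'⟩ := exists_scalar ρ h1 (commute_inv ρ hh)
  have key : ∀ (x : G) (s s' : ℂ), ρ x * P = s • P → ρ x⁻¹ * P = s' • P → s * s' = 1 := by
    intro x s s' hs hs'
    have e : (s' * s) • P = P := by
      rw [mul_smul, ← hs, ← mul_smul_comm, ← hs', ← mul_assoc, ← map_mul, mul_inv_cancel, map_one,
        one_mul]
    have e' : (s' * s - 1) • P = 0 := by rw [sub_smul, e, one_smul, sub_self]
    have := (smul_eq_zero.mp e').resolve_right (ne_zero_of_finrank h1)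
    linear_combination this
  rw [commutatorElement_def, map_mul, map_mul, map_mul, mul_assoc, hb', mul_smul_comm,
    mul_assoc, ha', mul_smul_comm, mul_assoc, hb, mul_smul_comm, ha, smul_smul, smul_smul, smul_smul]
  have e1 := key g a a' ha ha'
  have e2 := key h b b' hb hb'
  conv_rhs => rw [← one_smul ℂ P]
  congr 1
  linear_combination (b * b') * e1 + e2

/-- The scalar of a finite order element on a rank-one projection has modulus one. -/
theorem norm_scalar [Finite G] {g : G} {P : Module.End ℂ V}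
    (h1 : Module.finrank ℂ (LinearMap.range P) = 1) {μ : ℂ} (h : ρ g * P = μ • P) : ‖μ‖ = 1 := by
  have hk : ∀ k : ℕ, ρ (g ^ k) * P = μ ^ k • P := by
    intro k
    induction k with
    | zero => simp
    | succ k ih =>
      rw [pow_succ, map_mul, mul_assoc, h, mul_smul_comm, ih, smul_smul, ← pow_succ']
  have e := hk (orderOf g)
  rw [pow_orderOf_eq_one, map_one, one_mul] at e
  have e' : (μ ^ orderOf g - 1) • P = 0 := by rw [sub_smul, ← e, one_smul, sub_self]
  exact Complex.norm_eq_one_of_pow_eq_one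
    (sub_eq_zero.mp ((smul_eq_zero.mp e').resolve_right (ne_zero_of_finrank h1))) (orderOf_pos g).ne'

theorem eq_proj_zero {v : V}
    (hv : ∀ b, ρ (r b) v = v) : proj ρ r 0 v = v := by
  simp only [proj, dotProduct_zero, neg_zero, AddChar.map_zero_eq_one, one_smul,
    LinearMap.smul_apply, LinearMap.sum_apply, hv, Finset.sum_const, Finset.card_univ,
    Fintype.card_fun, Fintype.card_fin]
  rw [← Nat.cast_smul_eq_nsmul ℂ, smul_smul, Nat.cast_pow, inv_mul_cancel₀ qm_ne_zero, one_smul]

theorem fixed_of_mem_range_zero (hr : ∀ a b, r (a + b) = r a * r b) {v : V}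
    (hv : v ∈ LinearMap.range (proj ρ r 0)) (b : Fin m → F) : ρ (r b) v = v := by
  have := LinearMap.congr_fun (rad_mul_proj ρ hr b 0) v
  simpa [proj_eq_self ρ hr hv] using this

end Cfsg.Agent.AbelianProj
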