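import Mathlib

/-!
Weight spaces of a finite abelian subgroup `r : M → G` in a complex representation, indexed by the
additive characters of `M`, and the bound on the dimension coming from orbits and Heisenberg pairs.
-/

set_option autoImplicit false
set_option linter.unusedSectionVars false

namespace Cfsg.Agent.CharWt

variable {M : Type*} [AddCommGroup M] [Fintype M] {G : Type*} [Group G]
variable {V : Type*} [AddCommGroup V] [Module ℂ V]
variable (ρ : Representation ℂ G V) (r : M → G)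

/-- The projection onto the weight space of a character. -/
noncomputable def cproj (χ : AddChar M ℂ) : Module.End ℂ V :=
  ((Fintype.card M : ℂ))⁻¹ • ∑ b : M, χ (-b) • ρ (r b)

theorem cardM_ne_zero : ((Fintype.card M : ℂ)) ≠ 0 := Nat.cast_ne_zero.mpr Fintype.card_ne_zero

variable {r}

theorem hom_zero (hr : ∀ a b, r (a + b) = r a * r b) : r 0 = 1 := by
  have h := hr 0 0
  rw [add_zero] at h
  exact left_eq_mul.mp h

theorem sum_cproj (hr : ∀ a b, r (a + b) = r a * r b) :
    ∑ χ : AddChar M ℂ, cproj ρ r χ = 1 := by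
  classical
  simp only [cproj, ← Finset.smul_sum]
  rw [Finset.sum_comm]
  simp only [← Finset.sum_smul, AddChar.sum_apply_eq_ite, neg_eq_zero, ite_smul, zero_smul,
    Finset.sum_ite_eq', Finset.mem_univ, if_true, hom_zero hr, map_one, smul_smul,
    inv_mul_cancel₀ cardM_ne_zero, one_smul]

theorem rad_mul_cproj (hr : ∀ a b, r (a + b) = r a * r b) (b : M) (χ : AddChar M ℂ) :
    ρ (r b) * cproj ρ r χ = χ b • cproj ρ r χ := by
  rw [cproj, mul_smul_comm, smul_comm (χ b)]
  congr 1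
  rw [Finset.mul_sum, Finset.smul_sum]
  refine Fintype.sum_equiv (Equiv.addLeft b) _ _ fun x => ?_
  rw [mul_smul_comm, ← map_mul, ← hr, smul_smul, ← AddChar.map_add_eq_mul, Equiv.coe_addLeft]
  congr 2
  rw [neg_add_rev]
  abel

theorem cproj_mul_self (hr : ∀ a b, r (a + b) = r a * r b) (χ : AddChar M ℂ) :
    cproj ρ r χ * cproj ρ r χ = cproj ρ r χ := by
  conv_lhs => arg 1; rw [cproj]
  rw [smul_mul_assoc, Finset.sum_mul]
  simp only [smul_mul_assoc, rad_mul_cproj ρ hr, smul_smul, ← AddChar.map_add_eq_mul, neg_add_cancel,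
    AddChar.map_zero_eq_one, one_smul, Finset.sum_const, Finset.card_univ]
  rw [← Nat.cast_smul_eq_nsmul ℂ, smul_smul, inv_mul_cancel₀ cardM_ne_zero, one_smul]

theorem isProj_range (hr : ∀ a b, r (a + b) = r a * r b) (χ : AddChar M ℂ) :
    LinearMap.IsProj (LinearMap.range (cproj ρ r χ)) (cproj ρ r χ) := by
  refine ⟨fun x => LinearMap.mem_range_self _ x, ?_⟩
  rintro _ ⟨x, rfl⟩
  exact LinearMap.congr_fun (cproj_mul_self ρ hr χ) x

/-- The dimensions of the weight spaces sum to the dimension. -/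
theorem sum_finrank [FiniteDimensional ℂ V] (hr : ∀ a b, r (a + b) = r a * r b) :
    ∑ χ : AddChar M ℂ, Module.finrank ℂ (LinearMap.range (cproj ρ r χ)) = Module.finrank ℂ V := by
  have h : ((∑ χ : AddChar M ℂ, Module.finrank ℂ (LinearMap.range (cproj ρ r χ)) : ℕ) : ℂ) =
      (Module.finrank ℂ V : ℂ) := by
    rw [← LinearMap.trace_one, ← sum_cproj ρ hr, map_sum, Nat.cast_sum]
    exact Finset.sum_congr rfl fun χ _ => ((isProj_range ρ hr χ).trace).symm
  exact_mod_cast h

theorem card_mul_le [FiniteDimensional ℂ V] (hr : ∀ a b, r (a + b) = r a * r b)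
    (s : Finset (AddChar M ℂ)) (d : ℕ)
    (hd : ∀ χ ∈ s, d ≤ Module.finrank ℂ (LinearMap.range (cproj ρ r χ))) :
    s.card * d ≤ Module.finrank ℂ V := by
  calc s.card * d = ∑ _χ ∈ s, d := by rw [Finset.sum_const, smul_eq_mul]
    _ ≤ ∑ χ ∈ s, Module.finrank ℂ (LinearMap.range (cproj ρ r χ)) := Finset.sum_le_sum hd
    _ ≤ ∑ χ : AddChar M ℂ, Module.finrank ℂ (LinearMap.range (cproj ρ r χ)) :=
        Finset.sum_le_univ_sum_of_nonneg fun _ => Nat.zero_le _
    _ = Module.finrank ℂ V := sum_finrank ρ hr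

theorem finrank_pos [FiniteDimensional ℂ V] {χ : AddChar M ℂ} (h : cproj ρ r χ ≠ 0) :
    1 ≤ Module.finrank ℂ (LinearMap.range (cproj ρ r χ)) :=
  Submodule.one_le_finrank_iff.mpr fun h' => h (LinearMap.range_eq_bot.mp h')

theorem conj_cproj {g : G} {χ χ' : AddChar M ℂ} (T : M ≃+ M)
    (hg : ∀ b, r (T b) * g = g * r b) (hd : ∀ b, χ' (T b) = χ b) :
    ρ g * cproj ρ r χ = cproj ρ r χ' * ρ g := by
  rw [cproj, cproj, mul_smul_comm, smul_mul_assoc, Finset.mul_sum, Finset.sum_mul]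
  congr 1
  refine Fintype.sum_equiv T.toEquiv _ _ fun b => ?_
  rw [mul_smul_comm, smul_mul_assoc, ← map_mul, ← map_mul]
  show _ = χ' (-(T b)) • ρ (r (T b) * g)
  rw [hg, ← map_neg, hd]

theorem cproj_ne_zero_of_conj {g : G} {χ χ' : AddChar M ℂ} (T : M ≃+ M)
    (hg : ∀ b, r (T b) * g = g * r b) (hd : ∀ b, χ' (T b) = χ b) (h : cproj ρ r χ ≠ 0) :
    cproj ρ r χ' ≠ 0 := by
  intro h'
  have e := conj_cproj ρ T hg hd
  rw [h', zero_mul] at e
  refine h ?_
  rw [← one_mul (cproj ρ r χ), ← map_one ρ, ← inv_mul_cancel g, map_mul, mul_assoc, e, mul_zero]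

theorem exists_weight (hr : ∀ a b, r (a + b) = r a * r b) {b : M} (hb : ρ (r b) ≠ 1) :
    ∃ χ : AddChar M ℂ, χ ≠ 0 ∧ cproj ρ r χ ≠ 0 := by
  classical
  by_contra! h
  have h1 : cproj ρ r (0 : AddChar M ℂ) = 1 := by
    rw [← sum_cproj ρ hr]
    exact (Fintype.sum_eq_single 0 fun χ hχ => h χ hχ).symm
  refine hb ?_
  have h2 := rad_mul_cproj ρ hr b (0 : AddChar M ℂ)
  rwa [h1, mul_one, AddChar.zero_apply, one_smul] at h2

theorem commute_cproj {g : G} (hg : ∀ b, g * r b = r b * g) (χ : AddChar M ℂ) :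
    Commute (ρ g) (cproj ρ r χ) :=
  conj_cproj ρ (AddEquiv.refl M) (fun b => (hg b).symm) (fun _ => rfl)

/-- Heisenberg bound: elements centralising `r M` whose quotients are separated by commutators
outside the kernel of `χ` give a lower bound for the square of the dimension of the weight space. -/
theorem card_le_sq [FiniteDimensional ℂ V] (hr : ∀ a b, r (a + b) = r a * r b) {ι : Type*} [Fintype ι]
    (x : ι → G) (χ : AddChar M ℂ) (hx : ∀ i b, x i * r b = r b * x i)
    (hsep : ∀ i j, i ≠ j → ∃ k z, χ z ≠ 1 ∧ x k * ((x j)⁻¹ * x i) = r z * ((x j)⁻¹ * x i) * x k)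
    (h : cproj ρ r χ ≠ 0) :
    Fintype.card ι ≤ Module.finrank ℂ (LinearMap.range (cproj ρ r χ)) ^ 2 := by
  classical
  set P := cproj ρ r χ with hP
  have hcom : ∀ i j, ∀ b, ((x j)⁻¹ * x i) * r b = r b * ((x j)⁻¹ * x i) := by
    intro i j b
    have h1 : (x j)⁻¹ * r b = r b * (x j)⁻¹ := by
      rw [inv_mul_eq_iff_eq_mul, ← mul_assoc, hx j, mul_assoc, mul_inv_cancel, mul_one]
    rw [mul_assoc, hx, ← mul_assoc, h1, mul_assoc]
  have htr : ∀ i j, i ≠ j → LinearMap.trace ℂ V (ρ ((x j)⁻¹ * x i) * P) = 0 := by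
    intro i j hij
    obtain ⟨k, z, hz, hg⟩ := hsep i j hij
    set g := x k
    set y := (x j)⁻¹ * x i with hy
    have hgy : g * y * g⁻¹ = r z * y := by rw [hg, mul_inv_cancel_right]
    have hyP : ρ y * P = P * ρ y := (commute_cproj ρ (hcom i j) χ).eq
    have e1 : ρ (r z) * (ρ y * P) = χ z • (ρ y * P) := by
      rw [hyP, ← mul_assoc, rad_mul_cproj ρ hr, smul_mul_assoc]
    have hgP : Commute (ρ g) P := commute_cproj ρ (hx k) χ
    have e2 : LinearMap.trace ℂ V (ρ y * P) = LinearMap.trace ℂ V (ρ (r z) * (ρ y * P)) := by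
      have e3 : ρ (r z) * (ρ y * P) = ρ g * ((ρ y * P) * ρ g⁻¹) := by
        rw [← mul_assoc, ← map_mul (ρ) (r z) y, ← hgy, mul_assoc (ρ y) P, ← (commute_cproj ρ (g := g⁻¹) (fun b => by
          rw [inv_mul_eq_iff_eq_mul, ← mul_assoc, hx k, mul_assoc, mul_inv_cancel, mul_one]) χ).eq,
          map_mul, map_mul]
        simp only [mul_assoc]
        rfl
      rw [e3, LinearMap.trace_mul_comm ℂ (ρ g), mul_assoc, ← map_mul, inv_mul_cancel, map_one,
        mul_one]
    rw [e1, map_smul, smul_eq_mul] at e2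
    have : (χ z - 1) * LinearMap.trace ℂ V (ρ y * P) = 0 := by rw [sub_mul, one_mul, ← e2, sub_self]
    exact (mul_eq_zero.mp this).resolve_left (sub_ne_zero.mpr hz)
  set E := LinearMap.range P
  have hmem : ∀ i, ∀ v ∈ E, ρ (x i) v ∈ E := by
    rintro i _ ⟨w, rfl⟩
    exact ⟨ρ (x i) w, (LinearMap.congr_fun (commute_cproj ρ (hx i) χ).eq w).symm⟩
  let L : ι → Module.End ℂ E := fun i => (ρ (x i)).restrict (hmem i)
  have hli : LinearIndependent ℂ L := by
    rw [Fintype.linearIndependent_iff]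
    intro a ha j
    have hz : ∑ i, a i • (ρ (x i) * P) = 0 := by
      ext v
      have h2 : ∀ w : E, ((∑ i, a i • L i) w : V) = ∑ i, a i • ρ (x i) (w : V) := fun w => by
        simp [L]
      have h3 := h2 ⟨P v, LinearMap.mem_range_self P v⟩
      rw [ha] at h3
      simpa using h3.symm
    have h4 := congrArg (fun X => LinearMap.trace ℂ V (ρ (x j)⁻¹ * X)) hz
    simp only [Finset.mul_sum, mul_smul_comm, ← mul_assoc, ← map_mul, map_sum, map_smul, mul_zero,
      map_zero] at h4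
    rw [Fintype.sum_eq_single j (fun i hi => by rw [htr i j hi, smul_zero]), inv_mul_cancel, map_one,
      one_mul, (isProj_range ρ hr χ).trace, smul_eq_mul] at h4
    exact (mul_eq_zero.mp h4).resolve_right (Nat.cast_ne_zero.mpr (by have := finrank_pos ρ h; omega))
  have := hli.fintype_card_le_finrank
  rwa [Module.finrank_linearMap, ← sq] at this

end Cfsg.Agent.CharWt
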