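import Mathlib
import Cfsg.Agent.Lib.Recog.CrossChar.Groups

/-!
Lower bound for the size of a non-empty set of non-zero skew-Hermitian matrices closed under
congruence by matrices of determinant one.
-/

set_option autoImplicit false
set_option linter.unusedSectionVars false

namespace Cfsg.Agent.HermOrbit

open Matrix Finset

variable {F : Type*} [Field F] (σ : F →+* F)

/-- Conjugate transpose with respect to `σ`. -/
def hc {ι κ : Type*} (A : Matrix ι κ F) : Matrix κ ι F := (A.map σ)ᵀ

theorem hc_apply {ι κ : Type*} (A : Matrix ι κ F) (i : κ) (j : ι) : hc σ A i j = σ (A j i) := rfl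

theorem hc_mul {ι κ μ : Type*} [Fintype κ] (A : Matrix ι κ F) (B : Matrix κ μ F) :
    hc σ (A * B) = hc σ B * hc σ A := by
  simp [hc, Matrix.map_mul, Matrix.transpose_mul]

theorem hc_add {ι κ : Type*} (A B : Matrix ι κ F) : hc σ (A + B) = hc σ A + hc σ B := by
  ext i j; simp [hc_apply]

theorem hc_neg {ι κ : Type*} (A : Matrix ι κ F) : hc σ (-A) = -hc σ A := by
  ext i j; simp [hc_apply]

theorem hc_zero {ι κ : Type*} : hc σ (0 : Matrix ι κ F) = 0 := by
  ext i j; simp [hc_apply]

theorem hc_one {ι : Type*} [DecidableEq ι] : hc σ (1 : Matrix ι ι F) = 1 := by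
  simp [hc]

theorem hc_hc (hσσ : ∀ x, σ (σ x) = x) {ι κ : Type*} (A : Matrix ι κ F) : hc σ (hc σ A) = A := by
  ext i j; simp [hc_apply, hσσ]

theorem det_hc {ι : Type*} [Fintype ι] [DecidableEq ι] (A : Matrix ι ι F) :
    (hc σ A).det = σ A.det := by
  rw [hc, Matrix.det_transpose, RingHom.map_det, RingHom.mapMatrix_apply]

theorem card_units_le_image_pow [Fintype F] [DecidableEq F] (k : ℕ) (hk : 0 < k) :
    Fintype.card F - 1 ≤ (Finset.univ.image fun y : Fˣ => y ^ k).card * k := by
  rw [← Fintype.card_units, ← Finset.card_univ, mul_comm]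
  refine Finset.card_le_mul_card_image _ _ fun a ha => ?_
  obtain ⟨y₀, -, rfl⟩ := Finset.mem_image.mp ha
  refine le_trans ?_ (IsCyclic.card_pow_eq_one_le (α := Fˣ) hk)
  refine Finset.card_le_card_of_injOn (fun y => y * y₀⁻¹) (fun y hy => ?_) (mul_left_injective _).injOn
  simp only [Finset.coe_filter, Set.mem_setOf_eq, Finset.mem_filter, Finset.mem_univ, true_and] at hy ⊢
  rw [mul_pow, hy, inv_pow, mul_inv_cancel]

/-- Matrices allowed for congruence. -/
def Allowed {m : ℕ} (A : Matrix (Fin m) (Fin m) F) : Prop := A.det = 1 ∨ (m = 1 ∧ A.det ≠ 0)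

variable [Fintype F] [DecidableEq F] {q m : ℕ}

/-- The skew scalars are permuted transitively enough. -/
theorem skew_facts (hσ : ∀ x, σ x = x ^ q) (hσσ : ∀ x, σ (σ x) = x) (hq : 2 ≤ q)
    (hF : Fintype.card F = q ^ 2) :
    (∃ e : F, e ≠ 0 ∧ σ e = -e) ∧ (∃ τ : F, τ + σ τ = 1) := by
  obtain ⟨x, hx⟩ : ∃ x, σ x ≠ x := by
    by_contra! hc
    have hsub : (Finset.univ : Finset F) ⊆ insert 0 ((Finset.univ.filter fun y : Fˣ => y ^ (q - 1) = 1).image
        fun y : Fˣ => (y : F)) := by
      intro a _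
      rcases eq_or_ne a 0 with rfl | ha
      · exact Finset.mem_insert_self _ _
      refine Finset.mem_insert_of_mem (Finset.mem_image.mpr ⟨Units.mk0 a ha, Finset.mem_filter.mpr
        ⟨Finset.mem_univ _, Units.ext ?_⟩, rfl⟩)
      have := hc a
      rw [hσ] at this
      have h2 : a ^ (q - 1) * a = 1 * a := by
        rw [← pow_succ, show q - 1 + 1 = q by omega, this, one_mul]
      simpa using mul_right_cancel₀ ha h2
    have h3 := (Finset.card_le_card hsub).trans (Finset.card_insert_le _ _)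
    rw [Finset.card_univ, hF] at h3
    have h4 := h3.trans (Nat.succ_le_succ (Finset.card_image_le.trans
      (IsCyclic.card_pow_eq_one_le (α := Fˣ) (show 0 < q - 1 by omega))))
    nlinarith [Nat.sub_add_cancel (show 1 ≤ q by omega)]
  refine ⟨⟨x - σ x, sub_ne_zero.mpr (Ne.symm hx), by rw [map_sub, hσσ]; ring⟩, ?_⟩
  obtain ⟨w, hw⟩ : ∃ w, w + σ w ≠ 0 := by
    by_contra! hc
    refine hx ?_
    have h1 := hc 1
    rw [map_one] at h1
    linear_combination hc x - x * h1
  refine ⟨w * (w + σ w)⁻¹, ?_⟩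
  rw [map_mul, map_inv₀, map_add, hσσ, add_comm (σ w) w]
  field_simp

theorem skew_image (hq : 2 ≤ q) (hF : Fintype.card F = q ^ 2) {e : F} (he : e ≠ 0) :
    q - 1 ≤ ((Finset.univ.image fun y : Fˣ => y ^ (q + 1)).image fun y : Fˣ => e * (y : F)).card := by
  rw [Finset.card_image_of_injective _ (fun a b h => Units.ext (mul_left_cancel₀ he h))]
  have := card_units_le_image_pow (F := F) (q + 1) (Nat.succ_pos _)
  rw [hF] at this
  obtain ⟨r, rfl⟩ : ∃ r, q = r + 1 := ⟨q - 1, by omega⟩
  rw [show (r + 1) ^ 2 - 1 = r * (r + 1 + 1) by rw [Nat.sub_eq_iff_eq_add (Nat.one_le_pow _ _ (by omega))]; ring] at this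
  simpa using Nat.le_of_mul_le_mul_right this (by omega)

theorem norm_one_image (hq : 2 ≤ q) (hF : Fintype.card F = q ^ 2) {e : F} (he : e ≠ 0) :
    q + 1 ≤ ((Finset.univ.image fun y : Fˣ => y ^ (q - 1)).image fun y : Fˣ => e * (y : F)).card := by
  rw [Finset.card_image_of_injective _ (fun a b h => Units.ext (mul_left_cancel₀ he h))]
  have := card_units_le_image_pow (F := F) (q - 1) (by omega)
  rw [hF] at this
  obtain ⟨r, rfl⟩ : ∃ r, q = r + 1 := ⟨q - 1, by omega⟩
  rw [show (r + 1) ^ 2 - 1 = (r + 1 + 1) * r by rw [Nat.sub_eq_iff_eq_add (Nat.one_le_pow _ _ (by omega))]; ring] at this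
  simp only [add_tsub_cancel_right] at this ⊢
  exact Nat.le_of_mul_le_mul_right this (by omega)

/-- The Hermitian value. -/
def beta (B : Matrix (Fin m) (Fin m) F) (v w : Fin m → F) : F := (σ ∘ v) ⬝ᵥ (B *ᵥ w)

theorem beta_add_right (B : Matrix (Fin m) (Fin m) F) (v w w' : Fin m → F) :
    beta σ B v (w + w') = beta σ B v w + beta σ B v w' := by
  rw [beta, Matrix.mulVec_add, dotProduct_add]; rfl

theorem beta_smul_right (B : Matrix (Fin m) (Fin m) F) (v w : Fin m → F) (t : F) :
    beta σ B v (t • w) = t * beta σ B v w := by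
  rw [beta, Matrix.mulVec_smul, dotProduct_smul, smul_eq_mul]; rfl

theorem beta_flip (hσσ : ∀ x, σ (σ x) = x) {B : Matrix (Fin m) (Fin m) F} (hB : hc σ B = -B)
    (v w : Fin m → F) : σ (beta σ B v w) = -beta σ B w v := by
  simp only [beta, dotProduct, Matrix.mulVec, Function.comp, map_sum, map_mul, hσσ, Finset.mul_sum,
    ← Finset.sum_neg_distrib]
  rw [Finset.sum_comm]
  refine Finset.sum_congr rfl fun i _ => Finset.sum_congr rfl fun j _ => ?_
  have h := congrFun (congrFun hB i) j
  rw [hc_apply, Matrix.neg_apply] at h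
  rw [h]; ring

theorem beta_add_left (B : Matrix (Fin m) (Fin m) F) (v v' w : Fin m → F) :
    beta σ B (v + v') w = beta σ B v w + beta σ B v' w := by
  rw [beta, beta, beta, ← add_dotProduct]
  congr 1
  funext i
  simp

theorem beta_smul_left (B : Matrix (Fin m) (Fin m) F) (v w : Fin m → F) (t : F) :
    beta σ B (t • v) w = σ t * beta σ B v w := by
  rw [beta, beta, ← smul_eq_mul, ← smul_dotProduct]
  congr 1
  funext i
  simp

theorem exists_beta_ne (hσσ : ∀ x, σ (σ x) = x) (hne : ∃ x, σ x ≠ x)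
    {B : Matrix (Fin m) (Fin m) F} (hB : hc σ B = -B) (hB0 : B ≠ 0) :
    ∃ v, beta σ B v v ≠ 0 := by
  by_contra! h
  obtain ⟨x, hx⟩ := hne
  refine hB0 (Matrix.ext fun i j => ?_)
  have key : ∀ t : F, t * B i j - σ (t * B i j) = 0 := by
    intro t
    have h1 := h (Pi.single i (1 : F) + t • Pi.single j (1 : F))
    simp only [beta_add_left, beta_add_right, beta_smul_left, beta_smul_right] at h1
    rw [h (Pi.single i (1 : F)), h (Pi.single j (1 : F))] at h1
    simp only [mul_zero, zero_add, add_zero] at h1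
    have h2 := beta_flip σ hσσ hB (Pi.single i (1 : F)) (Pi.single j (1 : F))
    have h3 : beta σ B (Pi.single i (1 : F)) (Pi.single j (1 : F)) = B i j := by
      simp [beta, dotProduct, Pi.single_apply, apply_ite σ]
    rw [h3] at h1 h2
    rw [map_mul, h2]
    linear_combination h1
  by_contra hij
  have h1 := key (x * (B i j)⁻¹)
  rw [inv_mul_cancel_right₀ hij, sub_eq_zero] at h1
  exact hx h1.symm

theorem allowed_diag {p z : Fin m} (hpz : p ≠ z) (t : Fˣ) :
    Allowed (Matrix.diagonal (Function.update (Function.update (1 : Fin m → F) z (t : F)) p (t⁻¹ : Fˣ))) := by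
  refine Or.inl ?_
  rw [Matrix.det_diagonal, Finset.prod_update_of_mem (Finset.mem_univ _),
    Finset.prod_update_of_mem (by simpa using hpz.symm)]
  simp

theorem det_one_add_vecMulVec {a z : Fin m → F} (h : z ⬝ᵥ a = 0) :
    (1 + Matrix.vecMulVec a z).det = 1 := by
  rw [Matrix.vecMulVec_eq Unit, Matrix.det_one_add_replicateCol_mul_replicateRow, h, add_zero]

/-- Congruence by a transvection on a column. -/
theorem hc_transv_mulVec {a z w : Fin m → F} :
    hc σ (1 + Matrix.vecMulVec a z) *ᵥ w = w + ((σ ∘ a) ⬝ᵥ w) • (σ ∘ z) := by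
  rw [hc_add, hc_one, Matrix.add_mulVec, Matrix.one_mulVec]
  have : hc σ (Matrix.vecMulVec a z) = Matrix.vecMulVec (σ ∘ z) (σ ∘ a) := by
    ext i j; simp [hc_apply, Matrix.vecMulVec_apply, mul_comm]
  rw [this, Matrix.vecMulVec_mulVec]
  simp

variable (hσ : ∀ x, σ x = x ^ q) (hσσ : ∀ x, σ (σ x) = x) (hq : 2 ≤ q)
  (hF : Fintype.card F = q ^ 2) (Ω : Finset (Matrix (Fin m) (Fin m) F))
  (hskew : ∀ B ∈ Ω, hc σ B = -B)
  (hinv : ∀ B ∈ Ω, ∀ A, Allowed A → hc σ A * B * A ∈ Ω)

include hσ hσσ hq hF hskew hinv in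
/-- The case of an isotropic vector outside the kernel. -/
theorem card_bound_iso {B : Matrix (Fin m) (Fin m) F} (hBΩ : B ∈ Ω) {v : Fin m → F}
    (hv : beta σ B v v = 0) (hBv : B *ᵥ v ≠ 0) : q ^ (2 * m) - 1 ≤ (q + 1) * Ω.card := by
  classical
  have hB := hskew B hBΩ
  have hv0 : v ≠ 0 := by rintro rfl; exact hBv (Matrix.mulVec_zero B)
  have hm : 2 ≤ m := by
    rcases m with _ | _ | m
    · exact absurd (Subsingleton.elim v 0) hv0
    · exfalso
      refine hBv (funext fun i => ?_)
      have hv1 : v 0 ≠ 0 := fun h => hv0 (funext fun i => by rw [Fin.fin_one_eq_zero i, h]; rfl)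
      simp [beta, dotProduct, hv1] at hv
      rw [Fin.fin_one_eq_zero i]
      simpa using hv
    · omega
  obtain ⟨⟨e, he, hes⟩, ⟨τ, hτ⟩⟩ := skew_facts σ hσ hσσ hq hF
  set z : Fin m := ⟨0, by omega⟩ with hz
  set e₀ : Fin m → F := Pi.single z 1 with he₀
  have he₀0 : e₀ ≠ 0 := by simp [he₀]
  -- moving a vector to the first column
  have move : ∀ {u : Fin m → F}, u ≠ 0 → ∃ B' ∈ Ω, (B' *ᵥ e₀) z = beta σ B u u ∧
      (B *ᵥ u ≠ 0 → B' *ᵥ e₀ ≠ 0) := by
    intro u hu
    obtain ⟨A, hA⟩ := Recog.CrossChar.exists_sl (by simpa using hm) e₀ u he₀0 hu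
    refine ⟨hc σ (A : Matrix (Fin m) (Fin m) F) * B * A, hinv B hBΩ _ (Or.inl A.2), ?_, fun h h' => ?_⟩
    · rw [← Matrix.mulVec_mulVec, hA, ← Matrix.mulVec_mulVec, beta]
      have hcol : σ ∘ u = fun j => hc σ (A : Matrix (Fin m) (Fin m) F) z j := by
        funext j
        rw [← hA]
        simp [he₀, hc_apply]
      rw [hcol]
      rfl
    · rw [← Matrix.mulVec_mulVec, hA, ← Matrix.mulVec_mulVec] at h'
      refine h ?_
      have hdet : (hc σ (A : Matrix (Fin m) (Fin m) F)).det ≠ 0 := by rw [det_hc, A.2, map_one]; exact one_ne_zero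
      exact Matrix.eq_zero_of_mulVec_eq_zero hdet h'
  set C : Finset (Fin m → F) := Ω.image fun B => B *ᵥ e₀ with hC
  set S : Finset F := ((Finset.univ.image fun y : Fˣ => y ^ (q + 1)).image fun y : Fˣ => e * (y : F)) with hS
  have hS' : ∀ c ∈ S, c ≠ 0 ∧ σ c = -c := by
    intro c hc'
    simp only [hS, Finset.mem_image, Finset.mem_univ, true_and] at hc'
    obtain ⟨_, ⟨y, rfl⟩, rfl⟩ := hc'
    refine ⟨mul_ne_zero he (Units.ne_zero _), ?_⟩
    rw [map_mul, hes, Units.val_pow_eq_pow_val, map_pow, neg_mul]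
    congr 2
    rw [pow_succ, pow_succ, ← hσ, hσσ, mul_comm, hσ]
  let f1 : Fin m → Finset F := Function.update (fun _ => Finset.univ) z S
  have hT1 : Fintype.piFinset f1 ⊆ C := by
    intro w hw
    simp only [Fintype.mem_piFinset] at hw
    have hwz : w z ∈ S := by simpa [f1] using hw z
    obtain ⟨hc0, hcs⟩ := hS' _ hwz
    obtain ⟨u₁, hu₁⟩ : ∃ u₁, beta σ B v u₁ = 1 := by
      obtain ⟨i, hi⟩ := Function.ne_iff.mp hBv
      rw [Pi.zero_apply] at hi
      have h1 : beta σ B v (Pi.single i (1 : F)) ≠ 0 := by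
        intro h
        have h2 := beta_flip σ hσσ hB (Pi.single i (1 : F)) v
        rw [h, neg_zero] at h2
        refine hi ?_
        simpa [beta, dotProduct, Pi.single_apply, apply_ite σ] using (map_eq_zero σ).mp h2
      exact ⟨(beta σ B v (Pi.single i (1 : F)))⁻¹ • Pi.single i (1 : F),
        by rw [beta_smul_right, inv_mul_cancel₀ h1]⟩
    have hu₁' : beta σ B u₁ v = -1 := by
      have h2 := beta_flip σ hσσ hB v u₁
      rw [hu₁, map_one] at h2
      linear_combination h2
    set s := beta σ B u₁ u₁ - w z with hs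
    have hss : σ s = -s := by
      rw [hs, map_sub, beta_flip σ hσσ hB, hcs]; ring
    set u := (s * τ) • v + u₁ with hu
    have hbu : beta σ B u u = w z := by
      simp only [hu, beta_add_left, beta_add_right, beta_smul_left, beta_smul_right, hv, hu₁, hu₁',
        map_mul, hss]
      linear_combination (-s) * hτ
    have hu0 : u ≠ 0 := fun h => hc0 (by rw [← hbu, h, beta, Matrix.mulVec_zero, dotProduct_zero])
    obtain ⟨B', hB', hz', -⟩ := move hu0
    set w' := B' *ᵥ e₀ with hw'
    let x : Fin m → F := fun i => σ ((w i - w' i) / w z)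
    have hxz : x z = 0 := by simp [x, hz', hbu]
    refine Finset.mem_image.mpr ⟨hc σ (1 + Matrix.vecMulVec e₀ x) * B' * (1 + Matrix.vecMulVec e₀ x),
      hinv B' hB' _ (Or.inl (det_one_add_vecMulVec (by simp [he₀, hxz]))), ?_⟩
    have hfix : (1 + Matrix.vecMulVec e₀ x) *ᵥ e₀ = e₀ := by
      rw [Matrix.add_mulVec, Matrix.one_mulVec, Matrix.vecMulVec_mulVec]
      simp [he₀, hxz]
    rw [← Matrix.mulVec_mulVec, hfix, ← Matrix.mulVec_mulVec, hc_transv_mulVec, ← hw']
    have hd : (σ ∘ e₀) ⬝ᵥ w' = w z := by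
      simp [he₀, dotProduct, Pi.single_apply, apply_ite σ, hz', hbu]
    funext i
    rw [hd, Pi.add_apply, Pi.smul_apply, smul_eq_mul, Function.comp, hσσ]
    field_simp
    ring
  obtain ⟨B', hB', hz', hne'⟩ := move hv0
  rw [hv] at hz'
  have hne := hne' hBv
  set w' := B' *ᵥ e₀ with hw'
  obtain ⟨p, hp⟩ := Function.ne_iff.mp hne
  rw [Pi.zero_apply] at hp
  have hpz : p ≠ z := fun h => hp (h ▸ hz')
  set U : Finset F := ((Finset.univ.image fun y : Fˣ => y ^ (q - 1)).image fun y : Fˣ => w' p * (y : F)) with hU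
  let f2 : Fin m → Finset F := Function.update (Function.update (fun _ => Finset.univ) z {0}) p U
  have hT2 : Fintype.piFinset f2 ⊆ C := by
    intro w hw
    simp only [Fintype.mem_piFinset] at hw
    have hwp : w p ∈ U := by simpa [f2] using hw p
    have hwz : w z = 0 := by simpa [f2, hpz.symm] using hw z
    simp only [hU, Finset.mem_image, Finset.mem_univ, true_and] at hwp
    obtain ⟨_, ⟨y, rfl⟩, hy⟩ := hwp
    set t : Fˣ := y⁻¹ with ht
    let x : Fin m → F := fun i => if i = p then 0 else σ ((w i / (t : F) - w' i) / w' p)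
    have hxz : x z = 0 := by simp [x, hpz.symm, hwz, hz']
    have hxp : x p = 0 := by simp [x]
    set H := (1 + Matrix.vecMulVec (Pi.single p (1 : F)) x) with hH
    set D := Matrix.diagonal (Function.update (Function.update (1 : Fin m → F) z (t : F)) p (t⁻¹ : Fˣ)) with hD
    refine Finset.mem_image.mpr ⟨hc σ D * (hc σ H * B' * H) * D,
      hinv _ (hinv B' hB' _ (Or.inl (det_one_add_vecMulVec (by simp [hxp])))) _ (allowed_diag hpz t), ?_⟩
    have hfixD : D *ᵥ e₀ = (t : F) • e₀ := by
      funext i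
      rw [hD, Matrix.mulVec_diagonal, Pi.smul_apply, smul_eq_mul]
      rcases eq_or_ne i z with rfl | hi
      · simp [hpz.symm]
      · simp [he₀, hi]
    have hfixH : H *ᵥ e₀ = e₀ := by
      rw [hH, Matrix.add_mulVec, Matrix.one_mulVec, Matrix.vecMulVec_mulVec]
      simp [he₀, hxz]
    rw [← Matrix.mulVec_mulVec, hfixD, Matrix.mulVec_smul, ← Matrix.mulVec_mulVec,
      ← Matrix.mulVec_mulVec, hfixH, ← Matrix.mulVec_mulVec, ← hw', hH, hc_transv_mulVec]
    have hd : (σ ∘ (Pi.single p (1 : F) : Fin m → F)) ⬝ᵥ w' = w' p := by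
      simp [dotProduct, Pi.single_apply, apply_ite σ]
    funext i
    rw [hd, hD, hc, Matrix.diagonal_map (map_zero σ), Matrix.diagonal_transpose, Pi.smul_apply,
      smul_eq_mul, Matrix.mulVec_diagonal]
    rcases eq_or_ne i p with rfl | hip
    · have hsy : σ (y : F) = (y : F) ^ (q - 1) * y := by rw [hσ, ← pow_succ]; congr 1; omega
      simp [hxp, ← hy, ht, hsy]
      field_simp
    · rcases eq_or_ne i z with rfl | hiz
      · simp [hpz.symm, hz', hxz, hwz]
      · simp [hip, hiz, x, hσσ]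
        field_simp
        ring
  have hdis : Disjoint (Fintype.piFinset f1) (Fintype.piFinset f2) := by
    rw [Finset.disjoint_left]
    intro w h1 h2
    simp only [Fintype.mem_piFinset] at h1 h2
    refine (hS' (w z) (by simpa [f1] using h1 z)).1 ?_
    simpa [f2, hpz.symm] using h2 z
  have hsum := Finset.card_le_card (Finset.union_subset hT1 hT2)
  rw [Finset.card_union_of_disjoint hdis, Fintype.card_piFinset, Fintype.card_piFinset] at hsum
  have hC' : C.card ≤ Ω.card := Finset.card_image_le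
  have hc1 : ∏ i, (f1 i).card = S.card * (q ^ 2) ^ (m - 1) := by
    rw [← Finset.mul_prod_erase _ _ (Finset.mem_univ z), show f1 z = S by simp [f1]]
    congr 1
    rw [Finset.prod_congr rfl (g := fun _ => q ^ 2) fun i hi => by
      simp [f1, Finset.ne_of_mem_erase hi, hF]]
    simp [Finset.card_erase_of_mem]
  have hc2 : ∏ i, (f2 i).card = U.card * (q ^ 2) ^ (m - 2) := by
    rw [← Finset.mul_prod_erase _ _ (Finset.mem_univ p), show f2 p = U by simp [f2],
      ← Finset.mul_prod_erase _ _ (show z ∈ Finset.univ.erase p by simp [hpz.symm]),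
      show f2 z = {0} by simp [f2, hpz.symm], Finset.card_singleton, one_mul]
    congr 1
    rw [Finset.prod_congr rfl (g := fun _ => q ^ 2) fun i hi => by
      simp [f2, Finset.ne_of_mem_erase hi, Finset.ne_of_mem_erase (Finset.mem_of_mem_erase hi), hF]]
    simp [Finset.card_erase_of_mem, hpz.symm, Nat.sub_sub]
  rw [hc1, hc2] at hsum
  have hs1 := skew_image hq hF he
  have hu1 := norm_one_image hq hF hp
  rw [← hS] at hs1
  rw [← hU] at hu1
  obtain ⟨k, hk⟩ : ∃ k, m = k + 2 := ⟨m - 2, by omega⟩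
  have hm1 : m - 1 = k + 1 := by omega
  have hm2 : m - 2 = k := by omega
  rw [hm1, hm2] at hsum
  have key : (q - 1) * (q ^ 2) ^ (k + 1) + (q + 1) * (q ^ 2) ^ k ≤ Ω.card :=
    le_trans (add_le_add (Nat.mul_le_mul_right _ hs1) (Nat.mul_le_mul_right _ hu1)) (hsum.trans hC')
  obtain ⟨r, rfl⟩ : ∃ r, q = r + 1 := ⟨q - 1, by omega⟩
  simp only [add_tsub_cancel_right] at key
  subst hk
  rw [pow_mul, pow_add ((r + 1) ^ 2) k 2]
  rw [pow_succ] at key
  generalize ((r + 1) ^ 2) ^ k = Q at key ⊢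
  refine le_trans (Nat.sub_le _ _) (le_trans ?_ (Nat.mul_le_mul_left _ key))
  nlinarith

include hσ hσσ hq hF hskew hinv in
/-- The orbit bound. -/
theorem card_bound (hm : 1 ≤ m) (h0 : ∀ B ∈ Ω, B ≠ 0) (hne : Ω.Nonempty) :
    q ^ (2 * m) - 1 ≤ (q + 1) * Ω.card := by
  classical
  obtain ⟨B, hBΩ⟩ := hne
  have hB := hskew B hBΩ
  by_cases hA : ∃ v, beta σ B v v = 0 ∧ B *ᵥ v ≠ 0
  · obtain ⟨v, hv, hBv⟩ := hA
    exact card_bound_iso σ hσ hσσ hq hF Ω hskew hinv hBΩ hv hBv
  push Not at hA
  obtain ⟨⟨e, he, hes⟩, ⟨τ, hτ⟩⟩ := skew_facts σ hσ hσσ hq hF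
  have hne' : ∃ x, σ x ≠ x := by
    by_contra! h
    rw [h τ] at hτ
    rw [h e] at hes
    refine he ?_
    linear_combination (-e) * hτ + τ * hes
  obtain ⟨v₀, hv₀⟩ := exists_beta_ne σ hσσ hne' hB (h0 B hBΩ)
  set c := beta σ B v₀ v₀ with hc'
  have hcs : σ c = -c := beta_flip σ hσσ hB v₀ v₀
  have hperp : ∀ w, beta σ B v₀ w = 0 → B *ᵥ w = 0 := by
    intro w hw
    by_cases hww : beta σ B w w = 0
    · exact hA w hww
    exfalso
    have hds : σ (-c / beta σ B w w) = -c / beta σ B w w := by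
      rw [map_div₀, map_neg, hcs, beta_flip σ hσσ hB, neg_div_neg_eq]
    obtain ⟨t, ht⟩ : ∃ t : Fˣ, (t : F) ^ (q + 1) = -c / beta σ B w w := by
      set d := -c / beta σ B w w
      have hd0 : d ≠ 0 := div_ne_zero (neg_ne_zero.mpr hv₀) hww
      have hsub : (Finset.univ.image fun y : Fˣ => y ^ (q + 1)) =
          Finset.univ.filter fun y : Fˣ => y ^ (q - 1) = 1 := by
        refine Finset.eq_of_subset_of_card_le ?_ ?_
        · intro a ha
          obtain ⟨y, -, rfl⟩ := Finset.mem_image.mp ha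
          refine Finset.mem_filter.mpr ⟨Finset.mem_univ _, ?_⟩
          rw [← pow_mul, show (q + 1) * (q - 1) = Fintype.card Fˣ by
            rw [Fintype.card_units, hF, ← Nat.sq_sub_sq, one_pow]]
          exact pow_card_eq_one
        · refine (IsCyclic.card_pow_eq_one_le (α := Fˣ) (show 0 < q - 1 by omega)).trans ?_
          have h2 := skew_image (F := F) hq hF (one_ne_zero)
          simpa [Finset.card_image_of_injective _ Units.val_injective, one_mul] using h2
      have hmem : Units.mk0 d hd0 ∈ Finset.univ.filter fun y : Fˣ => y ^ (q - 1) = 1 := by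
        refine Finset.mem_filter.mpr ⟨Finset.mem_univ _, Units.ext ?_⟩
        rw [hσ] at hds
        have h2 : d ^ (q - 1) * d = 1 * d := by
          rw [← pow_succ, show q - 1 + 1 = q by omega, hds, one_mul]
        simpa using mul_right_cancel₀ hd0 h2
      rw [← hsub] at hmem
      obtain ⟨y, -, hy⟩ := Finset.mem_image.mp hmem
      exact ⟨y, by simpa using congrArg Units.val hy⟩
    have hwv : beta σ B w v₀ = 0 := by
      have h2 := beta_flip σ hσσ hB v₀ w
      rw [hw, map_zero] at h2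
      linear_combination h2
    have hz : beta σ B (v₀ + (t : F) • w) (v₀ + (t : F) • w) = 0 := by
      simp only [beta_add_left, beta_add_right, beta_smul_left, beta_smul_right, hw, hwv, mul_zero,
        add_zero, zero_add, ← hc']
      rw [hσ, ← mul_assoc, ← pow_succ', ht]
      field_simp
      ring
    have h3 : beta σ B v₀ (v₀ + (t : F) • w) = 0 := by rw [beta, hA _ hz, dotProduct_zero]
    rw [beta_add_right, beta_smul_right, hw, mul_zero, add_zero] at h3
    exact hv₀ h3
  set u : Fin m → F := B *ᵥ v₀ with hu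
  have hBx : ∀ x, B *ᵥ x = (beta σ B v₀ x / c) • u := by
    intro x
    have h1 := hperp (x - (beta σ B v₀ x / c) • v₀) (by
      rw [sub_eq_add_neg, beta_add_right, ← neg_smul, beta_smul_right, ← hc']
      field_simp
      ring)
    rw [Matrix.mulVec_sub, Matrix.mulVec_smul, sub_eq_zero] at h1
    exact h1
  have hu0 : u ≠ 0 := fun h => hv₀ (by rw [hc', beta, ← hu, h, dotProduct_zero])
  have hform : B = (-c⁻¹) • Matrix.vecMulVec u (σ ∘ u) := by
    refine Matrix.ext fun i j => ?_
    have h1 := congrFun (hBx (Pi.single j (1 : F))) i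
    have h2 := beta_flip σ hσσ hB (Pi.single j (1 : F)) v₀
    have h3 : beta σ B (Pi.single j (1 : F)) v₀ = u j := by
      simp [beta, hu, dotProduct, Pi.single_apply, apply_ite σ]
    rw [h3] at h2
    simp only [Matrix.mulVec_single_one, Matrix.col_apply, Pi.smul_apply, smul_eq_mul] at h1
    rw [h1, show beta σ B v₀ (Pi.single j (1 : F)) = -σ (u j) by rw [h2, neg_neg]]
    simp [Matrix.vecMulVec_apply]
    ring
  set d := -c⁻¹
  have hd0 : d ≠ 0 := neg_ne_zero.mpr (inv_ne_zero hv₀)
  let T : (Fin m → F) → Matrix (Fin m) (Fin m) F := fun w => d • Matrix.vecMulVec w (σ ∘ w)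
  have hmemT : ∀ w, w ≠ 0 → T w ∈ Ω := by
    intro w hw
    obtain ⟨M, hM, hMu⟩ : ∃ M : Matrix (Fin m) (Fin m) F, Allowed M ∧ M *ᵥ u = w := by
      rcases (show m = 1 ∨ 2 ≤ m by omega) with rfl | hm2
      · have hu1 : u 0 ≠ 0 := fun h => hu0 (funext fun i => by rw [Fin.fin_one_eq_zero i, h]; rfl)
        have hw1 : w 0 ≠ 0 := fun h => hw (funext fun i => by rw [Fin.fin_one_eq_zero i, h]; rfl)
        refine ⟨Matrix.diagonal fun _ => w 0 / u 0, Or.inr ⟨rfl, by simp [hu1, hw1]⟩, ?_⟩
        funext i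
        rw [Fin.fin_one_eq_zero i, Matrix.mulVec_diagonal, div_mul_cancel₀ _ hu1]
      · obtain ⟨g, hg⟩ := Recog.CrossChar.exists_sl (by simpa using hm2) u w hu0 hw
        exact ⟨g, Or.inl g.2, hg⟩
    have hall : Allowed (hc σ M) := by
      rcases hM with h | ⟨h1, h2⟩
      · exact Or.inl (by rw [det_hc, h, map_one])
      · exact Or.inr ⟨h1, by rw [det_hc]; simpa using h2⟩
    have := hinv B hBΩ (hc σ M) hall
    rw [hc_hc σ hσσ, hform, Matrix.mul_smul, Matrix.smul_mul] at this
    convert this using 1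
    show d • _ = _
    rw [Matrix.mul_vecMulVec, Matrix.vecMulVec_mul, hMu]
    congr 2
    funext i
    rw [← hMu]
    simp [Matrix.vecMul, dotProduct, Matrix.mulVec, hc_apply, mul_comm]
  have hfib : ∀ a ∈ (Finset.univ.erase (0 : Fin m → F)).image T,
      ((Finset.univ.erase (0 : Fin m → F)).filter fun w => T w = a).card ≤ q + 1 := by
    intro a ha
    obtain ⟨w₀, hw₀, rfl⟩ := Finset.mem_image.mp ha
    have hw₀0 := Finset.ne_of_mem_erase hw₀
    refine le_trans ?_ (le_trans (Finset.card_image_le (f := fun t : Fˣ => (t : F) • w₀))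
      (IsCyclic.card_pow_eq_one_le (α := Fˣ) (Nat.succ_pos q)))
    refine Finset.card_le_card fun w hw => ?_
    obtain ⟨-, hwT⟩ := Finset.mem_filter.mp hw
    have hv : ∀ i j, w i * σ (w j) = w₀ i * σ (w₀ j) := fun i j => by
      have := congrFun (congrFun hwT i) j
      simpa [T, Matrix.vecMulVec_apply, hd0] using this
    obtain ⟨j, hj⟩ := Function.ne_iff.mp hw₀0
    rw [Pi.zero_apply] at hj
    have hj0 : σ (w₀ j) ≠ 0 := by simpa using hj
    have hwj : σ (w j) ≠ 0 := fun h => by
      have := hv j j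
      rw [h, mul_zero] at this
      exact mul_ne_zero hj hj0 this.symm
    have hwj' : w j ≠ 0 := fun h => hwj (by rw [h, map_zero])
    refine Finset.mem_image.mpr ⟨Units.mk0 (σ (w₀ j) / σ (w j)) (div_ne_zero hj0 hwj),
      Finset.mem_filter.mpr ⟨Finset.mem_univ _, Units.ext ?_⟩, funext fun i => ?_⟩
    · push_cast
      rw [Units.val_mk0, pow_succ, ← hσ, map_div₀, hσσ, hσσ]
      field_simp
      linear_combination -(hv j j)
    · simp only [Units.val_mk0, Pi.smul_apply, smul_eq_mul]
      field_simp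
      linear_combination -(hv i j)
  calc q ^ (2 * m) - 1 = (Finset.univ.erase (0 : Fin m → F)).card := by
        rw [Finset.card_erase_of_mem (Finset.mem_univ _), Finset.card_univ, Fintype.card_fun, hF,
          Fintype.card_fin, pow_mul]
    _ ≤ (q + 1) * ((Finset.univ.erase (0 : Fin m → F)).image T).card :=
        Finset.card_le_mul_card_image _ _ hfib
    _ ≤ (q + 1) * Ω.card := by
        refine Nat.mul_le_mul_left _ (Finset.card_le_card fun a ha => ?_)
        obtain ⟨w, hw, rfl⟩ := Finset.mem_image.mp ha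
        exact hmemT w (Finset.ne_of_mem_erase hw)

end Cfsg.Agent.HermOrbit
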