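import Mathlib

/-!
Commuting pairs of operators, each pair generating `S₃` or `Q₈`, need two dimensions per pair.
-/

set_option autoImplicit false

namespace Cfsg.Agent.MinDeg

open Module

variable {K : Type*} [Field K] [IsAlgClosed K] {V : Type*} [AddCommGroup V] [Module K V]
  [FiniteDimensional K V] {ι : Type*}

/-- The hypotheses on the operators. -/
structure PairSystem (x y c : ι → Module.End K V) (k r : ℕ) : Prop where
  rpos : (r : K) ≠ 0
  cpow : ∀ i, c i ^ r = 1
  xx : ∀ i l, i ≠ l → Commute (x i) (x l)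
  xy : ∀ i l, i ≠ l → Commute (x i) (y l)
  cx : ∀ i l, Commute (c i) (x l)
  cy : ∀ i l, i ≠ l → Commute (c i) (y l)
  cc : ∀ i l, Commute (c i) (c l)
  cyi : ∀ i, ∃ j, c i * y i = y i * c i ^ j ∧ y i * c i = c i ^ j * y i
  xyi : ∀ i, x i * y i = y i * x i ^ k
  yinj : ∀ i, Function.Injective (y i)
  sep : ∀ i (v : V) (a : K), v ≠ 0 → x i v = a • v → c i v ≠ v → a ^ k ≠ a

variable {x y c : ι → Module.End K V} {k r : ℕ}

theorem pow_mulVec_eigen (f : Module.End K V) {v : V} {a : K} (h : f v = a • v) (n : ℕ) :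
    (f ^ n) v = a ^ n • v := by
  induction n with
  | zero => simp
  | succ n ih => rw [pow_succ, Module.End.mul_apply, h, map_smul, ih, smul_smul, pow_succ']

/-- An invariant subspace on which every `c i`, `i ∈ S`, is non-trivial has dimension at least `2 * #S`. -/
theorem PairSystem.two_mul_card_le [DecidableEq ι] (H : PairSystem x y c k r) (m : ℕ) :
    ∀ (W : Submodule K V) (S : Finset ι), finrank K W ≤ m →
      (∀ i ∈ S, ∀ w ∈ W, x i w ∈ W ∧ y i w ∈ W ∧ c i w ∈ W) →
      (∀ i ∈ S, ∃ w ∈ W, c i w ≠ w) → 2 * S.card ≤ finrank K W := by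
  induction m using Nat.strong_induction_on with
  | _ m ih =>
  intro W S hm hinv hne
  rcases S.eq_empty_or_nonempty with rfl | ⟨i, hi⟩
  · simp
  have hcW : ∀ j ∈ S, ∀ w ∈ W, c j w ∈ W := fun j hj w hw => (hinv j hj w hw).2.2
  by_cases hfix : ∃ j ∈ S, ∃ w ∈ W, w ≠ 0 ∧ c j w = w
  · obtain ⟨j, hj, w₀, hw₀, hw₀ne, hw₀fix⟩ := hfix
    let T : Module.End K W := (c j - 1).restrict (p := W) (q := W) fun w hw => by
      rw [LinearMap.sub_apply]
      exact W.sub_mem (hcW j hj w hw) hw
    set W1 := (LinearMap.ker T).map W.subtype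
    set W2 := (LinearMap.range T).map W.subtype
    have h1 : ∀ {w}, w ∈ W1 ↔ w ∈ W ∧ c j w = w := by
      intro w
      constructor
      · rintro ⟨w', hw', rfl⟩
        refine ⟨w'.2, ?_⟩
        have := congrArg Subtype.val (LinearMap.mem_ker.mp hw')
        simpa [T, LinearMap.restrict_apply, sub_eq_zero] using this
      · rintro ⟨hw, he⟩
        exact ⟨⟨w, hw⟩, LinearMap.mem_ker.mpr (Subtype.ext (by
          simp [T, LinearMap.restrict_apply, he])), rfl⟩
    have h2 : ∀ {w}, w ∈ W2 ↔ ∃ u ∈ W, c j u - u = w := by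
      intro w
      constructor
      · rintro ⟨_, ⟨u, rfl⟩, rfl⟩
        exact ⟨u, u.2, rfl⟩
      · rintro ⟨u, hu, rfl⟩
        exact ⟨T ⟨u, hu⟩, ⟨_, rfl⟩, rfl⟩
    have hdim : finrank K W1 + finrank K W2 = finrank K W := by
      rw [Submodule.finrank_map_subtype_eq, Submodule.finrank_map_subtype_eq, add_comm]
      exact T.finrank_range_add_finrank_ker
    have hdis : ∀ u ∈ W, c j u - u ∈ W1 → c j u = u := by
      intro u hu hm1
      set v := c j u - u with hv
      have hfix : c j v = v := (h1.mp hm1).2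
      have hit : ∀ n : ℕ, (c j ^ n) u = u + (n : K) • v := by
        intro n
        induction n with
        | zero => simp
        | succ n ihn =>
          rw [pow_succ', Module.End.mul_apply, ihn, map_add, map_smul, hfix, hv]
          push_cast
          module
      have := hit r
      rw [H.cpow, Module.End.one_apply, left_eq_add, smul_eq_zero] at this
      exact sub_eq_zero.mp (this.resolve_left H.rpos)
    have hpos2 : 0 < finrank K W2 := by
      obtain ⟨w, hw, hwne⟩ := hne j hj
      have hm2 : c j w - w ∈ W2 := h2.mpr ⟨w, hw, rfl⟩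
      haveI : Nontrivial W2 := ⟨⟨⟨_, hm2⟩, 0, fun e => hwne (sub_eq_zero.mp (congrArg Subtype.val e))⟩⟩
      exact Module.finrank_pos
    have hpos1 : 0 < finrank K W1 := by
      haveI : Nontrivial W1 := ⟨⟨⟨w₀, h1.mpr ⟨hw₀, hw₀fix⟩⟩, 0, fun e => hw₀ne (congrArg Subtype.val e)⟩⟩
      exact Module.finrank_pos
    have hcomm : ∀ l ∈ S, ∀ f : Module.End K V, (f = x l ∨ f = y l ∨ f = c l) →
        (∀ w ∈ W, f w ∈ W) → (∀ w, c j w = w → c j (f w) = f w) ∧
          ∀ u ∈ W, ∃ u' ∈ W, c j u' - u' = f (c j u - u) := by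
      intro l hl f hf hfW
      -- `c j * f = f * c j ^ e` for some `e`
      obtain ⟨e, he, he'⟩ : ∃ e, c j * f = f * c j ^ e ∧ f * c j = c j ^ e * f := by
        rcases hf with rfl | rfl | rfl
        · exact ⟨1, by rw [pow_one]; exact ⟨(H.cx j l).eq, (H.cx j l).eq.symm⟩⟩
        · by_cases hjl : j = l
          · subst hjl; exact H.cyi j
          · exact ⟨1, by rw [pow_one]; exact ⟨(H.cy j l hjl).eq, (H.cy j l hjl).eq.symm⟩⟩
        · exact ⟨1, by rw [pow_one]; exact ⟨(H.cc j l).eq, (H.cc j l).eq.symm⟩⟩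
      refine ⟨fun w hw => ?_, fun u hu => ?_⟩
      · have := LinearMap.congr_fun he w
        simp only [Module.End.mul_apply] at this
        rw [this, pow_mulVec_eigen (c j) (a := 1) (by rw [hw, one_smul]), one_pow, one_smul]
      · have h := LinearMap.congr_fun he' u
        simp only [Module.End.mul_apply] at h
        rw [map_sub, h]
        clear h he he'
        induction e with
        | zero => exact ⟨0, W.zero_mem, by simp⟩
        | succ e ihe =>
          obtain ⟨u', hu', h'⟩ := ihe
          have hpw : ∀ n : ℕ, (c j ^ n) (f u) ∈ W := by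
            intro n
            induction n with
            | zero => simpa using hfW u hu
            | succ n ihn => rw [pow_succ', Module.End.mul_apply]; exact hcW j hj _ ihn
          refine ⟨u' + (c j ^ e) (f u), W.add_mem hu' (hpw e), ?_⟩
          rw [map_add, pow_succ', Module.End.mul_apply]
          linear_combination (norm := module) h'
    have hinv12 : ∀ (W' : Submodule K V), (W' = W1 ∨ W' = W2) →
        ∀ i ∈ S, ∀ w ∈ W', x i w ∈ W' ∧ y i w ∈ W' ∧ c i w ∈ W' := by
      intro W' hW' l hl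
      have key : ∀ f : Module.End K V, (f = x l ∨ f = y l ∨ f = c l) → (∀ w ∈ W, f w ∈ W) →
          ∀ w ∈ W', f w ∈ W' := by
        intro f hf hfW w hw
        obtain ⟨ha, hb⟩ := hcomm l hl f hf hfW
        rcases hW' with rfl | rfl
        · exact h1.mpr ⟨hfW w (h1.mp hw).1, ha w (h1.mp hw).2⟩
        · obtain ⟨u, hu, rfl⟩ := h2.mp hw
          exact h2.mpr (hb u hu)
      intro w hw
      exact ⟨key _ (Or.inl rfl) (fun v hv => (hinv l hl v hv).1) w hw,
        key _ (Or.inr (Or.inl rfl)) (fun v hv => (hinv l hl v hv).2.1) w hw,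
        key _ (Or.inr (Or.inr rfl)) (fun v hv => (hinv l hl v hv).2.2) w hw⟩
    classical
    set S1 := S.filter (fun l => ∃ w ∈ W1, c l w ≠ w) with hS1
    set S2 := S.filter (fun l => ∃ w ∈ W2, c l w ≠ w) with hS2
    have hcov : S ⊆ S1 ∪ S2 := by
      intro l hl
      rw [Finset.mem_union, hS1, hS2, Finset.mem_filter, Finset.mem_filter]
      by_contra hno
      push Not at hno
      obtain ⟨n1, n2⟩ := hno
      obtain ⟨w, hw, hwne⟩ := hne l hl
      -- decompose `w`
      have hsplit : ∃ a ∈ W1, ∃ b ∈ W2, a + b = w := by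
        have hd : Disjoint W1 W2 := by
          rw [Submodule.disjoint_def]
          intro v hv1 hv2
          obtain ⟨u, hu, rfl⟩ := h2.mp hv2
          rw [hdis u hu hv1, sub_self]
        have hle : W1 ⊔ W2 ≤ W := sup_le (Submodule.map_subtype_le _ _) (Submodule.map_subtype_le _ _)
        have heq : W1 ⊔ W2 = W := Submodule.eq_of_le_of_finrank_le hle (by
          have := Submodule.finrank_sup_add_finrank_inf_eq W1 W2
          rw [hd.eq_bot, finrank_bot] at this
          omega)
        exact Submodule.mem_sup.mp (heq.symm ▸ hw)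
      obtain ⟨a, ha, b, hb, rfl⟩ := hsplit
      exact hwne (by rw [map_add, n1 hl a ha, n2 hl b hb])
    have e1 := ih _ (show finrank K W1 < m by omega) W1 S1 le_rfl
      (fun l hl => hinv12 W1 (Or.inl rfl) l (Finset.mem_filter.mp hl).1)
      (fun l hl => (Finset.mem_filter.mp hl).2)
    have e2 := ih _ (show finrank K W2 < m by omega) W2 S2 le_rfl
      (fun l hl => hinv12 W2 (Or.inr rfl) l (Finset.mem_filter.mp hl).1)
      (fun l hl => (Finset.mem_filter.mp hl).2)
    have := (Finset.card_le_card hcov).trans (Finset.card_union_le _ _)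
    omega
  · -- every `c l` is fixed-point-free on `W`
    push Not at hfix
    haveI : Nontrivial W := by
      obtain ⟨w, hw, hwne⟩ := hne i hi
      exact ⟨⟨⟨w, hw⟩, 0, fun e => hwne (by rw [show w = 0 from congrArg Subtype.val e, map_zero])⟩⟩
    obtain ⟨a, ha⟩ := Module.End.exists_eigenvalue ((x i).restrict (p := W) (q := W) (fun w hw => (hinv i hi w hw).1))
    obtain ⟨v, hv⟩ := ha.exists_hasEigenvector
    have hvx : x i (v : V) = a • (v : V) := congrArg Subtype.val hv.apply_eq_smul
    have hv0 : (v : V) ≠ 0 := fun e => hv.2 (Subtype.ext e)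
    have hak : a ^ k ≠ a := H.sep i v a hv0 hvx (hfix i hi v v.2 hv0)
    set W1 := W ⊓ LinearMap.ker (x i - a • 1) with hW1
    have h1 : ∀ {w}, w ∈ W1 ↔ w ∈ W ∧ x i w = a • w := by
      intro w; simp [hW1, sub_eq_zero]
    haveI : Nontrivial W1 := ⟨⟨⟨v, h1.mpr ⟨v.2, hvx⟩⟩, 0, fun e => hv0 (congrArg Subtype.val e)⟩⟩
    set W2 := W1.map (y i) with hW2
    have hd : Disjoint W1 W2 := by
      rw [Submodule.disjoint_def]
      rintro _ hu ⟨w, hw, rfl⟩
      have h3 := (h1.mp hu).2
      have h4 := LinearMap.congr_fun (H.xyi i) w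
      simp only [Module.End.mul_apply] at h4
      rw [pow_mulVec_eigen (x i) (h1.mp hw).2, map_smul, h3] at h4
      have : (a - a ^ k) • y i w = 0 := by rw [sub_smul, h4, sub_self]
      exact (smul_eq_zero.mp this).resolve_left (sub_ne_zero.mpr (Ne.symm hak))
    have hle : W1 ⊔ W2 ≤ W := by
      refine sup_le inf_le_left ?_
      rintro _ ⟨w, hw, rfl⟩
      exact (hinv i hi w (h1.mp hw).1).2.1
    have hrank : 2 * finrank K W1 ≤ finrank K W := by
      have := Submodule.finrank_sup_add_finrank_inf_eq W1 W2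
      rw [hd.eq_bot, finrank_bot, ← (W1.equivMapOfInjective _ (H.yinj i)).finrank_eq] at this
      have := Submodule.finrank_mono hle
      omega
    have hpos : 0 < finrank K W1 := Module.finrank_pos
    have hinv1 : ∀ l ∈ S.erase i, ∀ w ∈ W1, x l w ∈ W1 ∧ y l w ∈ W1 ∧ c l w ∈ W1 := by
      intro l hl w hw
      obtain ⟨hli, hlS⟩ := Finset.mem_erase.mp hl
      obtain ⟨b1, b2, b3⟩ := hinv l hlS w (h1.mp hw).1
      have key : ∀ f : Module.End K V, Commute (x i) f → f w ∈ W → f w ∈ W1 := fun f hf hfw =>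
        h1.mpr ⟨hfw, by
          have := LinearMap.congr_fun hf.eq w
          simp only [Module.End.mul_apply] at this
          rw [this, (h1.mp hw).2, map_smul]⟩
      exact ⟨key _ (H.xx i l (Ne.symm hli)) b1, key _ (H.xy i l (Ne.symm hli)) b2, key _ (H.cx l i).symm b3⟩
    have hne1 : ∀ l ∈ S.erase i, ∃ w ∈ W1, c l w ≠ w := fun l hl =>
      ⟨v, h1.mpr ⟨v.2, hvx⟩, hfix l (Finset.mem_of_mem_erase hl) v v.2 hv0⟩
    have e1 := ih _ (show finrank K W1 < m by omega) W1 (S.erase i) le_rfl hinv1 hne1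
    rw [Finset.card_erase_of_mem hi] at e1
    have := S.card_pos.mpr ⟨i, hi⟩
    omega

end Cfsg.Agent.MinDeg
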