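import Mathlib
import Cfsg.Agent.Lib.Recog.CrossChar.Groups

/-!
A lower bound for the number of quadratic functions in a linearly invariant set over a finite field of
characteristic two, one of them with non-zero polar form.
-/

set_option autoImplicit false
set_option linter.unusedSectionVars false

namespace Cfsg.Agent.QuadOrbit

open Matrix Finset

variable {F : Type*} [Field F] {n : ℕ}

/-- Quadratic functions. -/
def quad (Q : Matrix (Fin n) (Fin n) F) (v : Fin n → F) : F := v ⬝ᵥ (Q *ᵥ v)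

/-- The polar form. -/
def pol (Q : Matrix (Fin n) (Fin n) F) (v w : Fin n → F) : F := v ⬝ᵥ ((Q + Qᵀ) *ᵥ w)

theorem pol_eq (Q : Matrix (Fin n) (Fin n) F) (v w : Fin n → F) :
    pol Q v w = v ⬝ᵥ (Q *ᵥ w) + w ⬝ᵥ (Q *ᵥ v) := by
  rw [pol, Matrix.add_mulVec, dotProduct_add, Matrix.dotProduct_mulVec v Qᵀ, Matrix.vecMul_transpose,
    dotProduct_comm (Q *ᵥ v)]

theorem pol_comm (Q : Matrix (Fin n) (Fin n) F) (v w : Fin n → F) : pol Q v w = pol Q w v := by
  rw [pol_eq, pol_eq, add_comm]

theorem pol_add_left (Q : Matrix (Fin n) (Fin n) F) (u v w : Fin n → F) :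
    pol Q (u + v) w = pol Q u w + pol Q v w := add_dotProduct _ _ _

theorem pol_smul_left (Q : Matrix (Fin n) (Fin n) F) (t : F) (v w : Fin n → F) :
    pol Q (t • v) w = t * pol Q v w := by rw [pol, smul_dotProduct, smul_eq_mul]; rfl

theorem quad_add (Q : Matrix (Fin n) (Fin n) F) (v w : Fin n → F) :
    quad Q (v + w) = quad Q v + quad Q w + pol Q v w := by
  simp only [quad, pol_eq, Matrix.mulVec_add, dotProduct_add, add_dotProduct]; ring

theorem quad_smul (Q : Matrix (Fin n) (Fin n) F) (t : F) (v : Fin n → F) :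
    quad Q (t • v) = t ^ 2 * quad Q v := by
  simp only [quad, Matrix.mulVec_smul, smul_dotProduct, dotProduct_smul, smul_eq_mul]; ring

theorem quad_conj (Q A : Matrix (Fin n) (Fin n) F) (v : Fin n → F) :
    quad (Aᵀ * Q * A) v = quad Q (A *ᵥ v) := by
  rw [quad, quad, ← Matrix.mulVec_mulVec, ← Matrix.mulVec_mulVec, Matrix.dotProduct_mulVec,
    Matrix.vecMul_transpose]

theorem pol_self [CharP F 2] (Q : Matrix (Fin n) (Fin n) F) (v : Fin n → F) : pol Q v v = 0 := by
  rw [pol_eq, CharTwo.add_self_eq_zero]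

theorem exists_both {φ W : Fin n → F} (hφ : φ ≠ 0) (hW : W ≠ 0) :
    ∃ z, φ ⬝ᵥ z = 1 ∧ W ⬝ᵥ z ≠ 0 := by
  classical
  obtain ⟨i, hi⟩ := Function.ne_iff.mp hφ
  obtain ⟨j, hj⟩ := Function.ne_iff.mp hW
  rw [Pi.zero_apply] at hi hj
  have key : ∃ z, φ ⬝ᵥ z ≠ 0 ∧ W ⬝ᵥ z ≠ 0 := by
    by_cases h1 : W i = 0
    · by_cases h2 : φ j = 0
      · refine ⟨Pi.single i 1 + Pi.single j 1, ?_, ?_⟩
        · simpa [dotProduct_add, h2] using hi
        · simpa [dotProduct_add, h1] using hj
      · exact ⟨Pi.single j 1, by simpa using h2, by simpa using hj⟩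
    · exact ⟨Pi.single i 1, by simpa using hi, by simpa using h1⟩
  obtain ⟨z, hz1, hz2⟩ := key
  exact ⟨(φ ⬝ᵥ z)⁻¹ • z, by rw [dotProduct_smul, smul_eq_mul, inv_mul_cancel₀ hz1],
    by rw [dotProduct_smul, smul_eq_mul]; exact mul_ne_zero (inv_ne_zero hz1) hz2⟩

theorem det_one_add (z u : Fin n → F) :
    (1 + Matrix.vecMulVec z u).det = 1 + u ⬝ᵥ z := by
  rw [Matrix.vecMulVec_eq Unit, Matrix.det_one_add_replicateCol_mul_replicateRow]

theorem linearMap_of_mul_eq_zero {a b : Fin n → F} (h : ∀ v, (a ⬝ᵥ v) * (b ⬝ᵥ v) = 0) : a = 0 ∨ b = 0 := by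
  by_contra! hne
  obtain ⟨z, hz1, hz2⟩ := exists_both hne.1 hne.2
  exact mul_ne_zero (by rw [hz1]; exact one_ne_zero) hz2 (h z)

/-- Transitivity on pairs of independent vectors. -/
theorem exists_pair [DecidableEq F] (hn : 2 ≤ n) {l m l' m' : Fin n → F} (hl : l ≠ 0) (hm : m ∉ F ∙ l)
    (hl' : l' ≠ 0) (hm' : m' ∉ F ∙ l') :
    ∃ A : Matrix (Fin n) (Fin n) F, A.det ≠ 0 ∧ A *ᵥ l = l' ∧ A *ᵥ m = m' := by
  classical
  obtain ⟨g, hg⟩ := Recog.CrossChar.exists_sl (by simpa using hn) l l' hl hl'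
  set m₁ := (g : Matrix (Fin n) (Fin n) F) *ᵥ m with hm₁
  have hm₁' : m₁ ∉ F ∙ l' := by
    intro h
    obtain ⟨s, hs⟩ := Submodule.mem_span_singleton.mp h
    refine hm (Submodule.mem_span_singleton.mpr ⟨s, ?_⟩)
    rw [hm₁, ← hg, ← Matrix.mulVec_smul] at hs
    exact Matrix.mulVec_injective_iff_isUnit.mpr ((Matrix.isUnit_iff_isUnit_det _).mpr (by rw [g.2]; exact isUnit_one)) hs
  have dual : ∀ x : Fin n → F, x ∉ F ∙ l' → ∃ φ : Fin n → F, φ ⬝ᵥ l' = 0 ∧ φ ⬝ᵥ x ≠ 0 := by
    intro x hx
    obtain ⟨f, hf, hf'⟩ := Submodule.exists_dual_map_eq_bot_of_notMem hx inferInstance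
    have hdot : ∀ y : Fin n → F, (fun i => f (Pi.single i 1)) ⬝ᵥ y = f y := by
      intro y
      conv_rhs => rw [← Finset.univ_sum_single y, map_sum]
      refine Finset.sum_congr rfl fun i _ => ?_
      rw [show (Pi.single i (y i) : Fin n → F) = y i • Pi.single i (1 : F) by
        rw [← Pi.single_smul, smul_eq_mul, mul_one], map_smul, smul_eq_mul, mul_comm]
    refine ⟨fun i => f (Pi.single i 1), ?_, by rw [hdot]; exact hf⟩
    rw [hdot]
    exact (Submodule.mem_bot F).1 (hf' ▸ Submodule.mem_map_of_mem (Submodule.mem_span_singleton_self _))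
  obtain ⟨φ₁, h1, h1'⟩ := dual m₁ hm₁'
  obtain ⟨φ₂, h2, h2'⟩ := dual m' hm'
  obtain ⟨φ, h, ha, hb⟩ : ∃ φ : Fin n → F, φ ⬝ᵥ l' = 0 ∧ φ ⬝ᵥ m₁ ≠ 0 ∧ φ ⬝ᵥ m' ≠ 0 := by
    by_cases e1 : φ₁ ⬝ᵥ m' = 0
    · by_cases e2 : φ₂ ⬝ᵥ m₁ = 0
      · refine ⟨φ₁ + φ₂, ?_, ?_, ?_⟩ <;> simp [add_dotProduct, h1, h2, e1, e2, h1', h2']
      · exact ⟨φ₂, h2, e2, h2'⟩
    · exact ⟨φ₁, h1, h1', e1⟩
  set u := (φ ⬝ᵥ m₁)⁻¹ • φ with hu
  refine ⟨(1 + Matrix.vecMulVec (m' - m₁) u) * (g : Matrix (Fin n) (Fin n) F), ?_, ?_, ?_⟩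
  · rw [Matrix.det_mul, g.2, mul_one, det_one_add, hu, smul_dotProduct, dotProduct_sub, smul_eq_mul,
      mul_sub, inv_mul_cancel₀ ha, add_sub_cancel]
    exact mul_ne_zero (inv_ne_zero ha) hb
  · rw [← Matrix.mulVec_mulVec, hg, Matrix.add_mulVec, Matrix.one_mulVec, Matrix.vecMulVec_mulVec]
    simp [hu, h]
  · rw [← Matrix.mulVec_mulVec, ← hm₁, Matrix.add_mulVec, Matrix.one_mulVec, Matrix.vecMulVec_mulVec]
    simp [hu, ha]

variable [Fintype F] [DecidableEq F]
variable (Ω : Finset ((Fin n → F) → F))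
  (hquad : ∀ f ∈ Ω, ∃ Q : Matrix (Fin n) (Fin n) F, f = quad Q)
  (hinv : ∀ f ∈ Ω, ∀ A : Matrix (Fin n) (Fin n) F, A.det ≠ 0 → (fun v => f (A *ᵥ v)) ∈ Ω)

include hinv in
/-- The singular non-radical case. -/
theorem bound_singular [CharP F 2] (hn : 2 ≤ n) {Q : Matrix (Fin n) (Fin n) F} (hQ : quad Q ∈ Ω)
    {v y : Fin n → F} (hv : quad Q v = 0) (hvy : pol Q v y = 1) :
    (Fintype.card F ^ (n - 1) - 1) * Fintype.card F ^ (n - 1) * (Fintype.card F + 1) ≤ 2 * Ω.card := by
  classical
  set q := Fintype.card F with hq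
  let z : Fin n := ⟨0, by omega⟩
  set e : Fin n → F := Pi.single z 1 with he
  have he0 : e ≠ 0 := by simp [he]
  -- the data of a function
  let D : ((Fin n → F) → F) → F × (Fin n → F) := fun f =>
    (f e, fun i => f (e + Pi.single i 1) - f e - f (Pi.single i 1))
  set W : Finset (Fin n → F) := Finset.univ.filter fun w => w z = 0 ∧ w ≠ 0 with hW
  have hDquad : ∀ P : Matrix (Fin n) (Fin n) F,
      D (quad P) = (quad P e, fun i => pol P e (Pi.single i 1)) := fun P =>
    Prod.ext rfl (funext fun i => by simp only [D, quad_add]; ring)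
  have hpolW : ∀ (P : Matrix (Fin n) (Fin n) F) (v : Fin n → F),
      pol P e v = (fun i => pol P e (Pi.single i 1)) ⬝ᵥ v := fun P v => by
    simp only [pol, Matrix.dotProduct_mulVec e, dotProduct_single, mul_one]
  -- the fibres
  have hfib : ∀ c : F, ∀ w ∈ W, (if c = 0 then 2 else 1) * q ^ (n - 1) ≤
      2 * (Ω.filter fun f => D f = (c, w)).card := by
    intro c w hw
    obtain ⟨-, hwz, hw0⟩ := Finset.mem_filter.mp hw
    -- a vector with the given value and one partner
    obtain ⟨u, hu, hupol⟩ : ∃ u, quad Q u = c ∧ ∃ x, pol Q u x ≠ 0 := by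
      refine ⟨(c - quad Q y) • v + y, ?_, v, ?_⟩
      · rw [quad_add, quad_smul, hv, pol_smul_left, hvy]; ring
      · rw [pol_add_left, pol_smul_left, pol_self, pol_comm, hvy]; simp
    have hu0 : u ≠ 0 := by
      rintro rfl
      obtain ⟨x, hx⟩ := hupol
      exact hx (zero_dotProduct _)
    obtain ⟨g, hg⟩ := Recog.CrossChar.exists_sl (by simpa using hn) e u he0 hu0
    set P := (g : Matrix (Fin n) (Fin n) F)ᵀ * Q * g with hP
    set φ : Fin n → F := fun i => pol P e (Pi.single i 1) with hφ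
    have hφe : φ ⬝ᵥ e = 0 := by rw [← hpolW, pol_self]
    have hφ0 : φ ≠ 0 := by
      intro h
      obtain ⟨x, hx⟩ := hupol
      have hg' : IsUnit (g : Matrix (Fin n) (Fin n) F).det := by rw [g.2]; exact isUnit_one
      refine hx ?_
      have h1 : pol P e ((g : Matrix (Fin n) (Fin n) F)⁻¹ *ᵥ x) = 0 := by rw [hpolW, ← hφ, h, zero_dotProduct]
      rw [pol_eq] at h1 ⊢
      simp only [hP, ← Matrix.mulVec_mulVec, Matrix.dotProduct_mulVec _ (g : Matrix (Fin n) (Fin n) F)ᵀ,
        Matrix.vecMul_transpose, hg, Matrix.mulVec_mulVec _ (g : Matrix (Fin n) (Fin n) F),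
        Matrix.mul_nonsing_inv _ hg', Matrix.one_mulVec] at h1
      exact h1
    obtain ⟨x, hx1, hx2⟩ := exists_both hφ0 hw0
    set H := 1 + Matrix.vecMulVec x (w - φ) with hH
    have hHe : H *ᵥ e = e := by
      rw [hH, Matrix.add_mulVec, Matrix.one_mulVec, Matrix.vecMulVec_mulVec, sub_dotProduct, hφe]
      simp [he, hwz]
    have hHdet : H.det ≠ 0 := by
      rw [hH, det_one_add, sub_dotProduct, hx1, add_sub_cancel]
      exact hx2
    set R := Hᵀ * P * H with hR
    have hRΩ : quad R ∈ Ω := by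
      rw [show quad R = fun a => (fun b => quad Q ((g : Matrix (Fin n) (Fin n) F) *ᵥ b)) (H *ᵥ a) from
        funext fun a => by rw [hR, quad_conj, hP, quad_conj]]
      exact hinv _ (hinv _ hQ _ (by rw [g.2]; exact one_ne_zero)) _ hHdet
    have hRe : quad R e = c := by rw [hR, quad_conj, hHe, hP, quad_conj, hg, hu]
    have hRw : ∀ a, pol R e a = w ⬝ᵥ a := by
      intro a
      have h1 : pol R e a = pol P e (H *ᵥ a) := by
        have h := quad_add R e a
        have hRq : ∀ v, quad R v = quad P (H *ᵥ v) := fun v => by rw [hR, quad_conj]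
        rw [hRq (e + a), hRq e, hRq a, Matrix.mulVec_add, quad_add, hHe] at h
        exact (add_left_cancel h).symm
      rw [h1, hpolW, ← hφ, hH, Matrix.add_mulVec, Matrix.one_mulVec, Matrix.vecMulVec_mulVec,
        dotProduct_add, dotProduct_smul]
      simp [hx1, sub_dotProduct]
    -- the transvections fixing the data
    set S : Finset (Fin n → F) := Finset.univ.filter fun α => α z = 0 with hS
    have hScard : S.card = q ^ (n - 1) := by
      have : S = Fintype.piFinset (Function.update (fun _ => (Finset.univ : Finset F)) z {0}) := by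
        ext α
        simp only [hS, Finset.mem_filter, Finset.mem_univ, true_and, Fintype.mem_piFinset]
        refine ⟨fun h i => ?_, fun h => by simpa using h z⟩
        rcases eq_or_ne i z with rfl | hi <;> simp [*]
      rw [this, Fintype.card_piFinset, ← Finset.mul_prod_erase _ _ (Finset.mem_univ z),
        Finset.prod_congr rfl (g := fun _ => q) fun i hi => by simp [Finset.ne_of_mem_erase hi, hq]]
      simp [Finset.card_erase_of_mem]
    let T : (Fin n → F) → ((Fin n → F) → F) := fun α a => quad R (a + (α ⬝ᵥ a) • e)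
    have hTval : ∀ α a, T α a = quad R a + (α ⬝ᵥ a) ^ 2 * c + (α ⬝ᵥ a) * (w ⬝ᵥ a) := fun α a => by
      simp only [T, quad_add, quad_smul, hRe]
      rw [pol_comm, pol_smul_left, hRw]
    have hTmem : ∀ α ∈ S, T α ∈ Ω.filter fun f => D f = (c, w) := by
      intro α hα
      have hα0 : α ⬝ᵥ e = 0 := by simpa [he] using (Finset.mem_filter.mp hα).2
      have hmat : ∀ a, (1 + Matrix.vecMulVec e α) *ᵥ a = a + (α ⬝ᵥ a) • e := fun a => by
        rw [Matrix.add_mulVec, Matrix.one_mulVec, Matrix.vecMulVec_mulVec]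
        simp
      refine Finset.mem_filter.mpr ⟨?_, ?_⟩
      · have := hinv _ hRΩ (1 + Matrix.vecMulVec e α) (by rw [det_one_add, hα0, add_zero]; exact one_ne_zero)
        simpa only [T, hmat] using this
      · refine Prod.ext ?_ (funext fun i => ?_)
        · show T α e = c
          rw [hTval, hα0, hRe]; ring
        · show T α (e + Pi.single i 1) - T α e - T α (Pi.single i 1) = w i
          rw [hTval, hTval, hTval, quad_add, dotProduct_add, dotProduct_add, hα0, hRw]
          simp [he, hwz]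
          ring
    have hT2 : ∀ f ∈ S.image T, (S.filter fun α => T α = f).card ≤ if c = 0 then 1 else 2 := by
      intro f hf
      obtain ⟨α₀, -, rfl⟩ := Finset.mem_image.mp hf
      have key : ∀ α, T α = T α₀ → α = α₀ ∨ c • (α - α₀) + w = 0 := by
        intro α h
        rcases linearMap_of_mul_eq_zero (a := α - α₀) (b := c • (α - α₀) + w) (fun a => by
          have h1 := congrFun h a
          rw [hTval, hTval] at h1
          rw [add_dotProduct, smul_dotProduct, sub_dotProduct, smul_eq_mul]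
          have h2 : (2 : F) = 0 := CharTwo.two_eq_zero
          linear_combination h1 + c * ((α₀ ⬝ᵥ a) ^ 2 - (α ⬝ᵥ a) * (α₀ ⬝ᵥ a)) * h2) with h' | h'
        · exact Or.inl (sub_eq_zero.mp h')
        · exact Or.inr h'
      split_ifs with hc
      · refine Finset.card_le_one.mpr fun a ha b hb => ?_
        have h' : ∀ α ∈ S.filter (fun α => T α = T α₀), α = α₀ := by
          intro α hα
          rcases key α (Finset.mem_filter.mp hα).2 with h | h
          · exact h
          · rw [hc, zero_smul, zero_add] at h; exact absurd h hw0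
        rw [h' a ha, h' b hb]
      · refine le_trans (Finset.card_le_card (t := {α₀, α₀ - c⁻¹ • w}) fun α hα => ?_) Finset.card_le_two
        rcases key α (Finset.mem_filter.mp hα).2 with h | h
        · simp [h]
        · refine Finset.mem_insert_of_mem (Finset.mem_singleton.mpr ?_)
          have : α - α₀ = -(c⁻¹ • w) := by
            rw [eq_neg_iff_add_eq_zero, ← inv_smul_smul₀ hc (α - α₀), ← smul_add, h, smul_zero]
          rw [sub_eq_iff_eq_add] at this
          rw [this]; abel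
    have h1 := Finset.card_le_mul_card_image S (if c = 0 then 1 else 2) hT2
    have h2 : (S.image T).card ≤ (Ω.filter fun f => D f = (c, w)).card :=
      Finset.card_le_card fun f hf => by
        obtain ⟨α, hα, rfl⟩ := Finset.mem_image.mp hf
        exact hTmem α hα
    rw [hScard] at h1
    split_ifs with hc <;> simp only [hc, if_true, if_false, one_mul] at h1 <;> omega
  have hWcard : q ^ (n - 1) - 1 ≤ W.card := by
    have : Finset.univ.filter (fun w : Fin n → F => w z = 0) ⊆ insert 0 W := by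
      intro w hw
      by_cases h : w = 0
      · simp [h]
      · exact Finset.mem_insert_of_mem (Finset.mem_filter.mpr ⟨Finset.mem_univ _, (Finset.mem_filter.mp hw).2, h⟩)
    have h := (Finset.card_le_card this).trans (Finset.card_insert_le _ _)
    have hc : (Finset.univ.filter (fun w : Fin n → F => w z = 0)).card = q ^ (n - 1) := by
      have : Finset.univ.filter (fun w : Fin n → F => w z = 0) =
          Fintype.piFinset (Function.update (fun _ => (Finset.univ : Finset F)) z {0}) := by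
        ext α
        simp only [Finset.mem_filter, Finset.mem_univ, true_and, Fintype.mem_piFinset]
        refine ⟨fun h i => ?_, fun h => by simpa using h z⟩
        rcases eq_or_ne i z with rfl | hi <;> simp [*]
      rw [this, Fintype.card_piFinset, ← Finset.mul_prod_erase _ _ (Finset.mem_univ z),
        Finset.prod_congr rfl (g := fun _ => q) fun i hi => by simp [Finset.ne_of_mem_erase hi, hq]]
      simp [Finset.card_erase_of_mem]
    omega
  calc (q ^ (n - 1) - 1) * q ^ (n - 1) * (q + 1)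
      ≤ W.card * q ^ (n - 1) * (q + 1) := by gcongr
    _ = ∑ cw ∈ (Finset.univ : Finset F) ×ˢ W, (if cw.1 = 0 then 2 else 1) * q ^ (n - 1) := by
        have h1 : ∀ c : F, (if c = 0 then 2 else 1) * q ^ (n - 1) =
            q ^ (n - 1) + if c = 0 then q ^ (n - 1) else 0 := fun c => by split_ifs <;> ring
        have hin : ∑ c : F, (if c = 0 then 2 else 1) * q ^ (n - 1) = (q + 1) * q ^ (n - 1) := by
          rw [Finset.sum_congr rfl fun c _ => h1 c, Finset.sum_add_distrib, Finset.sum_const,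
            Finset.sum_ite_eq', if_pos (Finset.mem_univ _), Finset.card_univ, ← hq, smul_eq_mul]
          ring
        rw [Finset.sum_product_right, Finset.sum_congr rfl (g := fun _ => (q + 1) * q ^ (n - 1))
          fun x _ => hin, Finset.sum_const, smul_eq_mul]
        ring
    _ ≤ ∑ cw ∈ (Finset.univ : Finset F) ×ˢ W, 2 * (Ω.filter fun f => D f = cw).card :=
        Finset.sum_le_sum fun cw hcw => hfib cw.1 cw.2 (Finset.mem_product.mp hcw).2
    _ ≤ 2 * Ω.card := by
        rw [← Finset.mul_sum]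
        exact Nat.mul_le_mul_left _ ((Finset.sum_card_fiberwise_eq_card_filter Ω _ D).trans_le (Finset.card_filter_le _ _))

include hquad hinv in
/-- The orbit bound. -/
theorem card_bound [CharP F 2] (hn : 2 ≤ n) {Q : Matrix (Fin n) (Fin n) F} (hQ : quad Q ∈ Ω)
    (hpol : Q + Qᵀ ≠ 0) :
    (Fintype.card F ^ n - 1) * (Fintype.card F ^ n - Fintype.card F) ≤
      2 * (Fintype.card F + 1) * Ω.card := by
  classical
  set q := Fintype.card F with hq
  have hq1 : 1 < q := Fintype.one_lt_card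
  obtain ⟨k, hk⟩ : ∃ k, n = k + 2 := ⟨n - 2, by omega⟩
  by_cases hI : ∃ v y, quad Q v = 0 ∧ pol Q v y = 1
  · obtain ⟨v, y, hv, hvy⟩ := hI
    have h := bound_singular Ω hinv hn hQ hv hvy
    rw [← hq] at h
    subst hk
    simp only [show k + 2 - 1 = k + 1 by omega] at h
    refine le_trans ?_ (le_trans (Nat.mul_le_mul_left (q + 1) h) (le_of_eq (by ring)))
    have e1 : q ^ (k + 2) - q = q * (q ^ (k + 1) - 1) := by rw [Nat.mul_sub, ← pow_succ']; simp
    rw [e1, pow_succ q (k + 1), pow_succ q k]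
    generalize q ^ k = Qk
    calc (Qk * q * q - 1) * (q * (Qk * q - 1)) ≤ (Qk * q * q) * (q * (Qk * q - 1)) :=
          Nat.mul_le_mul_right _ (Nat.sub_le _ _)
      _ ≤ (q + 1) * ((Qk * q - 1) * (Qk * q) * (q + 1)) := by
          have : q * q ≤ (q + 1) * (q + 1) := Nat.mul_le_mul (Nat.le_succ _) (Nat.le_succ _)
          calc (Qk * q * q) * (q * (Qk * q - 1)) = (q * q) * ((Qk * q - 1) * (Qk * q)) := by ring
            _ ≤ ((q + 1) * (q + 1)) * ((Qk * q - 1) * (Qk * q)) := Nat.mul_le_mul_right _ this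
            _ = _ := by ring
  push Not at hI
  have hrad : ∀ v, quad Q v = 0 → ∀ y, pol Q v y = 0 := by
    intro v hv y
    by_contra h
    refine hI v ((pol Q v y)⁻¹ • y) hv ?_
    rw [pol_comm Q v, pol_smul_left, pol_comm Q y v, inv_mul_cancel₀ h]
  obtain ⟨x, y, hxy⟩ : ∃ x y, pol Q x y = 1 := by
    by_contra! h
    refine hpol (Matrix.ext fun i j => ?_)
    by_contra hij
    refine h (Pi.single i 1) (((Q + Qᵀ) i j)⁻¹ • Pi.single j (1 : F)) ?_
    rw [pol_comm, pol_smul_left, pol_comm, show pol Q (Pi.single i 1) (Pi.single j 1) = (Q + Qᵀ) i j by simp [pol]]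
    exact inv_mul_cancel₀ hij
  set a := quad Q x with ha
  set c := quad Q y with hc
  have hyx : pol Q y x = 1 := by rw [pol_comm, hxy]
  have hcomb : ∀ s t : F, quad Q (s • x + t • y) = s ^ 2 * a + t ^ 2 * c + s * t := fun s t => by
    rw [quad_add, quad_smul, quad_smul, pol_smul_left, pol_comm, pol_smul_left, hyx, mul_one]
  have hanis : ∀ s t : F, s ^ 2 * a + t ^ 2 * c + s * t = 0 → s = 0 ∧ t = 0 := by
    intro s t h
    have hv := (hcomb s t).trans h
    have h1 := hrad _ hv x
    have h2 := hrad _ hv y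
    simp only [pol_add_left, pol_smul_left, pol_self, hxy, hyx, mul_zero, mul_one, zero_add, add_zero] at h1 h2
    exact ⟨h2, h1⟩
  have ha0 : a ≠ 0 := fun h => one_ne_zero (hanis 1 0 (by simp [h])).1
  set L : Fin n → F := fun i => pol Q (Pi.single i 1) y with hL
  set M : Fin n → F := fun i => pol Q (Pi.single i 1) x with hM
  have hLv : ∀ v, L ⬝ᵥ v = pol Q v y := fun v => by
    simp [hL, pol, dotProduct, Pi.single_apply]
    exact Finset.sum_congr rfl fun i _ => mul_comm _ _
  have hMv : ∀ v, M ⬝ᵥ v = pol Q v x := fun v => by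
    simp [hM, pol, dotProduct, Pi.single_apply]
    exact Finset.sum_congr rfl fun i _ => mul_comm _ _
  let G : F → F → F := fun s t => s ^ 2 * a + t ^ 2 * c + s * t
  have hform : ∀ v, quad Q v = G (L ⬝ᵥ v) (M ⬝ᵥ v) := by
    intro v
    set s := L ⬝ᵥ v with hs
    set t := M ⬝ᵥ v with ht
    set p := s • x + t • y with hp
    set r := v - p with hr
    have hrx : pol Q r x = 0 := by
      rw [hr, sub_eq_add_neg, pol_add_left, ← neg_one_smul F p, pol_smul_left, hp, pol_add_left,
        pol_smul_left, pol_smul_left, pol_self, hyx, ← hMv, ← ht]; ring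
    have hry : pol Q r y = 0 := by
      rw [hr, sub_eq_add_neg, pol_add_left, ← neg_one_smul F p, pol_smul_left, hp, pol_add_left,
        pol_smul_left, pol_smul_left, pol_self, hxy, ← hLv, ← hs]; ring
    have hr0 : quad Q r = 0 := by
      by_contra h
      obtain ⟨u, hu⟩ : ∃ u, quad Q r / a = u ^ 2 := by
        obtain ⟨u, hu⟩ := (FiniteField.isSquare_of_char_two (ringChar.eq_iff.mpr ‹CharP F 2›) (quad Q r / a))
        exact ⟨u, by rw [hu, sq]⟩
      have hz : quad Q (u • x + r) = 0 := by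
        rw [quad_add, quad_smul, pol_smul_left, pol_comm, hrx, mul_zero, add_zero, ← hu, ← ha,
          div_mul_cancel₀ _ ha0, CharTwo.add_self_eq_zero]
      have h2 := hrad _ hz y
      rw [pol_add_left, pol_smul_left, hxy, hry, mul_one, add_zero] at h2
      rw [h2, zero_pow two_ne_zero, div_eq_zero_iff] at hu
      exact hu.elim h ha0
    have hpr : pol Q p r = 0 := by
      rw [hp, pol_add_left, pol_smul_left, pol_smul_left, pol_comm, hrx, pol_comm Q y, hry]; ring
    rw [show v = p + r by rw [hr]; abel, quad_add, hr0, hpr, hp, hcomb]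
    simp [G]
  -- independent pairs
  have hLx : L ⬝ᵥ x = 1 := by rw [hLv, hxy]
  have hMy : M ⬝ᵥ y = 1 := by rw [hMv, hyx]
  have hLy : L ⬝ᵥ y = 0 := by rw [hLv, pol_self]
  have hL0 : L ≠ 0 := fun h => by rw [h, zero_dotProduct] at hLx; exact zero_ne_one hLx
  have hML : M ∉ F ∙ L := fun h => by
    obtain ⟨s, hs⟩ := Submodule.mem_span_singleton.mp h
    rw [← hs, smul_dotProduct, hLy, smul_zero] at hMy
    exact zero_ne_one hMy
  set Pairs : Finset ((Fin n → F) × (Fin n → F)) :=
    Finset.univ.filter fun lm => lm.1 ≠ 0 ∧ lm.2 ∉ F ∙ lm.1 with hPairs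
  let T : (Fin n → F) × (Fin n → F) → ((Fin n → F) → F) := fun lm v => G (lm.1 ⬝ᵥ v) (lm.2 ⬝ᵥ v)
  have hTmem : ∀ lm ∈ Pairs, T lm ∈ Ω := by
    intro lm hlm
    obtain ⟨-, h1, h2⟩ := Finset.mem_filter.mp hlm
    obtain ⟨B, hB, hBl, hBm⟩ := exists_pair hn hL0 hML h1 h2
    have := hinv _ hQ Bᵀ (by rwa [Matrix.det_transpose])
    convert this using 1
    funext v
    simp only [T]
    rw [hform, Matrix.dotProduct_mulVec L, Matrix.vecMul_transpose, Matrix.dotProduct_mulVec M,
      Matrix.vecMul_transpose, hBl, hBm]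
  set N : F → Finset (F × F) := fun d => Finset.univ.filter fun p => G p.1 p.2 = d with hN
  have hsol : (N a).card * (q - 1) ≤ (q - 1) * (q + 1) := by
    have hmap : ((N a) ×ˢ (Finset.univ.erase (0 : F))).card ≤ (Finset.univ.erase (0 : F × F)).card := by
      refine Finset.card_le_card_of_injOn (fun pt => (pt.2 * pt.1.1, pt.2 * pt.1.2)) (fun pt hpt => ?_) ?_
      · obtain ⟨h1, h2⟩ := Finset.mem_product.mp hpt
        have h1' := (Finset.mem_filter.mp h1).2
        refine Finset.mem_erase.mpr ⟨fun h => ?_, Finset.mem_univ _⟩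
        simp only [Prod.mk_eq_zero, mul_eq_zero, Finset.ne_of_mem_erase h2, false_or] at h
        simp [G, h.1, h.2] at h1'
        exact ha0 h1'.symm
      · intro p hp p' hp' h
        simp only [Finset.coe_product, Set.mem_prod, Finset.mem_coe] at hp hp'
        have h1 := (Finset.mem_filter.mp hp.1).2
        have h2 := (Finset.mem_filter.mp hp'.1).2
        simp only [Prod.mk.injEq] at h
        have hsq : p.2 ^ 2 * a = p'.2 ^ 2 * a := by
          rw [← h1]
          conv_rhs => rw [h1, ← h2]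
          simp only [G]
          linear_combination (a * (p.2 * p.1.1 + p'.2 * p'.1.1) + p.2 * p.1.2) * h.1 +
            (c * (p.2 * p.1.2 + p'.2 * p'.1.2) + p'.2 * p'.1.1) * h.2
        have ht : p.2 = p'.2 := CharTwo.sq_injective (mul_right_cancel₀ ha0 hsq)
        have hne := Finset.ne_of_mem_erase hp'.2
        rw [ht] at h
        exact Prod.ext (Prod.ext (mul_left_cancel₀ hne h.1) (mul_left_cancel₀ hne h.2)) ht
    rw [Finset.card_product, Finset.card_erase_of_mem (Finset.mem_univ _),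
      Finset.card_erase_of_mem (Finset.mem_univ _), Finset.card_univ, Finset.card_univ, Fintype.card_prod,
      ← hq] at hmap
    refine hmap.trans (le_of_eq ?_)
    rw [mul_comm (q - 1), ← Nat.sq_sub_sq, one_pow, sq]
  have hfib : ∀ f ∈ Pairs.image T, (Pairs.filter fun lm => T lm = f).card ≤ (q + 1) * 2 := by
    intro f hf
    obtain ⟨⟨l, m⟩, hlm, rfl⟩ := Finset.mem_image.mp hf
    obtain ⟨-, h1, h2⟩ := Finset.mem_filter.mp hlm
    obtain ⟨B, hB, hBl, hBm⟩ := exists_pair hn hL0 hML h1 h2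
    have hBu : IsUnit Bᵀ.det := by rw [Matrix.det_transpose]; exact Ne.isUnit hB
    set v₀ := (Bᵀ)⁻¹ *ᵥ x with hv₀
    set v₁ := (Bᵀ)⁻¹ *ᵥ y with hv₁
    have hev : ∀ (l₀ u : Fin n → F), (B *ᵥ l₀) ⬝ᵥ ((Bᵀ)⁻¹ *ᵥ u) = l₀ ⬝ᵥ u := fun l₀ u => by
      rw [← Matrix.vecMul_transpose B, ← Matrix.dotProduct_mulVec, Matrix.mulVec_mulVec,
        Matrix.mul_nonsing_inv _ hBu, Matrix.one_mulVec]
    have hMx : M ⬝ᵥ x = 0 := by rw [hMv, pol_self]
    have e00 : l ⬝ᵥ v₀ = 1 ∧ m ⬝ᵥ v₀ = 0 ∧ l ⬝ᵥ v₁ = 0 ∧ m ⬝ᵥ v₁ = 1 := by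
      simp only at hBl hBm
      rw [← hBl, ← hBm, hv₀, hv₁, hev, hev, hev, hev]; exact ⟨hLx, hMx, hLy, hMy⟩
    obtain ⟨e1, e2, e3, e4⟩ := e00
    let K : (Fin n → F) × (Fin n → F) → (F × F) × (F × F) := fun lm =>
      ((lm.1 ⬝ᵥ v₀, lm.2 ⬝ᵥ v₀), (lm.1 ⬝ᵥ v₁, lm.2 ⬝ᵥ v₁))
    have hKinj : Set.InjOn K (Pairs.filter fun lm => T lm = T (l, m)) := by
      intro p hp p' hp' h
      obtain ⟨-, hpT⟩ := Finset.mem_filter.mp hp
      obtain ⟨-, hpT'⟩ := Finset.mem_filter.mp hp'
      simp only [K, Prod.mk.injEq] at h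
      obtain ⟨⟨k1, k2⟩, k3, k4⟩ := h
      have key : ∀ w, p.1 ⬝ᵥ w = p'.1 ⬝ᵥ w ∧ p.2 ⬝ᵥ w = p'.2 ⬝ᵥ w := by
        intro w
        set u := w - (l ⬝ᵥ w) • v₀ - (m ⬝ᵥ w) • v₁ with hu
        have hu1 : l ⬝ᵥ u = 0 := by
          simp only [hu, dotProduct_sub, dotProduct_smul, smul_eq_mul, e1, e3]; ring
        have hu2 : m ⬝ᵥ u = 0 := by
          simp only [hu, dotProduct_sub, dotProduct_smul, smul_eq_mul, e2, e4]; ring
        have hz : ∀ p₀ : (Fin n → F) × (Fin n → F), T p₀ = T (l, m) → p₀.1 ⬝ᵥ u = 0 ∧ p₀.2 ⬝ᵥ u = 0 := by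
          intro p₀ h0
          have := congrFun h0 u
          simp only [T, G, hu1, hu2] at this
          exact hanis _ _ (this.trans (by ring))
        obtain ⟨a1, a2⟩ := hz p hpT
        obtain ⟨b1, b2⟩ := hz p' hpT'
        simp only [hu, dotProduct_sub, dotProduct_smul, smul_eq_mul] at a1 a2 b1 b2
        exact ⟨by linear_combination a1 - b1 + (l ⬝ᵥ w) * k1 + (m ⬝ᵥ w) * k3,
          by linear_combination a2 - b2 + (l ⬝ᵥ w) * k2 + (m ⬝ᵥ w) * k4⟩
      exact Prod.ext (funext fun i => by simpa using (key (Pi.single i 1)).1)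
        (funext fun i => by simpa using (key (Pi.single i 1)).2)
    rw [← Finset.card_image_of_injOn hKinj]
    set Tgt : Finset ((F × F) × (F × F)) := ((N a) ×ˢ Finset.univ).filter fun PR =>
      G PR.2.1 PR.2.2 = c ∧ PR.1.1 * PR.2.2 + PR.1.2 * PR.2.1 = 1 with hTgt
    refine le_trans (Finset.card_le_card (t := Tgt) fun z hz => ?_) ?_
    · obtain ⟨p, hp, rfl⟩ := Finset.mem_image.mp hz
      obtain ⟨-, hpT⟩ := Finset.mem_filter.mp hp
      have t0 := congrFun hpT v₀
      have t1 := congrFun hpT v₁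
      have t01 := congrFun hpT (v₀ + v₁)
      simp only [T, G, dotProduct_add, e1, e2, e3, e4] at t0 t1 t01
      simp only [hTgt, K, Finset.mem_filter, Finset.mem_product, Finset.mem_univ, and_true, hN, G, true_and]
      refine ⟨by linear_combination t0, by linear_combination t1, ?_⟩
      have h2 : (2 : F) = 0 := CharTwo.two_eq_zero
      linear_combination t01 - t0 - t1 -
        (a * (p.1 ⬝ᵥ v₀) * (p.1 ⬝ᵥ v₁) + c * (p.2 ⬝ᵥ v₀) * (p.2 ⬝ᵥ v₁)) * h2
    · have hfst : ∀ P ∈ Tgt.image Prod.fst, (Tgt.filter fun PR => PR.1 = P).card ≤ 2 := by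
        intro P hP
        obtain ⟨⟨P', R⟩, hR, rfl⟩ := Finset.mem_image.mp hP
        refine le_trans (Finset.card_le_card (t := {(P', R), (P', (R.1 + P'.1 / a, R.2 + P'.2 / a))})
          fun z hz => ?_) Finset.card_le_two
        simp only [hTgt, Finset.mem_filter, Finset.mem_product, Finset.mem_univ, and_true, hN, G, true_and]
          at hR hz
        obtain ⟨hP', hRc, hR1⟩ := hR
        obtain ⟨⟨-, hzc, hz1⟩, hzP⟩ := hz
        obtain ⟨z1, z2⟩ := z
        simp only at hzc hz1 hzP hP' hRc hR1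
        subst hzP
        have h2 : (2 : F) = 0 := CharTwo.two_eq_zero
        obtain ⟨r, hr1, hr2⟩ : ∃ r, z2.1 = R.1 + r * z1.1 ∧ z2.2 = R.2 + r * z1.2 := by
          by_cases hs : z1.1 = 0
          · have ht : z1.2 ≠ 0 := fun ht => ha0 (by rw [← hP']; simp [hs, ht])
            refine ⟨(z2.2 - R.2) / z1.2, ?_, by field_simp; ring⟩
            rw [hs] at hz1 hR1 ⊢
            apply mul_left_cancel₀ ht
            linear_combination hz1 - hR1
          · refine ⟨(z2.1 - R.1) / z1.1, by field_simp; ring, ?_⟩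
            apply mul_left_cancel₀ hs
            field_simp
            linear_combination hz1 - hR1 - (z1.2 * (z2.1 - R.1)) * h2
        have hr : r * (1 + r * a) = 0 := by
          rw [hr1, hr2] at hzc
          linear_combination hzc - hRc - r ^ 2 * hP' - r * hR1 - r * (R.1 * z1.1 * a + R.2 * z1.2 * c) * h2
        rcases mul_eq_zero.mp hr with h | h
        · simp [Prod.ext_iff, hr1, hr2, h]
        · refine Finset.mem_insert_of_mem (Finset.mem_singleton.mpr ?_)
          have hr' : r = 1 / a := by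
            field_simp
            linear_combination h - h2
          simp [Prod.ext_iff, hr1, hr2, hr']
          constructor <;> ring
      refine (Finset.card_le_mul_card_image Tgt 2 hfst).trans ?_
      rw [mul_comm]
      refine Nat.mul_le_mul_right 2 (le_trans (Finset.card_le_card (t := N a) fun P hP => ?_) ?_)
      · obtain ⟨PR, hPR, rfl⟩ := Finset.mem_image.mp hP
        exact (Finset.mem_product.mp (Finset.mem_filter.mp hPR).1).1
      · exact Nat.le_of_mul_le_mul_right (hsol.trans (le_of_eq (mul_comm _ _))) (by omega)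
  have hPcard : (q ^ n - 1) * (q ^ n - q) ≤ Pairs.card := by
    have h1 : ∀ l ∈ (Finset.univ.erase (0 : Fin n → F)), q ^ n - q ≤ (Pairs.filter fun lm => lm.1 = l).card := by
      intro l hl
      have hsub : (Finset.univ.filter fun m : Fin n → F => m ∉ F ∙ l).image (fun m => (l, m)) ⊆
          Pairs.filter fun lm => lm.1 = l := by
        intro p hp
        obtain ⟨m, hm, rfl⟩ := Finset.mem_image.mp hp
        simp only [hPairs, Finset.mem_filter, Finset.mem_univ, true_and] at hm ⊢
        exact ⟨⟨Finset.ne_of_mem_erase hl, hm⟩, trivial⟩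
      refine le_trans ?_ (Finset.card_le_card hsub)
      rw [Finset.card_image_of_injective _ (fun a b h => (Prod.mk.inj h).2)]
      have h2 : (Finset.univ.filter fun m : Fin n → F => ¬ (m ∉ F ∙ l)).card ≤ q := by
        refine le_trans (Finset.card_le_card (t := Finset.univ.image fun s : F => s • l) fun m hm => ?_)
          (Finset.card_image_le.trans (le_of_eq Finset.card_univ))
        obtain ⟨s, hs⟩ := Submodule.mem_span_singleton.mp (not_not.mp (Finset.mem_filter.mp hm).2)
        exact Finset.mem_image.mpr ⟨s, Finset.mem_univ _, hs⟩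
      have h3 := Finset.card_filter_add_card_filter_not (s := (Finset.univ : Finset (Fin n → F)))
        (fun m => m ∉ F ∙ l)
      rw [Finset.card_univ, Fintype.card_fun, Fintype.card_fin, ← hq] at h3
      omega
    calc (q ^ n - 1) * (q ^ n - q) = ∑ _l ∈ Finset.univ.erase (0 : Fin n → F), (q ^ n - q) := by
          rw [Finset.sum_const, Finset.card_erase_of_mem (Finset.mem_univ _), Finset.card_univ,
            Fintype.card_fun, Fintype.card_fin, smul_eq_mul, ← hq]
      _ ≤ ∑ l ∈ Finset.univ.erase (0 : Fin n → F), (Pairs.filter fun lm => lm.1 = l).card :=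
          Finset.sum_le_sum h1
      _ ≤ Pairs.card := (Finset.sum_card_fiberwise_eq_card_filter Pairs _ Prod.fst).trans_le (Finset.card_filter_le _ _)
  calc (q ^ n - 1) * (q ^ n - q) ≤ Pairs.card := hPcard
    _ ≤ ((q + 1) * 2) * (Pairs.image T).card := Finset.card_le_mul_card_image Pairs _ hfib
    _ ≤ 2 * (q + 1) * Ω.card := by
        rw [mul_comm (q + 1) 2]
        exact Nat.mul_le_mul_left _ (Finset.card_le_card fun f hf => by
          obtain ⟨lm, hlm, rfl⟩ := Finset.mem_image.mp hf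
          exact hTmem lm hlm)

end Cfsg.Agent.QuadOrbit
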