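import Cfsg.Agent.Lib.LinearGroups.Basic
import Cfsg.Agent.Lib.Transvection.GL

/-!
The first row radical of `SL_{m+1}` and its Levi complement `SL_m`.
-/

set_option autoImplicit false
set_option linter.unusedSectionVars false

namespace Cfsg.Agent.SLRad

open Matrix
open scoped commutatorElement

variable {F : Type*} [Field F]

section VV

variable {ι : Type*} [Fintype ι] [DecidableEq ι]

/-- The transvection `1 + a φ`. -/
def vv (a φ : ι → F) (h : φ ⬝ᵥ a = 0) : Matrix.SpecialLinearGroup ι F :=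
  ⟨1 + vecMulVec a φ, by
    rw [vecMulVec_eq Unit, det_one_add_replicateCol_mul_replicateRow, h, add_zero]⟩

theorem coe_vv (a φ : ι → F) (h : φ ⬝ᵥ a = 0) :
    (vv a φ h : Matrix ι ι F) = 1 + vecMulVec a φ := rfl

theorem transvection_eq_vv {i j : ι} (hij : i ≠ j) (a : F) :
    Matrix.SpecialLinearGroup.transvection hij a = vv (Pi.single i a) (Pi.single j 1)
      (by simp [hij.symm]) := by
  apply Subtype.ext
  rw [Matrix.SpecialLinearGroup.transvection_coe, coe_vv]
  congr 1
  ext k l
  simp [Matrix.single_apply, vecMulVec_apply, Pi.single_apply, eq_comm, ← ite_and, and_comm]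

theorem transvection_zero {i j : ι} (hij : i ≠ j) :
    Matrix.SpecialLinearGroup.transvection hij (0 : F) = 1 := by
  apply Subtype.ext
  simp [Matrix.SpecialLinearGroup.transvection_coe]

/-- A diagonal element of determinant one. -/
def dia (d : ι → F) (h : ∏ i, d i = 1) : Matrix.SpecialLinearGroup ι F :=
  ⟨Matrix.diagonal d, by rw [det_diagonal, h]⟩

theorem coe_dia (d : ι → F) (h : ∏ i, d i = 1) :
    (dia d h : Matrix ι ι F) = Matrix.diagonal d := rfl

theorem dia_mul_transvection (d : ι → F) (h : ∏ i, d i = 1) {i j : ι} (hij : i ≠ j) (a : F) :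
    dia d h * Matrix.SpecialLinearGroup.transvection hij a =
      Matrix.SpecialLinearGroup.transvection hij (d i * a / d j) * dia d h := by
  have hd : d j ≠ 0 := fun e => one_ne_zero (α := F) (h.symm.trans (Finset.prod_eq_zero (Finset.mem_univ j) e))
  apply Subtype.ext
  simp only [Matrix.SpecialLinearGroup.coe_mul, Matrix.SpecialLinearGroup.transvection_coe, coe_dia]
  rw [mul_add, add_mul, mul_one, one_mul]
  congr 1
  ext k l
  simp only [diagonal_mul, mul_diagonal, Matrix.single_apply]
  split_ifs with hh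
  · obtain ⟨rfl, rfl⟩ := hh
    field_simp
  · simp

theorem commutator_dia_transvection (d : ι → F) (h : ∏ i, d i = 1) {i j : ι} (hij : i ≠ j) (a : F) :
    ⁅dia d h, Matrix.SpecialLinearGroup.transvection hij a⁆ =
      Matrix.SpecialLinearGroup.transvection hij ((d i / d j - 1) * a) := by
  rw [commutatorElement_def, dia_mul_transvection d h hij a, mul_assoc _ (dia d h) (dia d h)⁻¹,
    mul_inv_cancel, mul_one, Matrix.SpecialLinearGroup.transvection_inv]
  apply Subtype.ext
  simp only [Matrix.SpecialLinearGroup.coe_mul, Matrix.SpecialLinearGroup.transvection_coe]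
  rw [add_mul, one_mul, mul_add, mul_one, Matrix.single_mul_single_of_ne (i := i) (j := j) (h := hij.symm),
    add_zero, add_assoc, ← Matrix.single_add]
  congr 2
  ring

end VV

/-- Transvections of `SL_n`, `n ≥ 3`, are conjugate. -/
theorem isConj_vv {n : ℕ} (hn : 3 ≤ n) {a φ a' φ' : Fin n → F} (h : φ ⬝ᵥ a = 0) (h' : φ' ⬝ᵥ a' = 0)
    (ha : a ≠ 0) (hφ : φ ≠ 0) (ha' : a' ≠ 0) (hφ' : φ' ≠ 0) :
    IsConj (vv a φ h) (vv a' φ' h') := by
  obtain ⟨g, hg, hd⟩ := TransvGL.exists_conj (TransvGL.isTransvection_of_data ha hφ h)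
    (TransvGL.isTransvection_of_data ha' hφ' h')
  let x : Matrix.SpecialLinearGroup (Fin n) F := ⟨(g : Matrix (Fin n) (Fin n) F), hd hn⟩
  refine isConj_iff.mpr ⟨x, ?_⟩
  rw [mul_inv_eq_iff_eq_mul]
  exact Subtype.ext hg

variable {m : ℕ}

/-- The first basis vector. -/
def e0 : Fin (m + 1) → F := Pi.single 0 1

theorem e0_ne_zero : (e0 : Fin (m + 1) → F) ≠ 0 := by simp [e0]

/-- The element of the first row radical. -/
def rad (b : Fin m → F) : Matrix.SpecialLinearGroup (Fin (m + 1)) F :=
  vv e0 (Fin.cons 0 b) (by simp [e0])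

theorem coe_rad (b : Fin m → F) :
    (rad b : Matrix (Fin (m + 1)) (Fin (m + 1)) F) = 1 + vecMulVec e0 (Fin.cons 0 b) := rfl

theorem rad_add (a b : Fin m → F) : rad (a + b) = rad a * rad b := by
  apply Subtype.ext
  simp only [Matrix.SpecialLinearGroup.coe_mul, coe_rad, add_mul, mul_add, one_mul,
    mul_one, vecMulVec_mul_vecMulVec]
  ext i j
  refine Fin.cases ?_ (fun j => ?_) j <;> simp [e0, vecMulVec_apply, Pi.single_apply, one_mul]
  split_ifs <;> ring

theorem rad_single (i : Fin m) (a : F) :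
    rad (Pi.single i a) = Matrix.SpecialLinearGroup.transvection (Fin.succ_ne_zero i).symm a := by
  apply Subtype.ext
  rw [coe_rad, Matrix.SpecialLinearGroup.transvection_coe]
  congr 1
  ext k l
  refine Fin.cases ?_ (fun l => ?_) l <;> refine Fin.cases ?_ (fun k => ?_) k <;>
    simp [e0, vecMulVec_apply, Matrix.single_apply, Pi.single_apply, Fin.succ_ne_zero,
      (Fin.succ_ne_zero _).symm, eq_comm]

theorem cons_zero_ne_zero {b : Fin m → F} (hb : b ≠ 0) : (Fin.cons 0 b : Fin (m + 1) → F) ≠ 0 := by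
  intro h
  apply hb
  funext i
  simpa using congrFun h i.succ

/-- The matrix `diag(1, A)`. -/
def levM (A : Matrix (Fin m) (Fin m) F) : Matrix (Fin (m + 1)) (Fin (m + 1)) F :=
  Matrix.of (Fin.cons (e0 (F := F) (m := m)) fun i => Fin.cons 0 (A i))

@[simp] theorem levM_zz (A : Matrix (Fin m) (Fin m) F) : levM A 0 0 = 1 := by simp [levM, e0]

@[simp] theorem levM_zs (A : Matrix (Fin m) (Fin m) F) (j : Fin m) : levM A 0 j.succ = 0 := by
  simp [levM, e0, Fin.succ_ne_zero]

@[simp] theorem levM_sz (A : Matrix (Fin m) (Fin m) F) (i : Fin m) : levM A i.succ 0 = 0 := by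
  simp [levM]

@[simp] theorem levM_ss (A : Matrix (Fin m) (Fin m) F) (i j : Fin m) :
    levM A i.succ j.succ = A i j := by
  simp [levM]

theorem levM_mul (A B : Matrix (Fin m) (Fin m) F) : levM (A * B) = levM A * levM B := by
  ext i j
  refine Fin.cases ?_ (fun i => ?_) i <;> refine Fin.cases ?_ (fun j => ?_) j <;>
    simp [Matrix.mul_apply, Fin.sum_univ_succ]

theorem det_levM (A : Matrix (Fin m) (Fin m) F) : (levM A).det = A.det := by
  rw [det_succ_row_zero, Fin.sum_univ_succ]
  have : (levM A).submatrix Fin.succ (Fin.succAbove 0) = A := by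
    ext i j
    simp
  rw [this]
  simp

theorem levM_one : levM (1 : Matrix (Fin m) (Fin m) F) = 1 := by
  ext i j
  refine Fin.cases ?_ (fun i => ?_) i <;> refine Fin.cases ?_ (fun j => ?_) j <;>
    simp [Matrix.one_apply, Fin.succ_ne_zero, (Fin.succ_ne_zero _).symm]

/-- The Levi complement. -/
def lev : Matrix.SpecialLinearGroup (Fin m) F →* Matrix.SpecialLinearGroup (Fin (m + 1)) F where
  toFun A := ⟨levM A.1, by rw [det_levM, A.2]⟩
  map_one' := Subtype.ext (by simpa using levM_one)
  map_mul' A B := Subtype.ext (levM_mul A.1 B.1)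

theorem coe_lev (A : Matrix.SpecialLinearGroup (Fin m) F) :
    (lev A : Matrix (Fin (m + 1)) (Fin (m + 1)) F) = levM (A : Matrix (Fin m) (Fin m) F) := rfl

theorem lev_mul_rad (A : Matrix.SpecialLinearGroup (Fin m) F) (b : Fin m → F) :
    lev A * rad (b ᵥ* (A : Matrix (Fin m) (Fin m) F)) = rad b * lev A := by
  apply Subtype.ext
  simp only [Matrix.SpecialLinearGroup.coe_mul, coe_lev, coe_rad, mul_add, add_mul, mul_one, one_mul]
  congr 1
  ext i j
  refine Fin.cases ?_ (fun i => ?_) i <;> refine Fin.cases ?_ (fun j => ?_) j <;>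
    simp [Matrix.mul_apply, Fin.sum_univ_succ, e0, vecMulVec_apply, Fin.succ_ne_zero, vecMul, dotProduct]

theorem lev_transvection {i j : Fin m} (hij : i ≠ j) (a : F) :
    lev (Matrix.SpecialLinearGroup.transvection hij a) =
      Matrix.SpecialLinearGroup.transvection (fun h => hij (Fin.succ_inj.mp h) : i.succ ≠ j.succ) a := by
  apply Subtype.ext
  rw [coe_lev, Matrix.SpecialLinearGroup.transvection_coe, Matrix.SpecialLinearGroup.transvection_coe]
  ext k l
  refine Fin.cases ?_ (fun k => ?_) k <;> refine Fin.cases ?_ (fun l => ?_) l <;>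
    simp [Matrix.one_apply, Matrix.single_apply, Fin.succ_ne_zero, (Fin.succ_ne_zero _).symm]

theorem dia_mul_rad (d : Fin (m + 1) → F) (h : ∏ i, d i = 1) (b : Fin m → F) :
    dia d h * rad b = rad (fun i => d 0 * b i / d i.succ) * dia d h := by
  have hd : ∀ k, d k ≠ 0 := fun k e =>
    one_ne_zero (α := F) (h.symm.trans (Finset.prod_eq_zero (Finset.mem_univ k) e))
  apply Subtype.ext
  simp only [Matrix.SpecialLinearGroup.coe_mul, coe_rad, coe_dia, mul_add, add_mul, mul_one, one_mul]
  congr 1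
  ext i j
  simp only [diagonal_mul, mul_diagonal, vecMulVec_apply, e0]
  refine Fin.cases ?_ (fun j => ?_) j <;> refine Fin.cases ?_ (fun i => ?_) i <;>
    simp [Fin.succ_ne_zero]
  field_simp [hd]

/-- The stabiliser of the first basis vector. -/
def vecStab : Subgroup (Matrix.SpecialLinearGroup (Fin (m + 1)) F) where
  carrier := {g | (g : Matrix (Fin (m + 1)) (Fin (m + 1)) F) *ᵥ e0 = e0}
  one_mem' := by simp
  mul_mem' := by
    intro g h (hg : _ = _) (hh : _ = _)
    show (↑(g * h) : Matrix (Fin (m + 1)) (Fin (m + 1)) F) *ᵥ e0 = e0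
    rw [Matrix.SpecialLinearGroup.coe_mul, ← mulVec_mulVec, hh, hg]
  inv_mem' := by
    intro g (hg : _ = _)
    show (↑(g⁻¹) : Matrix (Fin (m + 1)) (Fin (m + 1)) F) *ᵥ e0 = e0
    conv_lhs => rw [← hg, mulVec_mulVec, ← Matrix.SpecialLinearGroup.coe_mul, inv_mul_cancel,
      Matrix.SpecialLinearGroup.coe_one, one_mulVec]

theorem mem_vecStab {g : Matrix.SpecialLinearGroup (Fin (m + 1)) F} (hg : g ∈ vecStab) :
    ∃ A b, g = lev A * rad b := by
  have hcol : ∀ i, (g : Matrix (Fin (m + 1)) (Fin (m + 1)) F) i 0 = e0 (F := F) i := fun i => by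
    have := congrFun (show _ = _ from hg) i
    simpa [e0] using this
  set N : Matrix (Fin m) (Fin m) F :=
    (g : Matrix (Fin (m + 1)) (Fin (m + 1)) F).submatrix Fin.succ Fin.succ with hN
  have hdet : N.det = 1 := by
    have h := g.2
    rw [det_succ_column_zero, Fin.sum_univ_succ] at h
    simp only [hcol, e0] at h
    simpa [Fin.succ_ne_zero, hN, Fin.succAbove_zero] using h
  let A : Matrix.SpecialLinearGroup (Fin m) F := ⟨N, hdet⟩
  have hA : (A : Matrix (Fin m) (Fin m) F) = N := rfl
  refine ⟨A, fun j => (g : Matrix (Fin (m + 1)) (Fin (m + 1)) F) 0 j.succ, Subtype.ext ?_⟩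
  rw [Matrix.SpecialLinearGroup.coe_mul, coe_lev, coe_rad, mul_add, mul_one, hA]
  ext i j
  refine Fin.cases ?_ (fun i => ?_) i <;> refine Fin.cases ?_ (fun j => ?_) j <;>
    simp [Matrix.mul_apply, Fin.sum_univ_succ, e0, hcol, Fin.succ_ne_zero, hN, vecMulVec_apply]

/-- The radical of a column. -/
def col (j : Fin (m + 1)) (b : Fin m → F) : Matrix.SpecialLinearGroup (Fin (m + 1)) F :=
  vv (j.insertNth 0 b) (Pi.single j 1) (by simp)

theorem col_add (j : Fin (m + 1)) (a b : Fin m → F) : col j (a + b) = col j a * col j b := by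
  apply Subtype.ext
  simp only [Matrix.SpecialLinearGroup.coe_mul, col, coe_vv, add_mul, mul_add, one_mul, mul_one,
    vecMulVec_mul_vecMulVec]
  ext k l
  rcases eq_or_ne k j with rfl | hk
  · simp [vecMulVec_apply]
  · obtain ⟨k, rfl⟩ := Fin.exists_succAbove_eq hk
    simp [vecMulVec_apply]
    ring

theorem col_single (j : Fin (m + 1)) (i : Fin m) (a : F) :
    col j (Pi.single i a) =
      Matrix.SpecialLinearGroup.transvection (Fin.succAbove_ne j i) a := by
  apply Subtype.ext
  rw [col, coe_vv, Matrix.SpecialLinearGroup.transvection_coe]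
  congr 1
  ext k l
  rcases eq_or_ne k j with rfl | hk
  · simp [vecMulVec_apply, Matrix.single_apply, Fin.succAbove_ne]
  · obtain ⟨k, rfl⟩ := Fin.exists_succAbove_eq hk
    simp [vecMulVec_apply, Matrix.single_apply, Pi.single_apply, eq_comm, ← ite_and, and_comm]

end Cfsg.Agent.SLRad
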