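import Cfsg.Agent.S2336
import Cfsg.Agent.Lib.MinDeg.SLRadical

/-!
The permutation character of `SL_{m+1}` on non-zero vectors, with degrees.
-/

set_option autoImplicit false
set_option linter.unusedSectionVars false
set_option linter.style.haveILetI false

namespace Cfsg.Agent.SLPerm

open Cfsg Cfsg.Agent.CT Cfsg.Agent.S2336 Matrix
open scoped ComplexConjugate

theorem exists_perm {F : Type*} [Field F] [Fintype F] [DecidableEq F] {m : ℕ} (hm : 2 ≤ m) :
    ∃ χ : Fin (Fintype.card F - 1) → (Matrix.SpecialLinearGroup (Fin (m + 1)) F → ℂ),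
      (∀ i, Cfsg.IsIrrCharacter (Matrix.SpecialLinearGroup (Fin (m + 1)) F) (χ i)) ∧
      (∀ i, ∑ j ∈ Finset.range (m + 1), Fintype.card F ^ j ≤ deg (χ i) + 1) ∧
      (∃ i, deg (χ i) + 1 = ∑ j ∈ Finset.range (m + 1), Fintype.card F ^ j) ∧
      indFun (SLRad.vecStab (F := F) (m := m)) (fun _ => (1 : ℂ)) = (fun _ => 1) + ∑ i, χ i := by
  have hn : 3 ≤ m + 1 := by omega
  classical
  letI := actNZ (F := F) (n := m + 1)
  let i₀ : Fin (m + 1) := 0
  haveI := pretransitive (F := F) (n := m + 1) hn
  set P := MulAction.stabilizer (Matrix.SpecialLinearGroup (Fin (m + 1)) F) (base (F := F) i₀) with hP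
  set L := lineStab (F := F) i₀
  set l := lam (F := F) i₀
  set d := Fintype.card F - 1 with hd
  have hcard : Nat.card Fˣ = d := by
    rw [Nat.card_units, Nat.card_eq_fintype_card]
  have hdpos : 0 < d := by
    have := Fintype.one_lt_card (α := F)
    omega
  haveI : NeZero d := ⟨hdpos.ne'⟩
  -- an injective character of the multiplicative group
  have hroots : Nat.card Fˣ = Nat.card (rootsOfUnity d ℂ) := by
    rw [hcard, Complex.card_rootsOfUnity]
  let j : Fˣ →* ℂˣ :=
    (rootsOfUnity d ℂ).subtype.comp (mulEquivOfCyclicCardEq hroots).toMonoidHom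
  have hj : Function.Injective j :=
    (rootsOfUnity d ℂ).subtype_injective.comp (mulEquivOfCyclicCardEq hroots).injective
  let θ : Fin d → L → ℂ := fun i h => ((j (l h) : ℂˣ) : ℂ) ^ (i : ℕ)
  have hθchar : ∀ i, IsCharacter L (θ i) := fun i => by
    have := isCharacter_lin ((powMonoidHom (i : ℕ)).comp (j.comp l))
    simpa [θ, powMonoidHom] using this
  let η : Fin d → Matrix.SpecialLinearGroup (Fin (m + 1)) F → ℂ := fun i => indFun L (θ i)
  have hηchar : ∀ i, IsCharacter _ (η i) := fun i => isCharacter_indFun L (hθchar i)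
  let z : Fin d := ⟨0, hdpos⟩
  have hηz : η z = indFun L (fun _ => 1) := by simp [η, θ, z]
  have hη1 : ∀ i, η i 1 = L.index := fun i => by simp [η, indFun_one_eval, θ]
  have hindex : 2 ≤ L.index := by
    have h0 : L.index ≠ 0 := Subgroup.index_ne_zero_of_finite
    have h1 : L.index ≠ 1 := fun h => lineStab_ne_top i₀ hn (Subgroup.index_eq_one.mp h)
    omega
  -- the permutation character
  set π : Matrix.SpecialLinearGroup (Fin (m + 1)) F → ℂ := fun g =>
    (Nat.card (MulAction.fixedBy {v : Fin (m + 1) → F // v ≠ 0} g) : ℂ) with hπdef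
  have hπind : π = indFun P (fun _ => 1) :=
    funext fun g => (indFun_one_eq_fixedBy _ (base (F := F) i₀) g).symm
  have hπsum : π = ∑ i, η i := by
    rw [hπind]
    funext g
    simp only [Finset.sum_apply, η, indFun, ← Finset.mul_sum]
    rw [Finset.sum_comm]
    have hinner : ∀ y, ∑ i, extendByZero L (θ i) y
        = (d : ℂ) * extendByZero P (fun _ => 1) y := by
      intro y
      by_cases hy : y ∈ L
      · simp only [extendByZero_mem L _ hy, θ]
        by_cases h1 : l ⟨y, hy⟩ = 1
        · rw [extendByZero_mem P _ ((lam_eq_one_iff i₀ ⟨y, hy⟩).mp h1), h1]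
          simp
        · rw [extendByZero_not_mem P _ fun h => h1 ((lam_eq_one_iff i₀ ⟨y, hy⟩).mpr h), mul_zero,
            Fin.sum_univ_eq_sum_range (fun k => ((j (l ⟨y, hy⟩) : ℂˣ) : ℂ) ^ k)]
          have hne : ((j (l ⟨y, hy⟩) : ℂˣ) : ℂ) ≠ 1 := fun h =>
            h1 (hj (by rw [map_one]; exact Units.ext h))
          rw [geom_sum_eq hne, ← Units.val_pow_eq_pow_val, ← map_pow,
            show l ⟨y, hy⟩ ^ d = 1 by rw [← hcard, pow_card_eq_one'], map_one, Units.val_one,
            sub_self, zero_div]
      · rw [extendByZero_not_mem P _ fun h => hy (stab_le_lineStab i₀ h), mul_zero]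
        exact Finset.sum_eq_zero fun i _ => extendByZero_not_mem L _ hy
    simp only [hinner, ← Finset.mul_sum]
    rw [card_lineStab i₀ hn, ← hP, hcard, ← mul_assoc, Nat.cast_mul, mul_inv]
    have : (d : ℂ) ≠ 0 := Nat.cast_ne_zero.mpr hdpos.ne'
    field_simp
  have hone : classInner π (fun _ => 1) = 1 := by
    rw [hπind, frobenius_reciprocity P _ (fun _ _ => rfl)]
    exact irr_inner_self isIrrCharacter_one
  have hnorm : classInner π π = (d : ℂ) + 1 := by
    conv_lhs => rw [hπind]; arg 2; rw [← hπind]
    rw [frobenius_reciprocity P _ (by rw [hπind]; exact isClassFunction_indFun P _)]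
    have hB := MulAction.sum_card_fixedBy_eq_card_orbits_mul_card_group P
      {v : Fin (m + 1) → F // v ≠ 0}
    simp only [← Nat.card_eq_fintype_card] at hB
    rw [card_orbits i₀ hn, hcard] at hB
    simp only [classInner, π, one_mul, map_natCast]
    rw [← Nat.cast_sum]
    have hB' : ∑ h : P, Nat.card (MulAction.fixedBy {v : Fin (m + 1) → F // v ≠ 0}
        (h : Matrix.SpecialLinearGroup (Fin (m + 1)) F)) = (d + 1) * Nat.card P := hB
    rw [hB', Nat.cast_mul]
    have : (Nat.card P : ℂ) ≠ 0 := card_ne_zero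
    push_cast
    field_simp
  -- split off the principal character
  let χ : Fin d → Matrix.SpecialLinearGroup (Fin (m + 1)) F → ℂ := Function.update η z (η z - fun _ => 1)
  have hz1 : classInner (η z) (fun _ => 1) = 1 := by
    rw [hηz, frobenius_reciprocity L _ (fun _ _ => rfl)]
    exact irr_inner_self isIrrCharacter_one
  have hχz : IsCharacter _ (η z - fun _ => (1 : ℂ)) := by
    have hm : 1 ≤ mult (η z) (fun _ => (1 : ℂ)) := by
      have := mult_spec (hηchar z) isCharacter_one
      rw [hz1] at this
      have : mult (η z) (fun _ => (1 : ℂ)) = 1 := by exact_mod_cast this.symm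
      omega
    simpa using isCharacter_sub_constituent (hηchar z) isIrrCharacter_one (k := 1) hm
  have hχchar : ∀ i, IsCharacter _ (χ i) := by
    intro i
    by_cases hi : i = z
    · subst hi; simpa [χ] using hχz
    · simpa [χ, hi] using hηchar i
  have hχne : ∀ i, χ i ≠ 0 := by
    intro i h
    have h' := congrFun h 1
    by_cases hi : i = z
    · subst hi
      simp [χ, hη1, sub_eq_zero] at h'
      exact lineStab_ne_top i₀ hn h'
    · simp [χ, hi, hη1] at h'
      omega
  have hsum : π = (fun _ => 1) + ∑ i, χ i := by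
    rw [hπsum, Finset.sum_update_of_mem (Finset.mem_univ z), ← add_assoc, add_sub_cancel,
      ← Finset.sum_eq_add_sum_sdiff_singleton_of_mem (Finset.mem_univ z)]
  obtain ⟨hirr, -⟩ := result_aux χ hχchar hχne π hsum hone (by rw [hnorm, Fintype.card_fin])
  have hPS : P = SLRad.vecStab (F := F) (m := m) := by
    ext g
    rw [hP, MulAction.mem_stabilizer_iff]
    exact ⟨fun h => congrArg Subtype.val h, fun h => Subtype.ext h⟩
  have hind : L.index = ∑ j ∈ Finset.range (m + 1), Fintype.card F ^ j := by
    have h1 := congrFun hπsum 1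
    rw [Finset.sum_apply] at h1
    simp only [hη1, Finset.sum_const, Finset.card_univ, Fintype.card_fin, π, nsmul_eq_mul] at h1
    have hX : MulAction.fixedBy {v : Fin (m + 1) → F // v ≠ 0}
        (1 : Matrix.SpecialLinearGroup (Fin (m + 1)) F) = Set.univ := Set.ext fun v => by simp
    rw [hX, Nat.card_univ, Nat.card_eq_fintype_card, Fintype.card_subtype_compl,
      Fintype.card_subtype_eq, Fintype.card_fun, Fintype.card_fin, ← Nat.cast_mul, Nat.cast_inj] at h1
    rw [Nat.geomSum_eq Fintype.one_lt_card, h1, hd, Nat.mul_div_cancel_left _ (hd ▸ hdpos)]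
  refine ⟨χ, hirr, fun i => ?_, ⟨z, ?_⟩, ?_⟩
  · rw [← hind]
    by_cases hi : i = z
    · subst hi
      simp only [χ, Function.update_self]
      have : deg (η z - fun _ => (1 : ℂ)) + 1 = L.index := by
        have h := deg_eq hχz
        simp only [Pi.sub_apply, hη1] at h
        exact_mod_cast (by rw [← h]; ring : ((deg (η z - fun _ => (1 : ℂ)) : ℂ) + 1) = (L.index : ℂ))
      omega
    · simp only [χ, Function.update_of_ne hi]
      have h := deg_eq (hηchar i)
      rw [hη1] at h
      have : deg (η i) = L.index := by exact_mod_cast h.symm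
      omega
  · rw [← hind]
    simp only [χ, Function.update_self]
    have h := deg_eq hχz
    simp only [Pi.sub_apply, hη1] at h
    exact_mod_cast (by rw [← h]; ring : ((deg (η z - fun _ => (1 : ℂ)) : ℂ) + 1) = (L.index : ℂ))
  · rw [← hsum, hπind]
    have key : ∀ H K : Subgroup (Matrix.SpecialLinearGroup (Fin (m + 1)) F), H = K →
        indFun H (fun _ => (1 : ℂ)) = indFun K (fun _ => (1 : ℂ)) := by rintro H _ rfl; rfl
    exact (key _ _ hPS).symm

end Cfsg.Agent.SLPerm
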