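import Cfsg.Agent.Lib.MinDeg.SLWeights
import Cfsg.Agent.Lib.MinDeg.SLPermChar

/-!
The smallest degree of a non-trivial irreducible representation of `SL_n(q)`, `n ≥ 3`.
-/

set_option autoImplicit false
set_option linter.unusedSectionVars false
set_option linter.style.haveILetI false

namespace Cfsg.Agent.SLMinDeg

open Matrix Cfsg.Agent.AbelianProj Cfsg.Agent.SLRad Cfsg.Agent.SLWt

/-- `1 + q + ... + q^(n-1)`. -/
def sc (q n : ℕ) : ℕ := ∑ i ∈ Finset.range n, q ^ i

theorem sc_succ (q n : ℕ) : sc q (n + 1) = sc q n + q ^ n := Finset.sum_range_succ _ _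

theorem sc_succ' (q n : ℕ) : sc q (n + 1) = q * sc q n + 1 := by
  rw [sc, Finset.sum_range_succ', pow_zero, sc, Finset.mul_sum]
  simp [pow_succ']

theorem sc_le_pow {q : ℕ} (hq : 2 ≤ q) (n : ℕ) : sc q n + 1 ≤ q ^ n := by
  induction n with
  | zero => simp [sc]
  | succ n ih =>
    rw [sc_succ, pow_succ]
    nlinarith

section Lemmas

variable {F : Type*} [Field F] [Fintype F] [DecidableEq F] {m : ℕ}
variable {V : Type*} [AddCommGroup V] [Module ℂ V] [FiniteDimensional ℂ V]
variable (ρ : Representation ℂ (Matrix.SpecialLinearGroup (Fin (m + 1)) F) V)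

local notation "q" => Fintype.card F

theorem lev_mem_range (A : Matrix.SpecialLinearGroup (Fin m) F) {v : V}
    (hv : v ∈ LinearMap.range (wproj ρ 0)) : ρ (lev A) v ∈ LinearMap.range (wproj ρ 0) := by
  obtain ⟨x, rfl⟩ := hv
  exact ⟨ρ (lev A) x, (LinearMap.congr_fun (commute_lev ρ (A := A) (mulVec_zero _)).eq x).symm⟩

/-- The Levi complement on the fixed space of the radical. -/
noncomputable abbrev levRep :
    Representation ℂ (Matrix.SpecialLinearGroup (Fin m) F) (LinearMap.range (wproj ρ 0)) :=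
  CT.restrictSub (ρ.comp lev) (LinearMap.range (wproj ρ 0)) fun A _ hv => lev_mem_range ρ A hv

theorem coe_levRep (A : Matrix.SpecialLinearGroup (Fin m) F) (v : LinearMap.range (wproj ρ 0)) :
    (levRep ρ A v : V) = ρ (lev A) v := rfl

theorem char_levRep (A : Matrix.SpecialLinearGroup (Fin m) F) :
    (levRep ρ).character A = LinearMap.trace ℂ V (ρ (lev A) * wproj ρ 0) := by
  have hf : ∀ x, (ρ (lev A) * wproj ρ 0) x ∈ LinearMap.range (wproj ρ 0) := fun x =>
    lev_mem_range ρ A (LinearMap.mem_range_self _ x)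
  rw [← LinearMap.trace_restrict_eq_of_forall_mem _ _ hf]
  refine congrArg (LinearMap.trace ℂ _) (LinearMap.ext fun v => Subtype.ext ?_)
  show ρ (lev A) v = ρ (lev A) (wproj ρ 0 v)
  rw [proj_eq_self ρ rad_add v.2]

theorem trace_eq_zero_of_moved {A : Matrix.SpecialLinearGroup (Fin m) F} {c : Fin m → F}
    (h : (A : Matrix (Fin m) (Fin m) F) *ᵥ c ≠ c) :
    LinearMap.trace ℂ V (ρ (lev A) * wproj ρ c) = 0 := by
  have hidem : wproj ρ c * wproj ρ c = wproj ρ c := isIdempotent_proj ρ rad_add c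
  have hz : wproj ρ c * wproj ρ ((A : Matrix (Fin m) (Fin m) F) *ᵥ c) = 0 := by
    show proj ρ rad c * proj ρ rad ((A : Matrix (Fin m) (Fin m) F) *ᵥ c) = 0
    rw [proj_mul_proj ρ rad_add, if_neg h]
  rw [← hidem, ← mul_assoc, LinearMap.trace_mul_comm, lev_mul_wproj, ← mul_assoc, hz, zero_mul,
    map_zero]

/-- The character of a Levi transvection, weight space by weight space. -/
theorem char_lev_transvection {i j : Fin m} (hij : i ≠ j) {a : F} (ha : a ≠ 0) :
    ρ.character (lev (Matrix.SpecialLinearGroup.transvection hij a)) =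
      (levRep ρ).character (Matrix.SpecialLinearGroup.transvection hij a) +
      ∑ c ∈ Finset.univ.filter (fun c : Fin m → F => c ≠ 0 ∧ c j = 0),
        LinearMap.trace ℂ V (ρ (lev (Matrix.SpecialLinearGroup.transvection hij a)) * wproj ρ c) := by
  classical
  have e : ∀ g : Matrix.SpecialLinearGroup (Fin (m + 1)) F,
      ρ.character g = ∑ c : Fin m → F, LinearMap.trace ℂ V (ρ g * wproj ρ c) := by
    intro g
    rw [← map_sum, ← Finset.mul_sum, sum_proj ρ (r := rad) rad_add, mul_one]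
    rfl
  rw [e, char_levRep, ← Finset.add_sum_erase _ _ (Finset.mem_univ (0 : Fin m → F))]
  congr 1
  symm
  refine Finset.sum_subset (fun c hc => ?_) (fun c hc hc' => ?_)
  · simp only [Finset.mem_filter] at hc
    exact Finset.mem_erase.mpr ⟨hc.2.1, Finset.mem_univ _⟩
  · refine trace_eq_zero_of_moved ρ fun e => hc' ?_
    rw [transvection_mulVec_eq_iff hij ha] at e
    exact Finset.mem_filter.mpr ⟨Finset.mem_univ _, (Finset.mem_erase.mp hc).1, e⟩

theorem card_filter_fixed {l : ℕ} (j : Fin (l + 1)) :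
    (Finset.univ.filter (fun c : Fin (l + 1) → F => c ≠ 0 ∧ c j = 0)).card + 1 = q ^ l := by
  classical
  have h : (Finset.univ.filter (fun c : Fin (l + 1) → F => c j = 0)) =
      Finset.univ.image (fun b : Fin l → F => (j.insertNth 0 b : Fin (l + 1) → F)) := by
    ext c
    simp only [Finset.mem_filter, Finset.mem_univ, true_and, Finset.mem_image]
    refine ⟨fun hc => ⟨j.removeNth c, ?_⟩, ?_⟩
    · rw [← hc, Fin.insertNth_self_removeNth]
    · rintro ⟨b, rfl⟩
      simp
  have h2 : (Finset.univ.filter (fun c : Fin (l + 1) → F => c ≠ 0 ∧ c j = 0)) =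
      (Finset.univ.filter (fun c : Fin (l + 1) → F => c j = 0)).erase 0 := by
    ext c; simp
  rw [h2, Finset.card_erase_add_one (by simp), h,
    Finset.card_image_of_injective _ (f := fun b : Fin l → F => (j.insertNth 0 b : Fin (l + 1) → F))
      (fun a b hab => Fin.insertNth_right_injective (α := fun _ => F) (x := (0 : F)) hab), Finset.card_univ,
    Fintype.card_fun, Fintype.card_fin]

theorem trace_weight_norm (hm : 2 ≤ m) (hd : dT ρ = 1) {A : Matrix.SpecialLinearGroup (Fin m) F}
    {c : Fin m → F} (hc : c ≠ 0) (hA : (A : Matrix (Fin m) (Fin m) F) *ᵥ c = c) :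
    ‖LinearMap.trace ℂ V (ρ (lev A) * wproj ρ c)‖ ≤ 1 := by
  have h1 := (finrank_wproj ρ hm hc).trans hd
  obtain ⟨μ, hμ⟩ := exists_scalar ρ h1 (commute_lev ρ hA)
  rw [hμ, map_smul, trace_proj_eq_finrank ρ rad_add, h1, Nat.cast_one, smul_eq_mul, mul_one]
  exact (norm_scalar ρ h1 hμ).le

/-- A vector fixed by the stabiliser of a point. -/
theorem perm_case (hm : 2 ≤ m) (hρ : ρ.IsIrreducible) (hk : 2 ≤ Module.finrank ℂ V) {w : V}
    (hw : w ≠ 0) (hr : ∀ b, ρ (rad b) w = w) (hl : ∀ A, ρ (lev A) w = w) :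
    sc q (m + 1) ≤ Module.finrank ℂ V + 1 := by
  classical
  obtain ⟨χ, hirr, hdeg, -, hπ⟩ := SLPerm.exists_perm (F := F) hm
  haveI := hρ
  set θ := ρ.character with hθdef
  have hθ : IsIrrCharacter _ θ := CT.isIrrCharacter_character ρ
  set P := vecStab (F := F) (m := m)
  have hfix : ∀ h : P, ρ (h : Matrix.SpecialLinearGroup (Fin (m + 1)) F) w = w := by
    intro h
    obtain ⟨A, b, e⟩ := mem_vecStab h.2
    rw [e, map_mul, Module.End.mul_apply, hr, hl]
  have hne : classInner (Cfsg.indFun P (fun _ => (1 : ℂ))) θ ≠ 0 := by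
    rw [CT.frobenius_reciprocity P _ (CT.isClassFunction_of_isIrr hθ)]
    haveI := invertibleOfNonzero (CT.card_ne_zero (G := P))
    let σ : Representation ℂ P V := ρ.comp P.subtype
    have h := (Representation.isProj_averageMap σ).trace
    have e : LinearMap.trace ℂ V (Representation.averageMap σ) =
        (Nat.card P : ℂ)⁻¹ * ∑ h : P, θ h := by
      simp [σ, Representation.averageMap, GroupAlgebra.average, hθdef, Representation.character,
        map_sum, Nat.card_eq_fintype_card]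
    rw [e] at h
    simp only [classInner, one_mul]
    rw [← map_sum, show ∑ h : P, θ (h : Matrix.SpecialLinearGroup (Fin (m + 1)) F) =
      (Nat.card P : ℂ) * (Module.finrank ℂ σ.invariants : ℂ) from
        (inv_mul_eq_iff_eq_mul₀ CT.card_ne_zero).mp h, map_mul, map_natCast, map_natCast,
      ← mul_assoc, inv_mul_cancel₀ CT.card_ne_zero, one_mul, Nat.cast_ne_zero]
    haveI : Nontrivial σ.invariants :=
      ⟨⟨w, fun h => hfix h⟩, 0, fun e => hw (congrArg Subtype.val e)⟩
    exact Module.finrank_pos.ne'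
  rw [hπ, CT.classInner_add_left, CT.classInner_sum_left] at hne
  by_cases h0 : classInner (fun _ => (1 : ℂ)) θ = 0
  · rw [h0, zero_add] at hne
    obtain ⟨i, -, hi⟩ := Finset.exists_ne_zero_of_sum_ne_zero hne
    have e := CT.eq_of_inner_ne_zero (hirr i) hθ hi
    have := hdeg i
    rw [e, hθdef, CT.deg_eq_finrank] at this
    exact this
  · have e := congrFun (CT.eq_of_inner_ne_zero CT.isIrrCharacter_one hθ h0) 1
    rw [hθdef, Representation.char_one] at e
    have : Module.finrank ℂ V = 1 := by exact_mod_cast e.symm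
    omega

theorem exists_pow_ne_one (k : ℕ) (hk : ¬ (q - 1) ∣ k) : ∃ t : Fˣ, t ^ k ≠ 1 := by
  by_contra h
  simp only [not_exists, not_not] at h
  obtain ⟨g, hg⟩ := IsCyclic.exists_generator (α := Fˣ)
  apply hk
  rw [← Fintype.card_units, ← Nat.card_eq_fintype_card, ← orderOf_eq_card_of_forall_mem_zpowers hg]
  exact orderOf_dvd_of_pow_eq_one (h g)

theorem not_dvd_three (h2 : q ≠ 2) (h4 : q ≠ 4) : ¬ (q - 1) ∣ 3 := fun h => by
  have := Nat.le_of_dvd (by norm_num) h
  have hq : 2 ≤ q := Fintype.one_lt_card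
  interval_cases hc : q - 1 <;> omega

theorem not_dvd_two (h2 : q ≠ 2) (h3 : q ≠ 3) : ¬ (q - 1) ∣ 2 := fun h => by
  have := Nat.le_of_dvd (by norm_num) h
  have hq : 2 ≤ q := Fintype.one_lt_card
  omega

/-- Torus elements of ratio `t³`. -/
theorem fix_three (hd : dT ρ = 1) (hm : 2 ≤ m) (h2 : q ≠ 2) (h4 : q ≠ 4) {i j : Fin m} (hij : i ≠ j)
    {c : Fin m → F} (hc : c ≠ 0) (hsupp : ∀ k, k ≠ i → c k = 0) (a : F) :
    ρ (lev (Matrix.SpecialLinearGroup.transvection hij a)) * wproj ρ c = wproj ρ c := by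
  obtain ⟨t, ht⟩ := exists_pow_ne_one (F := F) 3 (not_dvd_three h2 h4)
  have hij' : i.succ ≠ j.succ := fun e => hij (Fin.succ_inj.mp e)
  let d : Fin (m + 1) → F := Pi.mulSingle 0 (t : F) *
    (Pi.mulSingle i.succ (t : F) * Pi.mulSingle j.succ (((t⁻¹ * t⁻¹ : Fˣ) : F)))
  refine transvection_fix_torus ρ ((finrank_wproj ρ hm hc).trans hd) hij (hsupp j hij.symm) d ?_ ?_ ?_ a
  · simp only [d, Pi.mul_apply, Finset.prod_mul_distrib, Finset.prod_pi_mulSingle', Finset.mem_univ, if_true]
    rw [← Units.val_mul, ← Units.val_mul, ← Units.val_one]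
    congr 1
    rw [← mul_assoc, mul_mul_mul_comm, mul_inv_cancel, one_mul]
  · intro k hk
    have hki : k = i := by by_contra e; exact hk (hsupp k e)
    subst hki
    simp [d, hij', Fin.succ_ne_zero, (Fin.succ_ne_zero _).symm]
  · simp only [d, Pi.mul_apply, Pi.mulSingle_apply, hij', hij'.symm, Fin.succ_ne_zero, if_false,
      if_true, one_mul, mul_one]
    intro e
    apply ht
    have e' : t = t⁻¹ * t⁻¹ := Units.ext e
    calc t ^ 3 = t * (t * t) := by rw [pow_succ', pow_two]
      _ = t⁻¹ * t⁻¹ * (t * t) := by rw [← e']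
      _ = 1 := by rw [mul_mul_mul_comm, inv_mul_cancel, one_mul]

/-- Torus elements of ratio `t²`. -/
theorem fix_two (hd : dT ρ = 1) (hm : 2 ≤ m) (h2 : q ≠ 2) (h3 : q ≠ 3) {i j : Fin m} (hij : i ≠ j)
    {c : Fin m → F} (hc : c ≠ 0) (hci : c i = 0) (hcj : c j = 0) (a : F) :
    ρ (lev (Matrix.SpecialLinearGroup.transvection hij a)) * wproj ρ c = wproj ρ c := by
  obtain ⟨t, ht⟩ := exists_pow_ne_one (F := F) 2 (not_dvd_two h2 h3)
  have hij' : i.succ ≠ j.succ := fun e => hij (Fin.succ_inj.mp e)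
  let d : Fin (m + 1) → F := Pi.mulSingle i.succ (t : F) * Pi.mulSingle j.succ ((t⁻¹ : Fˣ) : F)
  refine transvection_fix_torus ρ ((finrank_wproj ρ hm hc).trans hd) hij hcj d ?_ ?_ ?_ a
  · simp only [d, Pi.mul_apply, Finset.prod_mul_distrib, Finset.prod_pi_mulSingle', Finset.mem_univ, if_true]
    rw [← Units.val_mul, mul_inv_cancel, Units.val_one]
  · intro k hk
    have hki : k.succ ≠ i.succ := fun e => hk (Fin.succ_inj.mp e ▸ hci)
    have hkj : k.succ ≠ j.succ := fun e => hk (Fin.succ_inj.mp e ▸ hcj)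
    simp [d, hki, hkj, (Fin.succ_ne_zero _).symm]
  · simp only [d, Pi.mul_apply, Pi.mulSingle_apply, hij', hij'.symm, if_false, if_true, one_mul, mul_one]
    intro e
    apply ht
    have e' : t = t⁻¹ := Units.ext e
    rw [pow_two]
    conv_lhs => arg 1; rw [e']
    exact inv_mul_cancel t

/-- A whole column radical fixing a weight vector gives a fixed vector of the row radical. -/
theorem dE_pos_of_col (hm : 2 ≤ m) (hd : dT ρ = 1) {c : Fin m → F} (hc : c ≠ 0) {j : Fin m}
    (hcj : c j = 0)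
    (h : ∀ i, ∀ hij : i ≠ j, ∀ a,
      ρ (lev (Matrix.SpecialLinearGroup.transvection hij a)) * wproj ρ c = wproj ρ c) :
    0 < dE ρ := by
  classical
  have h1 := (finrank_wproj ρ hm hc).trans hd
  have hcol : ∀ b : Fin m → F, ρ (col j.succ b) * wproj ρ c = wproj ρ c := by
    intro b
    rw [← Finset.univ_sum_single b]
    induction (Finset.univ : Finset (Fin m)) using Finset.induction with
    | empty => rw [Finset.sum_empty, hom_zero (col_add j.succ), map_one, one_mul]
    | insert x s hx ih =>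
      rw [Finset.sum_insert hx, col_add, map_mul, mul_assoc, ih, col_single]
      have hne := Fin.succAbove_ne j.succ x
      revert hne
      refine Fin.cases (motive := fun k => ∀ hne : k ≠ j.succ,
        ρ (Matrix.SpecialLinearGroup.transvection hne (b x)) * wproj ρ c = wproj ρ c) ?_ ?_
        (j.succ.succAbove x)
      · intro hne
        rw [← rad_single, rad_mul_proj ρ rad_add]
        simp [hcj]
      · intro i hne
        have hij : i ≠ j := fun e => hne (congrArg Fin.succ e)
        have := h i hij (b x)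
        rw [lev_transvection] at this
        exact this
  by_contra he
  have hch : ∀ b : Fin m → F, b ≠ 0 → ρ.character (col j.succ b) = ρ.character u0 := by
    intro b hb
    refine char_vv ρ hm _ (fun e => hb (funext fun i => ?_)) (by simp)
    simpa using congrFun e (j.succ.succAbove i)
  have t1 := card_mul_trace_proj ρ (col_add j.succ) _ hch (0 : Fin m → F)
  have t2 := card_mul_trace_proj ρ rad_add _ (char_rad ρ hm) (0 : Fin m → F)
  rw [← t2, trace_proj_eq_finrank ρ (col_add j.succ), trace_proj_eq_finrank ρ rad_add] at t1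
  have t3 := mul_left_cancel₀ qm_ne_zero t1
  rw [show Module.finrank ℂ (LinearMap.range (wproj ρ 0)) = 0 from Nat.eq_zero_of_not_pos he,
    Nat.cast_inj, Submodule.finrank_eq_zero, LinearMap.range_eq_bot] at t3
  apply ne_zero_of_finrank h1
  refine LinearMap.ext fun x => ?_
  have := eq_proj_zero ρ (r := col j.succ) (v := wproj ρ c x) fun b => LinearMap.congr_fun (hcol b) x
  rw [t3] at this
  simpa using this.symm

theorem dE_pos (hm : 2 ≤ m) (hd : dT ρ = 1)
    (hex2 : m = 2 → q ≠ 2 ∧ q ≠ 4) (hex3 : m = 3 → q ≠ 2 ∧ q ≠ 3) : 0 < dE ρ := by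
  set i0 : Fin m := ⟨0, by omega⟩
  set j0 : Fin m := ⟨1, by omega⟩
  have h01 : i0 ≠ j0 := by simp [i0, j0, Fin.ext_iff]
  set c : Fin m → F := Pi.single i0 1
  have hc : c ≠ 0 := by simp [c]
  have hcz : ∀ k, k ≠ i0 → c k = 0 := fun k hk => by simp [c, hk]
  have h1 := (finrank_wproj ρ hm hc).trans hd
  refine dE_pos_of_col ρ hm hd hc (hcz j0 h01.symm) fun i hij a => ?_
  by_cases hi : i = i0
  · subst hi
    rcases (show m = 2 ∨ 3 ≤ m by omega) with h | h
    · exact fix_three ρ hd hm (hex2 h).1 (hex2 h).2 hij hc hcz a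
    · set k0 : Fin m := ⟨2, by omega⟩
      refine transvection_fix_comm ρ h1 (k := k0) ?_ ?_ hij (hcz _ ?_) (hcz _ h01.symm) a <;>
        simp [i0, j0, k0, Fin.ext_iff]
  · have hm3 : 3 ≤ m := by
      by_contra h
      have := i.2
      simp only [i0, j0, Fin.ext_iff, ne_eq] at hi hij
      omega
    rcases (show m = 3 ∨ 4 ≤ m by omega) with h | h
    · exact fix_two ρ hd hm (hex3 h).1 (hex3 h).2 hij hc (hcz i hi) (hcz _ h01.symm) a
    · obtain ⟨k, -, hk⟩ := Finset.exists_mem_notMem_of_card_lt_card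
        (t := (Finset.univ : Finset (Fin m))) (s := {i0, j0, i}) (by
          have := Finset.card_le_three (a := i0) (b := j0) (c := i)
          simp only [Finset.card_univ, Fintype.card_fin]
          omega)
      simp only [Finset.mem_insert, Finset.mem_singleton, not_or] at hk
      exact transvection_fix_comm ρ h1 (Ne.symm hk.2.2) hk.2.1 hij (hcz _ hk.1) (hcz _ h01.symm) a

end Lemmas

section Step

variable {F : Type*} [Field F] [Fintype F] [DecidableEq F]
variable {V : Type*} [AddCommGroup V] [Module ℂ V] [FiniteDimensional ℂ V]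

local notation "q" => Fintype.card F

/-- `SL_3`. -/
theorem three (ρ : Representation ℂ (Matrix.SpecialLinearGroup (Fin (2 + 1)) F) V) (hd : dT ρ = 1)
    (h2 : q ≠ 2) (h4 : q ≠ 4) : q ≤ dE ρ + 1 := by
  classical
  have hm : 2 ≤ (1 + 1 : ℕ) := le_rfl
  have h01 : (0 : Fin 2) ≠ 1 := by decide
  set e := dE ρ with he
  have hk : ρ.character (u0 : Matrix.SpecialLinearGroup (Fin (2 + 1)) F) = (e : ℂ) - 1 := by
    have h1 := finrank_eq ρ hm
    rw [hd, one_mul, ← he] at h1
    have h2 : (Module.finrank ℂ V : ℂ) + 1 = (e : ℂ) + (q : ℂ) ^ 2 := by exact_mod_cast h1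
    rw [char_u0 ρ hm, hd]
    linear_combination h2
  let r : (Fin 1 → F) → Matrix.SpecialLinearGroup (Fin 2) F := fun b =>
    Matrix.SpecialLinearGroup.transvection h01 (b 0)
  have hr : ∀ a b, r (a + b) = r a * r b := by
    intro a b
    apply Subtype.ext
    simp [r, Matrix.SpecialLinearGroup.transvection_coe, add_mul, mul_add,
      Matrix.single_mul_single_of_ne, h01.symm, Matrix.single_add]
    abel
  have hch : ∀ b : Fin 1 → F, b ≠ 0 → (levRep ρ).character (r b) = (e : ℂ) - q := by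
    intro b hb
    have hb0 : b 0 ≠ 0 := fun h => hb (funext fun i => by rw [Subsingleton.elim i 0]; exact h)
    have h := char_lev_transvection ρ h01 hb0
    rw [lev_transvection, char_transvection ρ hm _ hb0, hk] at h
    have hR : ∑ c ∈ Finset.univ.filter (fun c : Fin 2 → F => c ≠ 0 ∧ c 1 = 0),
        LinearMap.trace ℂ V (ρ (lev (Matrix.SpecialLinearGroup.transvection h01 (b 0))) * wproj ρ c)
          = ((Finset.univ.filter (fun c : Fin 2 → F => c ≠ 0 ∧ c 1 = 0)).card : ℂ) := by
      rw [Finset.sum_congr rfl fun c hc => ?_, Finset.sum_const, nsmul_eq_mul, mul_one]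
      simp only [Finset.mem_filter] at hc
      rw [fix_three ρ hd hm h2 h4 h01 hc.2.1 (fun k hk => ?_) (b 0), trace_proj_eq_finrank ρ rad_add,
        finrank_wproj ρ hm hc.2.1, hd, Nat.cast_one]
      rw [show k = 1 by omega]
      exact hc.2.2
    rw [lev_transvection] at hR
    rw [hR] at h
    have hcard := card_filter_fixed (F := F) (1 : Fin (1 + 1))
    have hcard' : ((Finset.univ.filter (fun c : Fin 2 → F => c ≠ 0 ∧ c 1 = 0)).card : ℂ) + 1 = q := by
      rw [pow_one] at hcard
      exact_mod_cast hcard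
    show (levRep ρ).character (Matrix.SpecialLinearGroup.transvection h01 (b 0)) = _
    linear_combination -h - hcard'
  have t := card_mul_trace_proj (levRep ρ) hr _ hch (0 : Fin 1 → F)
  rw [trace_proj_eq_finrank (levRep ρ) hr, if_pos rfl, pow_one,
    show Module.finrank ℂ (LinearMap.range (wproj ρ 0)) = e from rfl] at t
  set f := Module.finrank ℂ (LinearMap.range (proj (levRep ρ) r 0))
  have : ((f + q : ℕ) : ℂ) = ((e + 1 : ℕ) : ℂ) := by
    push_cast
    refine mul_left_cancel₀ (a := (q : ℂ)) (Nat.cast_ne_zero.mpr Fintype.card_ne_zero) ?_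
    linear_combination t
  have : f + q = e + 1 := by exact_mod_cast this
  omega

/-- The recursion from `SL_{l+2}` to `SL_{l+1}`. -/
theorem step {l : ℕ} (hl : 2 ≤ l)
    (ρ : Representation ℂ (Matrix.SpecialLinearGroup (Fin (l + 1 + 1)) F) V)
    (hρ : ρ.IsIrreducible) (hk : 2 ≤ Module.finrank ℂ V) (hd : dT ρ = 1) :
    sc q (l + 1 + 1) ≤ Module.finrank ℂ V + 1 ∨ dE ρ = 0 ∨
      ((levRep ρ).IsIrreducible ∧ dT (levRep ρ) = 1) := by
  classical
  have hm : 2 ≤ l + 1 := by omega
  by_cases he : dE ρ = 0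
  · exact Or.inr (Or.inl he)
  by_cases hw : ∃ v : LinearMap.range (wproj ρ 0), v ≠ 0 ∧ ∀ A, levRep ρ A v = v
  · obtain ⟨v, hv, hfix⟩ := hw
    exact Or.inl (perm_case ρ hm hρ hk (w := v.1) (fun e => hv (Subtype.ext e))
      (fixed_of_mem_range_zero ρ rad_add v.2) fun A => congrArg Subtype.val (hfix A))
  simp only [not_exists, not_and, ne_eq] at hw
  refine Or.inr (Or.inr ?_)
  have h01 : (⟨0, by omega⟩ : Fin (l + 1)) ≠ ⟨1, by omega⟩ := by simp
  set D := dT (levRep ρ) with hD
  have h := char_lev_transvection ρ h01 (one_ne_zero (α := F))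
  rw [lev_transvection, char_transvection ρ hm _ one_ne_zero, char_u0 ρ hm, hd,
    char_transvection (levRep ρ) hl h01 one_ne_zero, char_u0 (levRep ρ) hl, ← hD] at h
  have h1 := finrank_eq ρ hm
  rw [hd, one_mul] at h1
  have h1' : (Module.finrank ℂ V : ℂ) + 1 = (dE ρ : ℂ) + (q : ℂ) ^ (l + 1) := by exact_mod_cast h1
  set R := ∑ c ∈ Finset.univ.filter (fun c : Fin (l + 1) → F => c ≠ 0 ∧ c ⟨1, by omega⟩ = 0),
    LinearMap.trace ℂ V (ρ (Matrix.SpecialLinearGroup.transvection
      (fun e => h01 (Fin.succ_inj.mp e) : (⟨0, by omega⟩ : Fin (l + 1)).succ ≠ (⟨1, by omega⟩ : Fin (l + 1)).succ)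
        (1 : F)) * wproj ρ c) with hR
  have hRval : R = (((D * q ^ l : ℕ) : ℤ) - 1 : ℤ) := by
    rw [show Module.finrank ℂ (LinearMap.range (wproj ρ 0)) = dE ρ from rfl] at h
    push_cast
    push_cast at h
    linear_combination h1' - h
  have hnorm : ‖R‖ ≤ ((q ^ l - 1 : ℕ) : ℝ) := by
    refine (norm_sum_le _ _).trans ((Finset.sum_le_card_nsmul _ _ (1 : ℝ) fun c hc => ?_).trans
      (le_of_eq ?_))
    · simp only [Finset.mem_filter] at hc
      rw [← lev_transvection h01]
      exact trace_weight_norm ρ hm hd hc.2.1 ((transvection_mulVec_eq_iff h01 one_ne_zero c).mpr hc.2.2)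
    · rw [nsmul_eq_mul, mul_one, Nat.cast_inj]
      have := card_filter_fixed (F := F) (⟨1, by omega⟩ : Fin (l + 1))
      omega
  rw [hRval, Complex.norm_intCast] at hnorm
  have hpow : 1 ≤ q ^ l := Nat.one_le_pow _ _ Fintype.card_pos
  have hle : D * q ^ l ≤ q ^ l := by
    have h2 : ((((D * q ^ l : ℕ) : ℤ) - 1 : ℤ) : ℝ) ≤ ((q ^ l - 1 : ℕ) : ℝ) := (le_abs_self _).trans hnorm
    have h3 : (((D * q ^ l : ℕ) : ℤ) - 1) ≤ ((q ^ l - 1 : ℕ) : ℤ) := by exact_mod_cast h2
    omega
  have hD1 : D ≤ 1 := Nat.le_of_mul_le_mul_right (by rwa [one_mul]) hpow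
  have hD0 : D ≠ 0 := by
    intro h0
    haveI : Nontrivial (LinearMap.range (wproj ρ 0)) :=
      Module.nontrivial_of_finrank_pos (R := ℂ) (Nat.pos_of_ne_zero he)
    obtain ⟨v, hv⟩ := exists_ne (0 : LinearMap.range (wproj ρ 0))
    exact hw v hv fun A => by rw [trivial_of_dT_zero (levRep ρ) hl h0 A]; rfl
  have hD' : dT (levRep ρ) = 1 := by omega
  refine ⟨isIrreducible_of_dT_one (levRep ρ) hl hD' fun v hv => ?_, hD'⟩
  by_contra hne
  exact hw v hne hv

end Step

theorem main {F : Type*} [Field F] [Fintype F] [DecidableEq F] :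
    ∀ (m : ℕ) {V : Type} [AddCommGroup V] [Module ℂ V] [FiniteDimensional ℂ V]
      (ρ : Representation ℂ (Matrix.SpecialLinearGroup (Fin (m + 1)) F) V),
      2 ≤ m → ρ.IsIrreducible → 2 ≤ Module.finrank ℂ V →
      (m = 2 → Fintype.card F ≠ 2 ∧ Fintype.card F ≠ 4) →
      (m = 3 → Fintype.card F ≠ 2 ∧ Fintype.card F ≠ 3) →
      sc (Fintype.card F) (m + 1) ≤ Module.finrank ℂ V + 1 := by
  intro m
  induction m using Nat.strong_induction_on with
  | _ m ih =>
  intro V _ _ _ ρ hm hρ hk hex2 hex3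
  set q := Fintype.card F with hq
  have hq2 : 2 ≤ q := Fintype.one_lt_card
  set k := Module.finrank ℂ V with hkdef
  have heq := finrank_eq ρ hm
  rw [← hq, ← hkdef] at heq
  have hdpos := dT_pos ρ hm hρ hk
  have hsc := sc_le_pow hq2 m
  rcases (show dT ρ = 1 ∨ 2 ≤ dT ρ by omega) with hd | hd
  swap
  · rw [sc_succ]
    nlinarith
  rw [hd, one_mul] at heq
  have hepos := dE_pos ρ hm hd hex2 hex3
  have hdvd := finrank_dvd ρ hm hρ hd
  rw [← hq, ← hkdef] at hdvd
  obtain ⟨l, rfl⟩ : ∃ l, m = l + 1 := ⟨m - 1, by omega⟩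
  rcases (show l = 1 ∨ 2 ≤ l by omega) with rfl | hl
  · -- SL_3
    obtain ⟨h2, h4⟩ := hex2 rfl
    have h3 := three ρ hd h2 h4
    rw [← hq] at h3
    by_contra hlt
    have hsum : sc q (1 + 1 + 1) = q ^ 2 + q + 1 := by
      simp [sc, Finset.sum_range_succ]; ring
    rw [hsum] at hlt
    have hq3 : 3 ≤ q := by omega
    norm_num [Finset.sum_range_succ] at hdvd
    have hz : (k : ℤ) ∣ ((q : ℤ) ^ 2 + q + 1) * ((q : ℤ) ^ 2 - 1) * (q : ℤ) ^ 2 := by
      have := Int.natCast_dvd_natCast.mpr hdvd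
      push_cast [Nat.cast_sub (Nat.one_le_pow 2 q (by omega))] at this
      ring_nf at this ⊢
      exact this
    simp only [show (1 + 1 : ℕ) = 2 from rfl] at heq
    rcases (show (k + 2 = q ^ 2 + q) ∨ (k + 1 = q ^ 2 + q) by omega) with hk2 | hk2
    · have e : (k : ℤ) = ((q : ℤ) + 2) * ((q : ℤ) - 1) := by
        have : (k : ℤ) + 2 = (q : ℤ) ^ 2 + q := by exact_mod_cast hk2
        linear_combination this
      rw [e, show ((q : ℤ) ^ 2 + q + 1) * ((q : ℤ) ^ 2 - 1) * (q : ℤ) ^ 2 =
        (((q : ℤ) ^ 2 + q + 1) * ((q : ℤ) + 1) * (q : ℤ) ^ 2) * ((q : ℤ) - 1) by ring] at hz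
      have hz2 := Int.dvd_of_mul_dvd_mul_right (by omega) hz
      have h12 : ((q : ℤ) + 2) ∣ -12 := by
        obtain ⟨x, hx⟩ := hz2
        exact ⟨x - ((q : ℤ) ^ 4 + 2 * q ^ 2 - 3 * q + 6), by linear_combination hx⟩
      rw [dvd_neg] at h12
      have h12' : q + 2 ∣ 12 := by exact_mod_cast h12
      have := Nat.le_of_dvd (by norm_num) h12'
      have hqp : IsPrimePow q := FiniteField.isPrimePow_card F
      have hq10 : q ≤ 10 := by omega
      interval_cases q <;> first | omega | exact absurd hqp (by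
        rw [isPrimePow_nat_iff_bounded]; decide)
    · -- `k = q² + q - 1` is coprime to the class length
      have e : (k : ℤ) = (q : ℤ) ^ 2 + q - 1 := by
        have : (k : ℤ) + 1 = (q : ℤ) ^ 2 + q := by exact_mod_cast hk2
        linear_combination this
      have c1 : IsCoprime (k : ℤ) (q : ℤ) := ⟨-1, (q : ℤ) + 1, by rw [e]; ring⟩
      have c2 : IsCoprime (k : ℤ) ((q : ℤ) - 1) := ⟨1, -((q : ℤ) + 2), by rw [e]; ring⟩
      have c3 : IsCoprime (k : ℤ) ((q : ℤ) + 1) := ⟨-1, (q : ℤ), by rw [e]; ring⟩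
      have c4 : (k : ℤ) ∣ ((q : ℤ) ^ 2 + q + 1) := by
        rw [show ((q : ℤ) ^ 2 + q + 1) * ((q : ℤ) ^ 2 - 1) * (q : ℤ) ^ 2 =
          ((q : ℤ) ^ 2 + q + 1) * (((q : ℤ) - 1) * ((q : ℤ) + 1) * (q : ℤ) * q) by ring] at hz
        exact (((c2.mul_right c3).mul_right c1).mul_right c1).dvd_of_dvd_mul_right hz
      have c5 : (k : ℤ) ∣ 2 := by
        obtain ⟨x, hx⟩ := c4
        exact ⟨x - 1, by linear_combination hx + e⟩
      have := Int.le_of_dvd (by norm_num) c5
      nlinarith
  -- `n ≥ 4`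
  rcases step hl ρ hρ hk hd with h | h | ⟨hirr, hd'⟩
  · exact h
  · omega
  set e := Module.finrank ℂ (LinearMap.range (wproj ρ 0)) with hedef
  have hee : dE ρ = e := rfl
  rw [hee] at heq hepos
  have heq' := finrank_eq (levRep ρ) hl
  rw [hd', ← hedef, ← hq, one_mul] at heq'
  have he2 : 2 ≤ e := by
    have : q ^ 2 ≤ q ^ l := Nat.pow_le_pow_right (by omega) hl
    nlinarith
  have hdvd' := finrank_dvd (levRep ρ) hl hirr hd'
  rw [← hedef, ← hq] at hdvd'
  have hscs := sc_succ q (l + 1)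
  by_cases hex : (l = 2 → q ≠ 2 ∧ q ≠ 4) ∧ (l = 3 → q ≠ 2 ∧ q ≠ 3)
  · have hind := ih l (by omega) (levRep ρ) hl hirr he2 hex.1 hex.2
    rw [← hedef] at hind
    by_contra hlt
    have hk2 : k + 2 = sc q (l + 1 + 1) := by omega
    rw [sc_succ'] at hk2
    rw [show (∑ i ∈ Finset.range (l + 1 + 1), q ^ i) = sc q (l + 1 + 1) from rfl, sc_succ'] at hdvd
    set s := sc q (l + 1) with hs
    have hs7 : 7 ≤ s := by
      have h3 : sc q 3 ≤ sc q (l + 1) := Finset.sum_le_sum_of_subset (Finset.range_mono (by omega))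
      have e3 : sc q 3 = 1 + q + q ^ 2 := by simp [sc, Finset.sum_range_succ]
      rw [hs]
      nlinarith
    have hkz : (k : ℤ) = (q : ℤ) * s - 1 := by
      have : (k : ℤ) + 2 = (q : ℤ) * s + 1 := by exact_mod_cast hk2
      linear_combination this
    have hpw : q ^ (l + 1) - 1 = s * (q - 1) := by
      zify [Nat.one_le_pow (l + 1) q (by omega), show 1 ≤ q by omega]
      rw [hs, sc]; push_cast
      exact (geom_sum_mul _ _).symm
    rw [hpw] at hdvd
    have hz : (k : ℤ) ∣ ((q : ℤ) * s + 1) * ((q : ℤ) - 1) * ((s : ℤ) * (q : ℤ) ^ (l + 1)) := by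
      have := Int.natCast_dvd_natCast.mpr hdvd
      push_cast [Nat.cast_sub (show 1 ≤ q by omega)] at this
      ring_nf at this ⊢
      exact this
    have c1 : IsCoprime (k : ℤ) (q : ℤ) := ⟨-1, s, by rw [hkz]; ring⟩
    have c2 : IsCoprime (k : ℤ) (s : ℤ) := ⟨-1, q, by rw [hkz]; ring⟩
    have c3 : (k : ℤ) ∣ 2 * ((q : ℤ) - 1) := by
      obtain ⟨x, hx⟩ := (c2.mul_right c1.pow_right).dvd_of_dvd_mul_right hz
      exact ⟨x - ((q : ℤ) - 1), by linear_combination hx + ((q : ℤ) - 1) * hkz⟩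
    have := Int.le_of_dvd (by omega) c3
    nlinarith
  · by_contra hlt
    rcases (show (l = 2 ∧ (q = 2 ∨ q = 4)) ∨ (l = 3 ∧ (q = 2 ∨ q = 3)) by tauto) with
      ⟨rfl, hh⟩ | ⟨rfl, hh⟩
    · rcases hh with hh | hh
      · exact (hex3 rfl).1 hh
      · rw [hh] at hdvd hdvd' hlt heq heq'
        norm_num [sc, Finset.sum_range_succ] at hdvd hdvd' hlt heq heq'
        have : k ≤ 83 := by omega
        have : 78 ≤ k := by omega
        interval_cases k <;> norm_num at hdvd
        have en : e = 17 := by omega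
        rw [en] at hdvd'
        norm_num at hdvd'
    · rcases hh with hh | hh <;> rw [hh] at hdvd hdvd' hlt heq heq' <;>
        norm_num [sc, Finset.sum_range_succ] at hdvd hdvd' hlt heq heq'
      · have : k ≤ 29 := by omega
        have : 22 ≤ k := by omega
        interval_cases k <;> norm_num at hdvd
        have en : e = 9 := by omega
        rw [en] at hdvd'
        norm_num at hdvd'
      · have : k ≤ 119 := by omega
        have : 106 ≤ k := by omega
        interval_cases k <;> norm_num at hdvd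
        · have en : e = 28 := by omega
          rw [en] at hdvd'
          norm_num at hdvd'
        · rcases step (l := 2) le_rfl (levRep ρ) hirr he2 hd' with h | h | ⟨-, hd''⟩
          · rw [← hedef, ← hq, hh] at h
            norm_num [sc, Finset.sum_range_succ] at h
            omega
          · omega
          · have h3 := finrank_eq (levRep (levRep ρ)) (le_refl 2)
            rw [hd'', ← hq, hh] at h3
            have h4 : Module.finrank ℂ (LinearMap.range (wproj (levRep ρ) 0)) = dE (levRep ρ) := rfl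
            omega

end Cfsg.Agent.SLMinDeg
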