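import Cfsg.Agent.Lib.MinDeg.SLMinDeg

/-!
Proper subgroups of `SL_n(q)` of small index.
-/

set_option autoImplicit false
set_option linter.unusedSectionVars false
set_option linter.style.haveILetI false

namespace Cfsg.Agent.SLMinIndex

open Matrix Cfsg.Agent.SLRad Cfsg.Agent.SLWt Cfsg.Agent.SLMinDeg

/-- A representation of degree one of a perfect group is trivial. -/
theorem trivial_of_finrank_one {G : Type*} [Group G] (hperf : commutator G = ⊤) {V : Type*}
    [AddCommGroup V] [Module ℂ V] [FiniteDimensional ℂ V] (ρ : Representation ℂ G V)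
    (h1 : Module.finrank ℂ V = 1) (g : G) : ρ g = 1 := by
  have hsc : ∀ f : Module.End ℂ V, ∃ μ : ℂ, ∀ v, f v = μ • v := by
    intro f
    obtain ⟨v, hv, hspan⟩ := finrank_eq_one_iff'.1 h1
    obtain ⟨μ, hμ⟩ := hspan (f v)
    refine ⟨μ, fun w => ?_⟩
    obtain ⟨a, rfl⟩ := hspan w
    rw [map_smul, ← hμ, smul_comm]
  have hc : ∀ a b : G, ρ a * ρ b = ρ b * ρ a := by
    intro a b
    obtain ⟨x, hx⟩ := hsc (ρ a)
    obtain ⟨y, hy⟩ := hsc (ρ b)
    exact LinearMap.ext fun v => by simp only [Module.End.mul_apply, hx, hy, smul_comm x y]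
  have hmem : g ∈ commutator G := hperf ▸ Subgroup.mem_top g
  rw [commutator_def] at hmem
  refine Subgroup.closure_induction (p := fun x _ => ρ x = 1) ?_ (map_one ρ)
    (fun a b _ _ ha hb => by rw [map_mul, ha, hb, one_mul])
    (fun a _ ha => by
      have := map_mul ρ a⁻¹ a
      rw [inv_mul_cancel, map_one, ha, mul_one] at this
      exact this.symm)
    (by rwa [Subgroup.commutator_def] at hmem)
  rintro _ ⟨a, -, b, -, rfl⟩
  rw [commutatorElement_def, map_mul, map_mul, map_mul, mul_assoc (ρ a), hc b a⁻¹,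
    ← mul_assoc, ← map_mul, mul_inv_cancel, map_one, one_mul, ← map_mul, mul_inv_cancel, map_one]

variable {F : Type*} [Field F] [Fintype F] [DecidableEq F] {m : ℕ}

local notation "q" => Fintype.card F
local notation "SLG" => Matrix.SpecialLinearGroup (Fin (m + 1)) F

/-- The reduced permutation character of a proper subgroup. -/
theorem exists_theta (H : Subgroup SLG) (hH : H ≠ ⊤) :
    ∃ θ : SLG → ℂ, IsCharacter SLG θ ∧ θ 1 = (H.index : ℂ) - 1 ∧ θ ≠ 0 ∧
      classInner θ (fun _ => (1 : ℂ)) = 0 ∧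
      ∀ g, θ g = (Nat.card (MulAction.fixedBy (SLG ⧸ H) g) : ℂ) - 1 := by
  classical
  set π := indFun H (fun _ => (1 : ℂ)) with hπ
  have hπc : IsCharacter SLG π := CT.isCharacter_indFun H CT.isCharacter_one
  have h1 : classInner π (fun _ => (1 : ℂ)) = 1 := by
    rw [hπ, CT.frobenius_reciprocity H _ (fun _ _ => rfl)]
    exact CT.irr_inner_self CT.isIrrCharacter_one
  have hmult : 1 ≤ CT.mult π (fun _ => (1 : ℂ)) := by
    have h := CT.mult_spec hπc CT.isCharacter_one
    rw [h1] at h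
    have : CT.mult π (fun _ => (1 : ℂ)) = 1 := by exact_mod_cast h.symm
    omega
  have hθ : IsCharacter SLG (π - fun _ => (1 : ℂ)) := by
    simpa using CT.isCharacter_sub_constituent hπc CT.isIrrCharacter_one (k := 1) hmult
  have hπ1 : π 1 = (H.index : ℂ) := by rw [hπ, CT.indFun_one_eval, mul_one]
  refine ⟨π - fun _ => (1 : ℂ), hθ, ?_, ?_, ?_, fun g => ?_⟩
  · rw [Pi.sub_apply, hπ1]
  · intro h
    have := congrFun h 1
    rw [Pi.sub_apply, hπ1, Pi.zero_apply, sub_eq_zero, Nat.cast_eq_one, Subgroup.index_eq_one] at this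
    exact hH this
  · rw [CT.classInner_sub_left, h1, CT.irr_inner_self CT.isIrrCharacter_one, sub_self]
  · rw [Pi.sub_apply, hπ]
    have := CT.indFun_one_eq_fixedBy (SLG ⧸ H) ((1 : SLG) : SLG ⧸ H) g
    rw [← this]
    congr 1
    have key : ∀ A B : Subgroup SLG, A = B → indFun A (fun _ => (1 : ℂ)) g = indFun B (fun _ => (1 : ℂ)) g := by
      rintro A _ rfl; rfl
    refine key _ _ ?_
    ext x
    rw [MulAction.mem_stabilizer_iff]
    show x ∈ H ↔ (((x * 1 : SLG) : SLG ⧸ H)) = ((1 : SLG) : SLG ⧸ H)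
    rw [mul_one, QuotientGroup.eq, mul_one, inv_mem_iff]

theorem index_ge (hm : 2 ≤ m) (hex2 : m = 2 → q ≠ 2 ∧ q ≠ 4) (hex3 : m = 3 → q ≠ 2 ∧ q ≠ 3)
    (H : Subgroup SLG) (hH : H ≠ ⊤) : sc q (m + 1) ≤ H.index := by
  classical
  obtain ⟨θ, hθ, hθ1, hθ0, hθi, -⟩ := exists_theta H hH
  obtain ⟨χ, hχ⟩ := CT.exists_constituent hθ hθ0
  have hle := CT.constituent_deg_le hθ χ
  have hmult : 1 ≤ CT.mult θ χ := by
    refine Nat.one_le_iff_ne_zero.mpr fun h0 => hχ ?_
    rw [CT.mult_spec hθ (CT.isCharacter_of_isIrr χ.2), h0, Nat.cast_zero]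
  have hdeg : CT.deg (χ : SLG → ℂ) + 1 ≤ H.index := by
    have h2 : CT.deg (χ : SLG → ℂ) ≤ CT.deg θ := le_trans (Nat.le_mul_of_pos_left _ hmult) hle
    have h3 : CT.deg θ + 1 = H.index := by
      have h := CT.deg_eq hθ
      rw [hθ1] at h
      exact_mod_cast (by rw [← h]; ring : ((CT.deg θ : ℂ) + 1) = (H.index : ℂ))
    omega
  obtain ⟨k, ρ, hρ, hρχ⟩ := χ.2
  have hk : 2 ≤ k := by
    by_contra hk
    haveI := hρ
    have hpos := CT.finrank_pos_of_irreducible ρ
    rw [Module.finrank_fin_fun] at hpos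
    obtain rfl : k = 1 := by omega
    apply hχ
    have : (χ : SLG → ℂ) = fun _ => 1 := by
      rw [← hρχ]
      funext g
      rw [Representation.character, trivial_of_finrank_one
        (LinGrp.commutator_SL_eq_top (by rw [Fintype.card_fin]; omega)) ρ (Module.finrank_fin_fun ℂ) g]
      simp
    rw [this]
    exact hθi
  have hk' : Module.finrank ℂ (Fin k → ℂ) = k := Module.finrank_fin_fun ℂ
  have := SLMinDeg.main m ρ hm hρ (by omega) hex2 hex3
  rw [hk'] at this
  rw [← hρχ, CT.deg_eq_finrank, hk'] at hdeg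
  omega

/-- In the exceptional cases a small index equals `q^m`, and no transvection fixes a coset. -/
theorem small_index (hm : 2 ≤ m) (H : Subgroup SLG) (hH : H ≠ ⊤) (hlt : H.index < 2 * q ^ m) :
    ∃ f : ℕ, H.index = q ^ m + f ∧
      (H.index - 1) ∣ sc q (m + 1) * (q ^ m - 1) * q ^ m ∧
      ((u0 : SLG) ∈ H → 1 ≤ f) := by
  classical
  obtain ⟨θ, hθ, hθ1, hθ0, hθi, hθv⟩ := exists_theta H hH
  obtain ⟨k, ρ, rfl⟩ := hθ
  have hk : k + 1 = H.index := by
    rw [Representation.char_one, Module.finrank_fin_fun] at hθ1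
    exact_mod_cast (by rw [hθ1]; ring : ((k : ℂ) + 1) = (H.index : ℂ))
  have hfix : ∀ v : Fin k → ℂ, (∀ g, ρ g v = v) → v = 0 := by
    intro v hv
    by_contra hne
    haveI := invertibleOfNonzero (CT.card_ne_zero (G := SLG))
    have h := (Representation.isProj_averageMap ρ).trace
    haveI : Nontrivial ρ.invariants := ⟨⟨v, hv⟩, 0, fun e => hne (congrArg Subtype.val e)⟩
    have hpos : 0 < Module.finrank ℂ ρ.invariants := Module.finrank_pos
    have e : LinearMap.trace ℂ (Fin k → ℂ) (Representation.averageMap ρ) =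
        classInner ρ.character (fun _ => (1 : ℂ)) := by
      simp [Representation.averageMap, GroupAlgebra.average, classInner, Representation.character,
        map_sum, Nat.card_eq_fintype_card]
    rw [e, hθi, eq_comm, Nat.cast_eq_zero] at h
    omega
  set f := Nat.card (MulAction.fixedBy (SLG ⧸ H) (u0 : SLG)) with hf
  have h1 := hθv u0
  rw [← hf, char_u0 ρ hm, Module.finrank_fin_fun] at h1
  have hN : H.index = f + dT ρ * q ^ m := by
    have e : ((H.index : ℕ) : ℂ) = ((f + dT ρ * q ^ m : ℕ) : ℂ) := by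
      rw [← hk]; push_cast; linear_combination h1
    exact_mod_cast e
  have hd0 : dT ρ ≠ 0 := by
    intro h0
    have hkpos : k ≠ 0 := by
      rintro rfl
      exact hH (Subgroup.index_eq_one.mp (by omega))
    let v : Fin k → ℂ := fun _ => 1
    have hv : v ≠ 0 := Function.ne_iff.mpr ⟨⟨0, by omega⟩, one_ne_zero⟩
    exact hv (hfix v fun g => by rw [trivial_of_dT_zero ρ hm h0 g]; rfl)
  have hd : dT ρ = 1 := by
    have : 1 ≤ q ^ m := Nat.one_le_pow _ _ Fintype.card_pos
    by_contra h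
    have : 2 ≤ dT ρ := by omega
    nlinarith
  have hirr := isIrreducible_of_dT_one ρ hm hd hfix
  have hdvd := finrank_dvd ρ hm hirr hd
  rw [Module.finrank_fin_fun] at hdvd
  refine ⟨f, by rw [hN, hd]; ring, ?_, fun hu => ?_⟩
  · rw [show H.index - 1 = k by omega]
    exact hdvd
  · rw [hf, Nat.one_le_iff_ne_zero, Nat.card_ne_zero]
    refine ⟨⟨⟨((1 : SLG) : SLG ⧸ H), ?_⟩⟩, inferInstance⟩
    rw [MulAction.mem_fixedBy]
    show (((u0 * 1 : SLG) : SLG ⧸ H)) = ((1 : SLG) : SLG ⧸ H)
    rw [mul_one, QuotientGroup.eq, mul_one, inv_mem_iff]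
    exact hu

theorem conj_subgroup_no_transvection (hm : 2 ≤ m) (H : Subgroup SLG) (hH : H ≠ ⊤)
    (hidx : H.index = q ^ m) {a φ : Fin (m + 1) → F} (h : φ ⬝ᵥ a = 0) (ha : a ≠ 0) (hφ : φ ≠ 0) :
    vv a φ h ∉ H := by
  intro hmem
  obtain ⟨g, hg⟩ := isConj_iff.mp (isConj_u0 hm h ha hφ)
  set H' := H.map (MulAut.conj g⁻¹).toMonoidHom with hH'
  have hidx' : H'.index = q ^ m := (Subgroup.index_map_equiv H (MulAut.conj g⁻¹)).trans hidx
  have hu : (u0 : SLG) ∈ H' := ⟨vv a φ h, hmem, by
    simp only [MulEquiv.coe_toMonoidHom, MulAut.conj_apply, inv_inv, ← hg]; group⟩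
  have hH'top : H' ≠ ⊤ := fun e => hH (Subgroup.index_eq_one.mp (by
    rw [← Subgroup.index_map_equiv H (MulAut.conj g⁻¹)]
    exact Subgroup.index_eq_one.mpr e))
  have hpos : 1 ≤ q ^ m := Nat.one_le_pow _ _ Fintype.card_pos
  obtain ⟨f, hf, -, hfu⟩ := small_index hm H' hH'top (by omega)
  have := hfu hu
  omega

omit [Fintype F] [DecidableEq F] in
theorem rad_mul_lev_mul (A A' : Matrix.SpecialLinearGroup (Fin m) F) (b b' : Fin m → F) :
    rad b * lev A * (rad b' * lev A') =
      rad (b + b' ᵥ* ((A⁻¹ : Matrix.SpecialLinearGroup (Fin m) F) : Matrix (Fin m) (Fin m) F)) *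
        lev (A * A') := by
  have h := lev_mul_rad A
    (b' ᵥ* ((A⁻¹ : Matrix.SpecialLinearGroup (Fin m) F) : Matrix (Fin m) (Fin m) F))
  rw [vecMul_vecMul, ← Matrix.SpecialLinearGroup.coe_mul, inv_mul_cancel,
    Matrix.SpecialLinearGroup.coe_one, vecMul_one] at h
  rw [mul_assoc, ← mul_assoc (lev A), h, rad_add, map_mul]
  simp only [mul_assoc]

/-- `SL_4(q)`, `q` odd, has no subgroup of index `q³`. -/
theorem no_index_cube (K : Subgroup (Matrix.SpecialLinearGroup (Fin (3 + 1)) F)) (hK : K ≠ ⊤)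
    (h2 : (2 : F) ≠ 0) : K.index ≠ q ^ 3 := by
  classical
  intro hidx
  have hno : ∀ (a φ : Fin (3 + 1) → F) (h : φ ⬝ᵥ a = 0), a ≠ 0 → φ ≠ 0 → vv a φ h ∉ K :=
    fun a φ h ha hφ => conj_subgroup_no_transvection (le_of_lt (by norm_num : (2 : ℕ) < 3)) K hK hidx h ha hφ
  have hrad : ∀ b : Fin 3 → F, rad b ∈ K → b = 0 := fun b hb => by
    by_contra hne
    exact hno _ _ _ e0_ne_zero (cons_zero_ne_zero hne) hb
  have hex : ∀ A, ∃ b : Fin 3 → F, rad b * lev A ∈ K := by
    have hinj : Function.Injective (fun b : Fin 3 → F =>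
        ((rad b : Matrix.SpecialLinearGroup (Fin (3 + 1)) F) : _ ⧸ K)) := by
      intro a b hab
      rw [QuotientGroup.eq] at hab
      have e : rad (b - a) = (rad a)⁻¹ * rad b := by
        rw [eq_inv_mul_iff_mul_eq, ← rad_add, add_sub_cancel]
      rw [← e] at hab
      exact (sub_eq_zero.mp (hrad _ hab)).symm
    have hbij := hinj.bijective_of_nat_card_le (by
      rw [← Subgroup.index, hidx, Nat.card_eq_fintype_card, Fintype.card_fun, Fintype.card_fin])
    intro A
    obtain ⟨b, hb⟩ := hbij.2 ((lev A : Matrix.SpecialLinearGroup (Fin (3 + 1)) F) : _ ⧸ K)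
    refine ⟨b ᵥ* 0 - b, ?_⟩
    rw [vecMul_zero, zero_sub]
    have e : rad (-b) = (rad b)⁻¹ := by
      rw [eq_inv_iff_mul_eq_one, ← rad_add, neg_add_cancel, AbelianProj.hom_zero (F := F) (m := 3) rad_add]
    rw [e]
    exact QuotientGroup.eq.mp hb
  choose B hB using hex
  have huniq : ∀ A b, rad b * lev A ∈ K → b = B A := fun A b hb => by
    have h := K.mul_mem hb (K.inv_mem (hB A))
    rw [_root_.mul_inv_rev, mul_assoc, ← mul_assoc (lev A), mul_inv_cancel, one_mul] at h
    have e : rad (b - B A) = rad b * (rad (B A))⁻¹ := by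
      rw [eq_mul_inv_iff_mul_eq, ← rad_add, sub_add_cancel]
    rw [← e] at h
    exact sub_eq_zero.mp (hrad _ h)
  have hmul : ∀ A A' : Matrix.SpecialLinearGroup (Fin 3) F, B (A * A') =
      B A + B A' ᵥ* ((A⁻¹ : Matrix.SpecialLinearGroup (Fin 3) F) : Matrix (Fin 3) (Fin 3) F) := by
    intro A A'
    refine (huniq _ _ ?_).symm
    rw [← rad_mul_lev_mul]
    exact K.mul_mem (hB A) (hB A')
  have h01 : (0 : Fin 3) ≠ 1 := by decide
  have h02 : (0 : Fin 3) ≠ 2 := by decide
  have h21 : (2 : Fin 3) ≠ 1 := by decide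
  set x : Matrix.SpecialLinearGroup (Fin 3) F := Matrix.SpecialLinearGroup.transvection h01 1 with hx
  set y : Matrix.SpecialLinearGroup (Fin 3) F := Matrix.SpecialLinearGroup.transvection h02 1 with hy
  set z : Matrix.SpecialLinearGroup (Fin 3) F := Matrix.SpecialLinearGroup.transvection h21 1 with hz
  have act : ∀ {i j : Fin 3} (hij : i ≠ j) (v : Fin 3 → F) (k : Fin 3),
      (v ᵥ* (((Matrix.SpecialLinearGroup.transvection hij (1 : F))⁻¹ :
        Matrix.SpecialLinearGroup (Fin 3) F) : Matrix (Fin 3) (Fin 3) F)) k =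
      v k - (if k = j then v i else 0) := by
    intro i j hij v k
    rw [Matrix.SpecialLinearGroup.transvection_inv, Matrix.SpecialLinearGroup.transvection_coe,
      vecMul_add, vecMul_one, Pi.add_apply]
    by_cases hk : k = j
    · subst hk; simp [vecMul, dotProduct, Matrix.single_apply, sub_eq_add_neg]
    · simp [vecMul, dotProduct, hk, Ne.symm hk]
  have hxy : x * y = y * x := Subtype.ext (by
    simp [hx, hy, Matrix.SpecialLinearGroup.transvection_coe, add_mul, mul_add,
      Matrix.single_mul_single_of_ne, h01.symm, h02.symm]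
    abel)
  have hxz : x * z = z * x := Subtype.ext (by
    simp [hx, hz, Matrix.SpecialLinearGroup.transvection_coe, add_mul, mul_add,
      Matrix.single_mul_single_of_ne, h01.symm, h21.symm]
    abel)
  have hyz : y * z = x * (z * y) := by
    have h := LinGrp.commutator_transvection (F := F) h02 h21 h01 1 1
    rw [commutatorElement_def, one_mul, ← hx, ← hy, ← hz] at h
    rw [← h]; group
  have e1 := congrArg B hxy
  rw [hmul, hmul] at e1
  have e2 := congrArg B hxz
  rw [hmul, hmul] at e2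
  have e3 := congrArg B hyz
  rw [hmul, hmul, hmul] at e3
  have a1 := congrFun e1 2
  have a2 := congrFun e2 1
  have a3 := congrFun e3 2
  simp only [Pi.add_apply, hx, hy, hz, act] at a1 a2 a3
  simp only [show (2 : Fin 3) ≠ 1 by decide, if_false, if_true,
    sub_zero] at a1 a2 a3
  have hb0 : B x 0 = 0 := by rw [← hx, ← hy] at a1; linear_combination a1
  have hb2 : B x 2 = 0 := by
    rw [← hx, ← hz] at a2
    rw [← hx, ← hy, ← hz] at a3
    refine (mul_eq_zero.mp (show (2 : F) * B x 2 = 0 from ?_)).resolve_left h2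
    linear_combination a2 - a3
  have hmem := hB x
  set t := B x 1
  have e : rad (B x) * lev x = vv (Pi.single (0 : Fin (3 + 1)) t + Pi.single 1 1) (Pi.single 2 1)
      (by simp) := by
    apply Subtype.ext
    have hBx : B x = Pi.single 1 t := by
      funext k; fin_cases k <;> simp [hb0, hb2, t]
    rw [hBx, rad_single, hx, lev_transvection, Matrix.SpecialLinearGroup.coe_mul,
      Matrix.SpecialLinearGroup.transvection_coe, Matrix.SpecialLinearGroup.transvection_coe, coe_vv,
      add_mul, one_mul, mul_add, mul_one, Matrix.single_mul_single_of_ne (h := by decide), add_zero,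
      add_assoc]
    congr 1
    ext i j
    fin_cases i <;> fin_cases j <;> simp [vecMulVec_apply]
  refine hno _ _ _ (fun h => ?_) (by simp) (e ▸ hmem)
  simpa using congrFun h 1

/-- `SL_3(q)`, `q` even, has no subgroup of index `q²` and even order. -/
theorem three_even (K : Subgroup (Matrix.SpecialLinearGroup (Fin (2 + 1)) F)) (hK : K ≠ ⊤)
    (h2 : (2 : F) = 0) (heven : Even (Nat.card K)) : K.index ≠ q ^ 2 := by
  intro hidx
  haveI : Fact (Nat.Prime 2) := ⟨Nat.prime_two⟩
  obtain ⟨⟨g, hgK⟩, hg⟩ := exists_prime_orderOf_dvd_card' (G := K) 2 heven.two_dvd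
  rw [← Subgroup.orderOf_coe] at hg
  change orderOf g = 2 at hg
  have hg2 : g * g = 1 := by
    have h := pow_orderOf_eq_one g
    rwa [hg, pow_two] at h
  have hg1 : g ≠ 1 := fun h => by rw [h, orderOf_one] at hg; omega
  set N : Matrix (Fin (2 + 1)) (Fin (2 + 1)) F := (g : Matrix _ _ F) - 1 with hN
  have hsq : N * N = 0 := by
    have : (g : Matrix (Fin (2 + 1)) (Fin (2 + 1)) F) * (g : Matrix _ _ F) = 1 := by
      rw [← Matrix.SpecialLinearGroup.coe_mul, hg2, Matrix.SpecialLinearGroup.coe_one]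
    rw [hN, sub_mul, mul_sub, one_mul, mul_one, this]
    ext i j
    simp only [Matrix.sub_apply, Matrix.zero_apply]
    have h2' : ∀ a : F, a + a = 0 := fun a => by rw [← two_mul, h2, zero_mul]
    linear_combination h2' ((1 : Matrix (Fin (2 + 1)) (Fin (2 + 1)) F) i j) - h2' ((g : Matrix _ _ F) i j)
  have hNne : N ≠ 0 := fun h => hg1 (Subtype.ext (by rw [← sub_eq_zero]; exact h))
  have hrank : N.rank = 1 := by
    have hle : LinearMap.range N.mulVecLin ≤ LinearMap.ker N.mulVecLin := by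
      rintro _ ⟨v, rfl⟩
      simp [mulVec_mulVec, hsq]
    have h1 := Submodule.finrank_mono hle
    have h3 := N.mulVecLin.finrank_range_add_finrank_ker
    rw [Module.finrank_fin_fun] at h3
    have hpos : N.rank ≠ 0 := fun h => hNne (by
      rw [Matrix.rank, Submodule.finrank_eq_zero, LinearMap.range_eq_bot] at h
      exact Matrix.ext_iff_mulVec.mpr fun v => by simpa using LinearMap.congr_fun h v)
    rw [Matrix.rank] at hpos ⊢
    omega
  obtain ⟨a, φ, ha, hφ, h0, he⟩ := TransvGL.exists_data (n := 2 + 1)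
    (t := (g : Matrix (Fin (2 + 1)) (Fin (2 + 1)) F)) ⟨hrank, hsq⟩
  refine conj_subgroup_no_transvection le_rfl K hK hidx h0 ha hφ ?_
  exact (Subtype.ext he.symm : vv a φ h0 = g) ▸ hgK

/-- The minimal index of `SL_{m+1}`. -/
theorem sl_index_ge (hm : 2 ≤ m) (hexc : ¬(m = 3 ∧ q = 2)) (H : Subgroup SLG) (hH : H ≠ ⊤) :
    sc q (m + 1) ≤ H.index := by
  by_cases hex : (m = 2 → q ≠ 2 ∧ q ≠ 4) ∧ (m = 3 → q ≠ 2 ∧ q ≠ 3)
  · exact index_ge hm hex.1 hex.2 H hH
  by_contra hlt
  have hlt2 : H.index < 2 * q ^ m := by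
    have := sc_le_pow (Fintype.one_lt_card (α := F)) m
    rw [sc_succ] at hlt
    omega
  obtain ⟨f, hf, hdvd, -⟩ := small_index hm H hH hlt2
  have hdvdG : H.index ∣ Nat.card SLG := Subgroup.index_dvd_card H
  have hcard := LinGrp.natCard_SL_mul (F := F) (m + 1) (by omega)
  rcases (show (m = 2 ∧ (q = 2 ∨ q = 4)) ∨ (m = 3 ∧ q = 3) by
    rcases Classical.not_and_iff_not_or_not.mp hex with h | h <;> tauto) with ⟨rfl, hq⟩ | ⟨rfl, hq⟩
  · have hchar : (2 : F) = 0 := by
      have h0 := FiniteField.cast_card_eq_zero F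
      rcases hq with h | h <;> rw [h] at h0
      · exact_mod_cast h0
      · refine (pow_eq_zero_iff (n := 2) two_ne_zero).mp ?_
        norm_num at h0 ⊢
        exact h0
    have hidx : H.index = q ^ 2 := by
      rcases hq with h | h <;> rw [h] at hlt hf hdvd hcard ⊢ <;>
        norm_num [sc, Finset.sum_range_succ, Fin.prod_univ_succ, -Nat.card_eq_fintype_card] at hlt hf hdvd hcard ⊢
      · have hG : Nat.card (Matrix.SpecialLinearGroup (Fin (2 + 1)) F) = 168 := by omega
        rw [hG] at hdvdG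
        have : f ≤ 2 := by omega
        interval_cases f <;> first | omega | (rw [hf] at hdvd; norm_num at hdvd; done) | (rw [hf] at hdvdG; norm_num at hdvdG)
      · have hG : Nat.card (Matrix.SpecialLinearGroup (Fin (2 + 1)) F) = 60480 := by omega
        rw [hG] at hdvdG
        have : f ≤ 4 := by omega
        interval_cases f <;> first | omega | (rw [hf] at hdvd; norm_num at hdvd; done) | (rw [hf] at hdvdG; norm_num at hdvdG)
    refine three_even H hH hchar ?_ hidx
    have hmul := H.card_mul_index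
    rw [hidx] at hmul
    rcases hq with h | h <;> rw [h] at hmul hcard <;>
      norm_num [Fin.prod_univ_succ, -Nat.card_eq_fintype_card] at hmul hcard <;>
      exact Nat.even_iff.mpr (by omega)
  · have h2 : (2 : F) ≠ 0 := by
      intro h
      have h0 := FiniteField.cast_card_eq_zero F
      rw [hq] at h0
      exact one_ne_zero (α := F) (by push_cast at h0; linear_combination h0 - h)
    refine no_index_cube H hH h2 ?_
    rw [hq] at hlt hf hdvd hcard ⊢
    norm_num [sc, Finset.sum_range_succ, Fin.prod_univ_succ, -Nat.card_eq_fintype_card] at hlt hf hdvd hcard ⊢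
    have hG : Nat.card (Matrix.SpecialLinearGroup (Fin (3 + 1)) F) = 12130560 := by omega
    rw [hG] at hdvdG
    have : f ≤ 12 := by omega
    interval_cases f <;> first | omega | (rw [hf] at hdvd; norm_num at hdvd; done) | (rw [hf] at hdvdG; norm_num at hdvdG)

end Cfsg.Agent.SLMinIndex
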