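import Cfsg.Agent.Lib.MinDeg.AbelianProj
import Cfsg.Agent.Lib.MinDeg.SLRadical
import Cfsg.Agent.Lib.ClassSum.Basic

/-!
Weights of the row radical in representations of `SL_{m+1}`, `m ≥ 2`.
-/

set_option autoImplicit false
set_option linter.unusedSectionVars false
set_option linter.style.haveILetI false

namespace Cfsg.Agent.SLWt

open Matrix Cfsg.Agent.AbelianProj Cfsg.Agent.SLRad
open scoped commutatorElement

variable {F : Type*} [Field F] [Fintype F] [DecidableEq F] {m : ℕ}
variable {V : Type*} [AddCommGroup V] [Module ℂ V] [FiniteDimensional ℂ V]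

local notation "G" => Matrix.SpecialLinearGroup (Fin (m + 1)) F
local notation "q" => Fintype.card F

/-- The weight projection. -/
noncomputable abbrev wproj (ρ : Representation ℂ (Matrix.SpecialLinearGroup (Fin (m + 1)) F) V)
    (c : Fin m → F) : Module.End ℂ V :=
  proj ρ (rad (F := F)) c

/-- A transvection. -/
def u0 : Matrix.SpecialLinearGroup (Fin (m + 1)) F := rad 1

/-- The dimension of a non-trivial weight space. -/
noncomputable def dT (ρ : Representation ℂ (Matrix.SpecialLinearGroup (Fin (m + 1)) F) V) : ℕ :=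
  Module.finrank ℂ (LinearMap.range (wproj ρ 1))

/-- The dimension of the fixed space of the radical. -/
noncomputable def dE (ρ : Representation ℂ (Matrix.SpecialLinearGroup (Fin (m + 1)) F) V) : ℕ :=
  Module.finrank ℂ (LinearMap.range (wproj ρ 0))

variable (ρ : Representation ℂ (Matrix.SpecialLinearGroup (Fin (m + 1)) F) V)

theorem one_vec_ne_zero (hm : 2 ≤ m) : (1 : Fin m → F) ≠ 0 :=
  Function.ne_iff.mpr ⟨⟨0, by omega⟩, one_ne_zero⟩

theorem isConj_u0 (hm : 2 ≤ m) {a φ : Fin (m + 1) → F} (h : φ ⬝ᵥ a = 0) (ha : a ≠ 0) (hφ : φ ≠ 0) :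
    IsConj u0 (vv a φ h) :=
  isConj_vv (by omega) (by simp [e0]) h e0_ne_zero (cons_zero_ne_zero (one_vec_ne_zero hm)) ha hφ

theorem char_vv (hm : 2 ≤ m) {a φ : Fin (m + 1) → F} (h : φ ⬝ᵥ a = 0) (ha : a ≠ 0) (hφ : φ ≠ 0) :
    ρ.character (vv a φ h) = ρ.character u0 := by
  obtain ⟨g, hg⟩ := isConj_iff.mp (isConj_u0 hm h ha hφ)
  rw [← hg, Representation.char_conj]

theorem char_rad (hm : 2 ≤ m) (b : Fin m → F) (hb : b ≠ 0) :
    ρ.character (rad b) = ρ.character u0 :=
  char_vv ρ hm _ e0_ne_zero (cons_zero_ne_zero hb)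

theorem char_transvection (hm : 2 ≤ m) {i j : Fin (m + 1)} (hij : i ≠ j) {a : F} (ha : a ≠ 0) :
    ρ.character (Matrix.SpecialLinearGroup.transvection hij a) = ρ.character u0 := by
  rw [transvection_eq_vv]
  exact char_vv ρ hm _ (by simp [ha]) (by simp)

theorem finrank_wproj (hm : 2 ≤ m) {c : Fin m → F} (hc : c ≠ 0) :
    Module.finrank ℂ (LinearMap.range (wproj ρ c)) = dT ρ := by
  have h1 := card_mul_trace_proj ρ rad_add _ (char_rad ρ hm) c
  have h2 := card_mul_trace_proj ρ rad_add _ (char_rad ρ hm) (1 : Fin m → F)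
  rw [if_neg hc, trace_proj_eq_finrank ρ rad_add] at h1
  rw [if_neg (one_vec_ne_zero hm), trace_proj_eq_finrank ρ rad_add, ← h1] at h2
  exact_mod_cast (mul_left_cancel₀ qm_ne_zero h2).symm

theorem char_u0 (hm : 2 ≤ m) :
    ρ.character u0 = (Module.finrank ℂ V : ℂ) - dT ρ * (q : ℂ) ^ m := by
  have h1 := card_mul_trace_proj ρ rad_add _ (char_rad ρ hm) (1 : Fin m → F)
  rw [if_neg (one_vec_ne_zero hm), trace_proj_eq_finrank ρ rad_add, add_zero] at h1
  rw [dT]
  linear_combination h1

theorem finrank_eq (hm : 2 ≤ m) :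
    Module.finrank ℂ V + dT ρ = dE ρ + dT ρ * q ^ m := by
  have h1 := card_mul_trace_proj ρ rad_add _ (char_rad ρ hm) (0 : Fin m → F)
  rw [if_pos rfl, trace_proj_eq_finrank ρ rad_add, char_u0 ρ hm] at h1
  have h2 : ((Module.finrank ℂ V + dT ρ : ℕ) : ℂ) = ((dE ρ + dT ρ * q ^ m : ℕ) : ℂ) := by
    push_cast
    refine mul_left_cancel₀ (qm_ne_zero (F := F) (m := m)) ?_
    rw [dE]
    linear_combination -h1
  exact_mod_cast h2

theorem eq_top_of_u0 (hm : 2 ≤ m) {S : Subgroup G}
    (hS : ∀ g x : G, x ∈ S → g * x * g⁻¹ ∈ S) (hu : u0 ∈ S) : S = ⊤ := by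
  rw [eq_top_iff, ← LinGrp.closure_transvectionSet, Subgroup.closure_le]
  rintro _ ⟨i, j, hij, a, rfl⟩
  rcases eq_or_ne a 0 with rfl | ha
  · rw [SetLike.mem_coe, SLRad.transvection_zero]; exact S.one_mem
  · rw [SetLike.mem_coe, transvection_eq_vv]
    obtain ⟨g, hg⟩ := isConj_iff.mp (isConj_u0 (F := F) hm (a := Pi.single i a) (φ := Pi.single j 1)
      (by simp [hij.symm]) (by simp [ha]) (by simp))
    exact hg ▸ hS g _ hu

/-- The elements fixing every vector of an invariant submodule. -/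
theorem fixes_of_u0 (hm : 2 ≤ m) (U : Submodule ℂ V) (hU : ∀ g, ∀ v ∈ U, ρ g v ∈ U)
    (hu : ∀ v ∈ U, ρ u0 v = v) : ∀ g, ∀ v ∈ U, ρ g v = v := by
  let S : Subgroup G :=
    { carrier := {g | ∀ v ∈ U, ρ g v = v}
      one_mem' := fun v _ => by simp
      mul_mem' := fun {a b} ha hb v hv => by
        rw [map_mul, Module.End.mul_apply, hb v hv, ha v hv]
      inv_mem' := fun {a} ha v hv => by
        conv_lhs => rw [← ha v hv]
        rw [← Module.End.mul_apply, ← map_mul, inv_mul_cancel, map_one, Module.End.one_apply] }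
  have hS : S = ⊤ := eq_top_of_u0 hm (fun g x hx v hv => by
    rw [map_mul, map_mul, Module.End.mul_apply, Module.End.mul_apply, hx _ (hU _ _ hv),
      ← Module.End.mul_apply, ← map_mul, mul_inv_cancel, map_one, Module.End.one_apply]) hu
  exact fun g => (hS ▸ Subgroup.mem_top g : g ∈ S)

theorem trivial_of_dT_zero (hm : 2 ≤ m) (hd : dT ρ = 0) (g : G) : ρ g = 1 := by
  have h := finrank_eq ρ hm
  rw [hd, zero_mul, add_zero, add_zero] at h
  have htop : LinearMap.range (wproj ρ 0) = ⊤ := Submodule.eq_top_of_finrank_eq h.symm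
  refine LinearMap.ext fun v => fixes_of_u0 ρ hm ⊤ (fun _ _ _ => trivial) (fun w _ => ?_) g v trivial
  exact fixed_of_mem_range_zero ρ rad_add (htop ▸ Submodule.mem_top) 1

theorem dT_pos (hm : 2 ≤ m) (hρ : ρ.IsIrreducible) (hk : 2 ≤ Module.finrank ℂ V) : 0 < dT ρ := by
  by_contra h0
  have h1 := trivial_of_dT_zero ρ hm (by omega)
  obtain ⟨hV, h⟩ := (CT.isIrreducible_iff ρ).mp hρ
  obtain ⟨v, hv⟩ := exists_ne (0 : V)
  rcases h (Submodule.span ℂ {v}) (fun g w hw => by rw [h1 g]; exact hw) with h2 | h2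
  · exact hv (Submodule.span_singleton_eq_bot.mp h2)
  · have := finrank_span_singleton (K := ℂ) hv
    rw [h2, finrank_top] at this
    omega

theorem proj_mem {U : Submodule ℂ V} (hU : ∀ g, ∀ v ∈ U, ρ g v ∈ U) (c : Fin m → F) {v : V}
    (hv : v ∈ U) : wproj ρ c v ∈ U := by
  simp only [proj, LinearMap.smul_apply, LinearMap.sum_apply]
  exact U.smul_mem _ (U.sum_mem fun b _ => U.smul_mem _ (hU _ _ hv))

theorem coe_proj_restrict {U : Submodule ℂ V} (hU : ∀ g, ∀ v ∈ U, ρ g v ∈ U) (c : Fin m → F)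
    (v : U) : (wproj (CT.restrictSub ρ U hU) c v : V) = wproj ρ c v := by
  simp [proj, Subrepresentation.toRepresentation]

theorem sum_wproj_apply (v : V) : ∑ c, wproj ρ c v = v := by
  rw [← LinearMap.sum_apply, sum_proj ρ rad_add, Module.End.one_apply]

theorem isIrreducible_of_dT_one (hm : 2 ≤ m) (hd : dT ρ = 1)
    (hfix : ∀ v : V, (∀ g, ρ g v = v) → v = 0) : ρ.IsIrreducible := by
  refine (CT.isIrreducible_iff ρ).mpr ⟨?_, fun U hU => ?_⟩
  · by_contra hV
    rw [not_nontrivial_iff_subsingleton] at hV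
    have h := finrank_eq ρ hm
    rw [dT, Subsingleton.elim (LinearMap.range (wproj ρ 1)) ⊥, finrank_bot] at hd
    omega
  refine or_iff_not_imp_left.mpr fun hne => ?_
  set σ := CT.restrictSub ρ U hU with hσ
  have hdU : dT σ ≠ 0 := by
    intro h0
    obtain ⟨v, hv, hv0⟩ := Submodule.exists_mem_ne_zero_of_ne_bot hne
    refine hv0 (hfix v fun g => ?_)
    exact congrArg Subtype.val (LinearMap.congr_fun (trivial_of_dT_zero σ hm h0 g) ⟨v, hv⟩)
  have hL : ∀ c : Fin m → F, c ≠ 0 → LinearMap.range (wproj ρ c) ≤ U := by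
    intro c hc
    have hpos : Nontrivial (LinearMap.range (wproj σ c)) :=
      Module.nontrivial_of_finrank_pos (R := ℂ) (by rw [finrank_wproj σ hm hc]; omega)
    obtain ⟨⟨y, hy⟩, hy0⟩ := exists_ne (0 : LinearMap.range (wproj σ c))
    have hy' : (y : V) ∈ LinearMap.range (wproj ρ c) :=
      ⟨y, by rw [← coe_proj_restrict ρ hU, proj_eq_self σ rad_add hy]⟩
    have hy0' : (⟨(y : V), hy'⟩ : LinearMap.range (wproj ρ c)) ≠ 0 := fun e =>
      hy0 (Subtype.ext (Subtype.ext (congrArg Subtype.val e :)))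
    intro x hx
    obtain ⟨a, ha⟩ := (finrank_eq_one_iff_of_nonzero' _ hy0').1
      ((finrank_wproj ρ hm hc).trans hd) ⟨x, hx⟩
    have e : a • (y : V) = x := congrArg Subtype.val ha
    exact e ▸ U.smul_mem _ y.2
  -- all group elements act trivially modulo `U`
  let S : Subgroup G :=
    { carrier := {g | ∀ v, ρ g v - v ∈ U}
      one_mem' := fun v => by simp
      mul_mem' := fun {a b} ha hb v => by
        have := U.add_mem (ha (ρ b v)) (hb v)
        rw [map_mul, Module.End.mul_apply]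
        simpa using this
      inv_mem' := fun {a} ha v => by
        have := U.neg_mem (ha (ρ a⁻¹ v))
        rw [← Module.End.mul_apply, ← map_mul, mul_inv_cancel, map_one, Module.End.one_apply,
          neg_sub] at this
        exact this }
  have hS : S = ⊤ := eq_top_of_u0 hm (fun g x hx v => by
    have := hU g _ (hx (ρ g⁻¹ v))
    rw [map_sub, ← Module.End.mul_apply (ρ g) (ρ g⁻¹), ← map_mul, mul_inv_cancel, map_one,
      Module.End.one_apply] at this
    simpa [map_mul, Module.End.mul_apply] using this) (fun v => by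
    have e : ρ u0 v - v = ∑ c, (ρ u0 (wproj ρ c v) - wproj ρ c v) := by
      rw [Finset.sum_sub_distrib, ← map_sum, sum_wproj_apply]
    rw [e]
    refine U.sum_mem fun c _ => ?_
    have e := LinearMap.congr_fun (rad_mul_proj ρ rad_add 1 c) v
    simp only [Module.End.mul_apply, LinearMap.smul_apply] at e
    rw [u0, e]
    rcases eq_or_ne c 0 with rfl | hc
    · simp
    · exact U.sub_mem (U.smul_mem _ (hL c hc (LinearMap.mem_range_self _ v))) (hL c hc (LinearMap.mem_range_self _ v)))
  rw [eq_top_iff]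
  intro v _
  haveI := Fintype.ofFinite G
  set w := ∑ g : G, ρ g v with hw
  have hw0 : w = 0 := hfix w fun h => by
    rw [hw, map_sum]
    refine Fintype.sum_equiv (Equiv.mulLeft h) _ _ fun g => ?_
    rw [Equiv.coe_mulLeft, map_mul, Module.End.mul_apply]
  have hmem : ∑ g : G, (ρ g v - v) ∈ U :=
    U.sum_mem fun g _ => (hS ▸ Subgroup.mem_top g : g ∈ S) v
  rw [Finset.sum_sub_distrib, ← hw, hw0, zero_sub, Finset.sum_const, neg_mem_iff,
    ← Nat.cast_smul_eq_nsmul ℂ] at hmem
  exact (U.smul_mem_iff (Nat.cast_ne_zero.mpr (Finset.card_ne_zero.mpr Finset.univ_nonempty))).mp hmem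

theorem commute_rad (b c : Fin m → F) : Commute (ρ (rad b)) (wproj ρ c) :=
  conj_proj ρ (T := Equiv.refl _) (fun x => by rw [Equiv.refl_apply, ← rad_add, ← rad_add, add_comm x b])
    (fun x => rfl)

theorem lev_mul_wproj (A : Matrix.SpecialLinearGroup (Fin m) F) (c : Fin m → F) :
    ρ (lev A) * wproj ρ c =
      wproj ρ ((A : Matrix (Fin m) (Fin m) F) *ᵥ c) * ρ (lev A) := by
  refine conj_proj ρ (T :=
    { toFun := fun b => b ᵥ* ((A⁻¹ : Matrix.SpecialLinearGroup (Fin m) F) : Matrix (Fin m) (Fin m) F)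
      invFun := fun b => b ᵥ* (A : Matrix (Fin m) (Fin m) F)
      left_inv := fun b => by
        simp only [vecMul_vecMul, ← Matrix.SpecialLinearGroup.coe_mul, inv_mul_cancel,
          Matrix.SpecialLinearGroup.coe_one, vecMul_one]
      right_inv := fun b => by
        simp only [vecMul_vecMul, ← Matrix.SpecialLinearGroup.coe_mul, mul_inv_cancel,
          Matrix.SpecialLinearGroup.coe_one, vecMul_one] }) ?_ ?_
  · intro b
    simp only [Equiv.coe_fn_mk]
    rw [← lev_mul_rad, vecMul_vecMul, ← Matrix.SpecialLinearGroup.coe_mul, inv_mul_cancel,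
      Matrix.SpecialLinearGroup.coe_one, vecMul_one]
  · intro b
    simp only [Equiv.coe_fn_mk]
    rw [← dotProduct_mulVec, mulVec_mulVec, ← Matrix.SpecialLinearGroup.coe_mul, inv_mul_cancel,
      Matrix.SpecialLinearGroup.coe_one, one_mulVec]

theorem commute_lev {A : Matrix.SpecialLinearGroup (Fin m) F} {c : Fin m → F}
    (h : (A : Matrix (Fin m) (Fin m) F) *ᵥ c = c) : Commute (ρ (lev A)) (wproj ρ c) := by
  have := lev_mul_wproj ρ A c
  rwa [h] at this

theorem commute_dia (d : Fin (m + 1) → F) (hd : ∏ i, d i = 1) {c : Fin m → F}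
    (h : ∀ i, c i ≠ 0 → d i.succ = d 0) : Commute (ρ (dia d hd)) (wproj ρ c) := by
  have hne : ∀ k, d k ≠ 0 := fun k e =>
    one_ne_zero (α := F) (hd.symm.trans (Finset.prod_eq_zero (Finset.mem_univ k) e))
  refine conj_proj ρ (T :=
    { toFun := fun b i => d 0 * b i / d i.succ
      invFun := fun b i => d i.succ * b i / d 0
      left_inv := fun b => funext fun i => by field_simp [hne]
      right_inv := fun b => funext fun i => by field_simp [hne] }) (fun b => (dia_mul_rad d hd b).symm) ?_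
  intro b
  refine Finset.sum_congr rfl fun i _ => ?_
  simp only [Equiv.coe_fn_mk]
  rcases eq_or_ne (c i) 0 with hc | hc
  · rw [hc, mul_zero, mul_zero]
  · rw [h i hc, mul_div_assoc, mul_div_cancel₀ _ (hne 0)]

theorem transvection_mulVec {i j : Fin m} (hij : i ≠ j) (a : F) (c : Fin m → F) :
    (Matrix.SpecialLinearGroup.transvection hij a : Matrix (Fin m) (Fin m) F) *ᵥ c =
      c + Pi.single i (a * c j) := by
  rw [Matrix.SpecialLinearGroup.transvection_coe, add_mulVec, one_mulVec]
  congr 1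
  ext k
  rcases eq_or_ne k i with rfl | hk
  · simp [mulVec, dotProduct, Matrix.single_apply]
  · simp [mulVec, dotProduct, hk, hk.symm]

theorem transvection_mulVec_eq_iff {i j : Fin m} (hij : i ≠ j) {a : F} (ha : a ≠ 0) (c : Fin m → F) :
    (Matrix.SpecialLinearGroup.transvection hij a : Matrix (Fin m) (Fin m) F) *ᵥ c = c ↔ c j = 0 := by
  rw [transvection_mulVec, add_eq_left, Pi.single_eq_zero_iff, mul_eq_zero, or_iff_right ha]

/-- Commutators of two torus-stable elements. -/
theorem transvection_fix_torus {c : Fin m → F} (h1 : Module.finrank ℂ (LinearMap.range (wproj ρ c)) = 1)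
    {i j : Fin m} (hij : i ≠ j) (hcj : c j = 0) (d : Fin (m + 1) → F) (hd : ∏ k, d k = 1)
    (hdc : ∀ k, c k ≠ 0 → d k.succ = d 0) (hne : d i.succ ≠ d j.succ) (a : F) :
    ρ (lev (Matrix.SpecialLinearGroup.transvection hij a)) * wproj ρ c = wproj ρ c := by
  have hj0 : d j.succ ≠ 0 := fun e =>
    one_ne_zero (α := F) (hd.symm.trans (Finset.prod_eq_zero (Finset.mem_univ j.succ) e))
  have hr : d i.succ / d j.succ - 1 ≠ 0 := by
    rw [sub_ne_zero, Ne, div_eq_one_iff_eq hj0]; exact hne
  have key := commutator_fix ρ h1 (commute_dia ρ d hd hdc)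
    (commute_lev ρ (A := Matrix.SpecialLinearGroup.transvection hij (a / (d i.succ / d j.succ - 1)))
      (by rw [transvection_mulVec, hcj, mul_zero, Pi.single_zero, add_zero]))
  rw [lev_transvection, commutator_dia_transvection, mul_div_cancel₀ _ hr] at key
  rw [lev_transvection]
  exact key

theorem transvection_fix_comm {c : Fin m → F} (h1 : Module.finrank ℂ (LinearMap.range (wproj ρ c)) = 1)
    {i k j : Fin m} (hik : i ≠ k) (hkj : k ≠ j) (hij : i ≠ j) (hck : c k = 0) (hcj : c j = 0) (a : F) :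
    ρ (lev (Matrix.SpecialLinearGroup.transvection hij a)) * wproj ρ c = wproj ρ c := by
  have key := commutator_fix ρ h1
    (commute_lev ρ (A := Matrix.SpecialLinearGroup.transvection hik a)
      (by rw [transvection_mulVec, hck, mul_zero, Pi.single_zero, add_zero]))
    (commute_lev ρ (A := Matrix.SpecialLinearGroup.transvection hkj 1)
      (by rw [transvection_mulVec, hcj, mul_zero, Pi.single_zero, add_zero]))
  rw [← map_commutatorElement, LinGrp.commutator_transvection hik hkj hij, mul_one] at key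
  exact key

/-- The number of transvections times `q - 1`. -/
theorem card_isConj_u0 (hm : 2 ≤ m) :
    Nat.card {g : G // IsConj u0 g} * (q - 1) = (q ^ (m + 1) - 1) * (q ^ m - 1) := by
  have e : {g : G // IsConj u0 g} ≃
      {t : GL (Fin (m + 1)) F // Cfsg.IsTransvection (t : Matrix (Fin (m + 1)) (Fin (m + 1)) F)} := by
    refine Equiv.ofBijective (fun g => ⟨Matrix.SpecialLinearGroup.toGL g.1, ?_⟩) ⟨?_, ?_⟩
    · obtain ⟨x, hx⟩ := isConj_iff.mp g.2
      have hu : Cfsg.IsTransvection ((u0 : G) : Matrix (Fin (m + 1)) (Fin (m + 1)) F) :=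
        TransvGL.isTransvection_of_data e0_ne_zero (cons_zero_ne_zero (one_vec_ne_zero hm)) (by simp [e0])
      have hmat : (g.1 : Matrix (Fin (m + 1)) (Fin (m + 1)) F) - 1 =
          (x : Matrix (Fin (m + 1)) (Fin (m + 1)) F) *
            ((u0 : G) - 1 : Matrix (Fin (m + 1)) (Fin (m + 1)) F) * ((x⁻¹ : G) : Matrix _ _ F) := by
        rw [mul_sub, sub_mul, mul_one, ← Matrix.SpecialLinearGroup.coe_mul,
          ← Matrix.SpecialLinearGroup.coe_mul, ← Matrix.SpecialLinearGroup.coe_mul, hx, mul_inv_cancel,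
          Matrix.SpecialLinearGroup.coe_one]
      show Cfsg.IsTransvection (g.1 : Matrix (Fin (m + 1)) (Fin (m + 1)) F)
      refine ⟨?_, ?_⟩
      · rw [hmat, rank_mul_eq_left_of_isUnit_det _ _ (by rw [Matrix.SpecialLinearGroup.det_coe]; exact isUnit_one),
          rank_mul_eq_right_of_isUnit_det _ _ (by rw [Matrix.SpecialLinearGroup.det_coe]; exact isUnit_one)]
        exact hu.1
      · rw [hmat]
        have hxx : ((x⁻¹ : G) : Matrix (Fin (m + 1)) (Fin (m + 1)) F) * (x : Matrix _ _ F) = 1 := by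
          rw [← Matrix.SpecialLinearGroup.coe_mul, inv_mul_cancel, Matrix.SpecialLinearGroup.coe_one]
        calc _ = (x : Matrix (Fin (m + 1)) (Fin (m + 1)) F) *
              (((u0 : G) - 1 : Matrix (Fin (m + 1)) (Fin (m + 1)) F) *
                (((x⁻¹ : G) : Matrix _ _ F) * (x : Matrix _ _ F)) *
                ((u0 : G) - 1 : Matrix (Fin (m + 1)) (Fin (m + 1)) F)) * ((x⁻¹ : G) : Matrix _ _ F) := by
              simp only [mul_assoc]
          _ = 0 := by rw [hxx, mul_one, hu.2, mul_zero, zero_mul]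
    · intro a b h
      exact Subtype.ext (Subtype.ext (congrArg (fun t => (t.1 : Matrix (Fin (m + 1)) (Fin (m + 1)) F)) h))
    · rintro ⟨t, ht⟩
      obtain ⟨a, φ, ha, hφ, h0, he⟩ := TransvGL.exists_data ht
      exact ⟨⟨vv a φ h0, isConj_u0 hm h0 ha hφ⟩, Subtype.ext (Units.ext he.symm)⟩
  rw [Nat.card_congr e, TransvGL.card_transvections, Nat.add_sub_cancel]

/-- The degree of an irreducible representation with one-dimensional weight spaces. -/
theorem finrank_dvd (hm : 2 ≤ m) (hρ : ρ.IsIrreducible) (hd : dT ρ = 1) :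
    Module.finrank ℂ V ∣ (∑ i ∈ Finset.range (m + 1), q ^ i) * (q ^ m - 1) * q ^ m := by
  haveI := Fintype.ofFinite G
  haveI := hρ
  set C := Nat.card {g : G // IsConj u0 g} with hC
  set k := Module.finrank ℂ V with hk
  have hpos : 0 < k := CT.finrank_pos_of_irreducible ρ
  have h := ClassSum.omega_isIntegral (CT.isIrrCharacter_character ρ)
    (ClassSum.classInd_isClassWeight (u0 : G))
  rw [ClassSum.omega_classInd _ (fun g x => ρ.char_conj g x) u0, ← hC, char_u0 ρ hm,
    Representation.char_one, ← hk, hd, Nat.cast_one, one_mul] at h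
  have hk0 : (k : ℂ) ≠ 0 := Nat.cast_ne_zero.mpr hpos.ne'
  have h' : IsIntegral ℤ (((C * q ^ m : ℕ) : ℂ) / (k : ℂ)) := by
    have := (isIntegral_algebraMap (R := ℤ) (A := ℂ) (x := (C : ℤ))).sub h
    have e : ((C * q ^ m : ℕ) : ℂ) / (k : ℂ) =
        algebraMap ℤ ℂ (C : ℤ) - (C : ℂ) * ((k : ℂ) - (q : ℂ) ^ m) / (k : ℂ) := by
      rw [algebraMap_int_eq, eq_intCast]
      push_cast
      field_simp
      ring
    rw [e]
    exact this
  have hdvd := ClassSum.eq_natCast_div_mem hpos h'
  have hq : 2 ≤ q := Fintype.one_lt_card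
  have hC' : C = (∑ i ∈ Finset.range (m + 1), q ^ i) * (q ^ m - 1) := by
    refine Nat.eq_of_mul_eq_mul_right (show 0 < q - 1 by omega) ?_
    rw [hC, card_isConj_u0 hm, mul_right_comm]
    congr 1
    zify [Nat.one_le_pow (m + 1) q (by omega), show 1 ≤ q by omega]
    exact (geom_sum_mul _ _).symm
  rwa [hC'] at hdvd

end Cfsg.Agent.SLWt
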