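import Mathlib
import Cfsg.Prelude.Def_Classical
import Cfsg.Agent.Lib.MinDeg.HermOrbit

/-!
The Siegel parabolic of `SU_n(q)` in a hyperbolic basis.
-/

set_option autoImplicit false
set_option linter.unusedSectionVars false

namespace Cfsg.Agent.SUSiegel

open Matrix Cfsg.Agent.HermOrbit

variable {F : Type*} [Field F] (σ : F →+* F) (m δ : ℕ)

/-- The index type of the hyperbolic basis. -/
abbrev Idx (m δ : ℕ) := (Fin m ⊕ Fin m) ⊕ Fin δ

/-- The Gram matrix of the hyperbolic basis. -/
def J : Matrix (Idx m δ) (Idx m δ) F := fromBlocks (fromBlocks 0 1 1 0) 0 0 1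

theorem J_mul_J : (J m δ : Matrix _ _ F) * J m δ = 1 := by
  simp [J, fromBlocks_multiply, fromBlocks_one]

theorem map_J : (J m δ : Matrix _ _ F).map σ = J m δ := by
  simp [J, fromBlocks_map]

/-- The group preserving `J`. -/
def isoGroup : Subgroup (Matrix.SpecialLinearGroup (Idx m δ) F) where
  carrier := {R | (R : Matrix (Idx m δ) (Idx m δ) F)ᵀ * J m δ * (R : Matrix (Idx m δ) (Idx m δ) F).map σ = J m δ}
  mul_mem' {a b} ha hb := by
    simp only [Set.mem_ofPred_eq] at *
    rw [Matrix.SpecialLinearGroup.coe_mul, Matrix.transpose_mul, Matrix.map_mul]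
    simp only [Matrix.mul_assoc] at *
    rw [← Matrix.mul_assoc (J m δ) _ _]
    calc _ = (b : Matrix (Idx m δ) (Idx m δ) F)ᵀ *
          (((a : Matrix (Idx m δ) (Idx m δ) F)ᵀ * (J m δ * (a : Matrix (Idx m δ) (Idx m δ) F).map σ)) *
            (b : Matrix (Idx m δ) (Idx m δ) F).map σ) := by simp only [Matrix.mul_assoc]
      _ = J m δ := by rw [ha, hb]
  one_mem' := by simp
  inv_mem' {a} ha := by
    simp only [Set.mem_ofPred_eq] at *
    have h1 : (a : Matrix (Idx m δ) (Idx m δ) F) * (a⁻¹ : Matrix.SpecialLinearGroup (Idx m δ) F) = 1 := by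
      rw [← Matrix.SpecialLinearGroup.coe_mul, mul_inv_cancel, Matrix.SpecialLinearGroup.coe_one]
    have h2 : ((a⁻¹ : Matrix.SpecialLinearGroup (Idx m δ) F) : Matrix (Idx m δ) (Idx m δ) F)ᵀ *
        (a : Matrix (Idx m δ) (Idx m δ) F)ᵀ = 1 := by rw [← Matrix.transpose_mul, h1, Matrix.transpose_one]
    have h3 : (a : Matrix (Idx m δ) (Idx m δ) F).map σ *
        ((a⁻¹ : Matrix.SpecialLinearGroup (Idx m δ) F) : Matrix (Idx m δ) (Idx m δ) F).map σ = 1 := by
      rw [← Matrix.map_mul, h1, Matrix.map_one σ (map_zero σ) (map_one σ)]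
    conv_lhs => rw [← ha]
    simp only [← Matrix.mul_assoc]
    rw [h2, Matrix.one_mul, Matrix.mul_assoc, h3, Matrix.mul_one]

theorem mem_isoGroup {R : Matrix.SpecialLinearGroup (Idx m δ) F} :
    R ∈ isoGroup σ m δ ↔
      (R : Matrix (Idx m δ) (Idx m δ) F)ᵀ * J m δ * (R : Matrix (Idx m δ) (Idx m δ) F).map σ = J m δ :=
  Iff.rfl

section Blocks

variable {σ m δ}

/-- Elements of the radical. -/
def radM (S : Matrix (Fin m) (Fin m) F) (U : Matrix (Fin m) (Fin δ) F) : Matrix (Idx m δ) (Idx m δ) F :=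
  fromBlocks (fromBlocks 1 S 0 1) (fromRows U 0) (fromCols 0 (-hc σ U)) 1

theorem radM_mul (S S' : Matrix (Fin m) (Fin m) F) (U U' : Matrix (Fin m) (Fin δ) F) :
    radM (σ := σ) S U * radM (σ := σ) S' U' = radM (σ := σ) (S + S' - U * hc σ U') (U + U') := by
  have e1 : fromBlocks (1 : Matrix (Fin m) (Fin m) F) S 0 (1 : Matrix (Fin m) (Fin m) F) * fromRows U' (0 : Matrix (Fin m) (Fin δ) F) =
      fromRows U' 0 := by
    rw [fromBlocks_mul_fromRows]; simp
  have e2 : fromCols (0 : Matrix (Fin δ) (Fin m) F) (-hc σ U) * fromBlocks (1 : Matrix (Fin m) (Fin m) F) S' 0 (1 : Matrix (Fin m) (Fin m) F) =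
      fromCols 0 (-hc σ U) := by
    rw [fromCols_mul_fromBlocks]; simp
  rw [radM, radM, radM, fromBlocks_multiply, e1, e2, fromBlocks_multiply, fromRows_mul_fromCols,
    fromCols_mul_fromRows, hc_add]
  congr 1
  · ext (i | i) (j | j) <;> simp [Matrix.fromBlocks] <;> abel
  · ext (i | i) j <;> simp [Matrix.fromRows_apply_inl, Matrix.fromRows_apply_inr, add_comm]
  · ext i (j | j) <;> simp [add_comm]
  · simp

theorem det_radM (S : Matrix (Fin m) (Fin m) F) (U : Matrix (Fin m) (Fin δ) F) :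
    (radM (σ := σ) S U).det = 1 := by
  rw [radM, Matrix.det_fromBlocks_one₂₂, fromRows_mul_fromCols]
  simp [sub_eq_add_neg, fromBlocks_neg, fromBlocks_add, Matrix.det_fromBlocks_zero₂₁]

theorem radM_iso (hσσ : ∀ x, σ (σ x) = x) {S : Matrix (Fin m) (Fin m) F} {U : Matrix (Fin m) (Fin δ) F}
    (h : S + hc σ S + U * hc σ U = 0) :
    (radM (σ := σ) S U)ᵀ * J m δ * (radM (σ := σ) S U).map σ = J m δ := by
  have h' : Sᵀ + S.map σ + (U.map σ) * Uᵀ = 0 := by
    have := congrArg Matrix.transpose h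
    simp only [Matrix.transpose_add, Matrix.transpose_mul, hc, Matrix.transpose_transpose,
      Matrix.transpose_zero] at this
    exact this
  have hm : (hc σ U).map σ = Uᵀ := by ext i j; simp [hc_apply, hσσ]
  have ht : (hc σ U)ᵀ = U.map σ := by simp [hc]
  rw [radM, J, fromBlocks_transpose, fromBlocks_transpose, transpose_fromRows, transpose_fromCols,
    fromBlocks_map, fromBlocks_map, fromRows_map _ _ σ, fromCols_map _ _ σ, fromBlocks_multiply,
    fromBlocks_multiply]
  simp only [Matrix.transpose_neg, ht, Matrix.map_neg σ (map_neg σ), hm, Matrix.map_zero σ (map_zero σ),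
    Matrix.map_one σ (map_zero σ) (map_one σ), Matrix.transpose_zero, Matrix.transpose_one,
    Matrix.mul_zero, Matrix.zero_mul, Matrix.mul_one, Matrix.one_mul, add_zero, zero_add,
    fromBlocks_multiply, fromRows_mul_fromCols, fromCols_mul_fromBlocks, fromCols_mul_fromRows,
    fromBlocks_mul_fromRows]
  congr 1
  · ext (i | i) (j | j) <;> simp [Matrix.fromBlocks]
    have := congrFun (congrFun h' i) j
    simp at this
    linear_combination this
  · ext (i | i) j <;> simp
  · ext i (j | j) <;> simp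

/-- Elements of the Levi factor. -/
def levM (A A' : Matrix (Fin m) (Fin m) F) (d : Matrix (Fin δ) (Fin δ) F) : Matrix (Idx m δ) (Idx m δ) F :=
  fromBlocks (fromBlocks A 0 0 A') 0 0 d

theorem det_levM (A A' : Matrix (Fin m) (Fin m) F) (d : Matrix (Fin δ) (Fin δ) F) :
    (levM A A' d).det = A.det * A'.det * d.det := by
  rw [levM, Matrix.det_fromBlocks_zero₂₁, Matrix.det_fromBlocks_zero₂₁]

theorem levM_iso (hσσ : ∀ x, σ (σ x) = x) {A A' : Matrix (Fin m) (Fin m) F}
    {d : Matrix (Fin δ) (Fin δ) F} (hA : Aᵀ * A'.map σ = 1) (hA' : A'ᵀ * A.map σ = 1)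
    (hd : dᵀ * d.map σ = 1) :
    (levM A A' d)ᵀ * J m δ * (levM A A' d).map σ = J m δ := by
  simp [levM, J, fromBlocks_transpose, fromBlocks_map, fromBlocks_multiply, hA, hA', hd]

theorem levM_mul_radM {A A' : Matrix (Fin m) (Fin m) F} {d : Matrix (Fin δ) (Fin δ) F}
    (hA : hc σ A * A' = 1) (S : Matrix (Fin m) (Fin m) F) :
    radM (σ := σ) (A * S * hc σ A) (0 : Matrix (Fin m) (Fin δ) F) * levM A A' d =
      levM A A' d * radM (σ := σ) S 0 := by
  have : A * S * hc σ A * A' = A * S := by rw [Matrix.mul_assoc, hA, Matrix.mul_one]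
  simp [levM, radM, hc_zero, fromBlocks_multiply, this]

end Blocks

variable {σ}

/-- The change of basis. -/
def P (a l : F) : Matrix (Idx m δ) (Idx m δ) F :=
  fromBlocks (fromBlocks 1 ((1 + l) • 1) (a • 1) ((l * a) • 1)) 0 0 1

theorem P_gram (hσσ : ∀ x, σ (σ x) = x) {a l : F} (ha : a * σ a = -1) (hl : l + σ l = -1) :
    (P m δ a l)ᵀ * (P m δ a l).map σ = J m δ := by
  have hs : ∀ c : F, ((c • (1 : Matrix (Fin m) (Fin m) F)).map σ) = σ c • 1 := fun c => by
    ext i j; by_cases h : i = j <;> simp [h]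
  simp only [P, J, fromBlocks_transpose, fromBlocks_map, fromBlocks_multiply, Matrix.transpose_smul,
    Matrix.transpose_one, Matrix.transpose_zero, hs, Matrix.map_one σ (map_zero σ) (map_one σ),
    Matrix.map_zero σ (map_zero σ), Matrix.mul_zero, Matrix.zero_mul, Matrix.mul_one, Matrix.one_mul,
    add_zero, zero_add, smul_mul_assoc, mul_smul_comm, smul_smul]
  congr 2
  · rw [← one_smul F (1 : Matrix (Fin m) (Fin m) F), smul_smul, ← add_smul, mul_one, mul_comm (σ a) a]
    simp [ha]
  · rw [← add_smul, map_add, map_one, map_mul]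
    conv_rhs => rw [← one_smul F (1 : Matrix (Fin m) (Fin m) F)]
    congr 1
    linear_combination σ l * ha
  · rw [← add_smul]
    conv_rhs => rw [← one_smul F (1 : Matrix (Fin m) (Fin m) F)]
    congr 1
    linear_combination l * ha
  · rw [← add_smul]
    conv_rhs => rw [← zero_smul F (1 : Matrix (Fin m) (Fin m) F)]
    congr 1
    simp only [map_add, map_one, map_mul]
    linear_combination hl + (l * σ l) * ha

/-- The embedding of the isometries of `J` into `SU_n`. -/
theorem exists_embedding [Fintype F] {q n : ℕ} (hσ : ∀ x, σ x = x ^ q) (hσσ : ∀ x, σ (σ x) = x)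
    {a l : F} (ha : a * σ a = -1) (hl : l + σ l = -1) (hn : n = m + m + δ) :
    ∃ Φ : isoGroup σ m δ →* Cfsg.SU n F q,
      Function.Injective Φ ∧ ∀ R : isoGroup σ m δ, ∀ c : F,
        ((Φ R : Matrix.SpecialLinearGroup (Fin n) F) : Matrix (Fin n) (Fin n) F) = c • 1 →
        ((R : Matrix.SpecialLinearGroup (Idx m δ) F) : Matrix (Idx m δ) (Idx m δ) F) = c • 1 := by
  classical
  set Pm := P m δ a l with hPm
  set Q := J m δ * hc σ Pm with hQ
  have hQP : Q * Pm = 1 := by
    have h1 := congrArg (fun X => X.map σ) (P_gram m δ hσσ ha hl)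
    simp only [Matrix.map_mul, map_J] at h1
    rw [Matrix.map_map, show (σ ∘ σ : F → F) = id from funext hσσ, Matrix.map_id] at h1
    rw [hQ, Matrix.mul_assoc, hc, ← Matrix.transpose_map, hPm, h1, J_mul_J]
  have hPQ : Pm * Q = 1 := mul_eq_one_comm.mp hQP
  let e : Idx m δ ≃ Fin n := ((Equiv.sumCongr finSumFinEquiv (Equiv.refl _)).trans finSumFinEquiv).trans (finCongr hn.symm)
  let f : Matrix (Idx m δ) (Idx m δ) F → Matrix (Fin n) (Fin n) F := fun R => (Pm * R * Q).submatrix e.symm e.symm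
  have hfm : ∀ R R', f (R * R') = f R * f R' := fun R R' => by
    simp only [f, Matrix.submatrix_mul_equiv]
    congr 1
    simp only [Matrix.mul_assoc]
    rw [← Matrix.mul_assoc Q Pm, hQP, Matrix.one_mul]
  have hf1 : f 1 = 1 := by
    simp only [f, Matrix.mul_one, hPQ, Matrix.submatrix_one_equiv]
  have hdet : ∀ R : Matrix.SpecialLinearGroup (Idx m δ) F, (f R).det = 1 := fun R => by
    simp only [f, Matrix.det_submatrix_equiv_self, Matrix.det_mul, R.2, mul_one]
    rw [← Matrix.det_mul, hPQ, Matrix.det_one]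
  let φ : Matrix.SpecialLinearGroup (Idx m δ) F →* Matrix.SpecialLinearGroup (Fin n) F :=
    { toFun := fun R => ⟨f R, hdet R⟩
      map_one' := Subtype.ext hf1
      map_mul' := fun R R' => Subtype.ext (hfm _ _) }
  have hmem : ∀ R : isoGroup σ m δ, φ R ∈ Cfsg.SU n F q := by
    intro R u v
    have hR := (mem_isoGroup σ m δ).mp R.2
    have key : (f R)ᵀ * (f R).map σ = 1 := by
      simp only [f, Matrix.transpose_submatrix, ← Matrix.submatrix_map, Matrix.submatrix_mul_equiv]
      convert Matrix.submatrix_one_equiv e.symm using 2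
      have hQ2 : Qᵀ * J m δ * Q.map σ = 1 := by
        conv_lhs => arg 1; arg 2; rw [← P_gram m δ hσσ ha hl, ← hPm]
        rw [← Matrix.mul_assoc, ← Matrix.transpose_mul, hPQ, Matrix.transpose_one, Matrix.one_mul,
          ← Matrix.map_mul, hPQ, Matrix.map_one σ (map_zero σ) (map_one σ)]
      simp only [Matrix.transpose_mul, Matrix.map_mul, Matrix.mul_assoc]
      rw [← Matrix.mul_assoc (Pm)ᵀ, P_gram m δ hσσ ha hl]
      calc _ = Qᵀ * ((R : Matrix.SpecialLinearGroup (Idx m δ) F).1ᵀ * J m δ *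
            (R : Matrix.SpecialLinearGroup (Idx m δ) F).1.map σ) * Q.map σ := by
              simp only [Matrix.mul_assoc]
        _ = 1 := by rw [hR, hQ2]
    show Cfsg.hermForm n F q (f R *ᵥ u) (f R *ᵥ v) = _
    have hh : ∀ x y : Fin n → F, Cfsg.hermForm n F q x y = x ⬝ᵥ (σ ∘ y) := fun x y => by
      simp [Cfsg.hermForm, dotProduct, hσ]
    rw [hh, hh, show σ ∘ (f R *ᵥ v) = (f R).map σ *ᵥ (σ ∘ v) from funext (RingHom.map_mulVec σ _ _),
      dotProduct_comm, Matrix.dotProduct_mulVec, ← Matrix.mulVec_transpose, Matrix.mulVec_mulVec, key,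
      Matrix.one_mulVec, dotProduct_comm]
  refine ⟨(φ.comp (isoGroup σ m δ).subtype).codRestrict _ hmem, ?_, ?_⟩
  · intro R R' h
    have h1 : f R = f R' := congrArg (fun x : Cfsg.SU n F q => x.1.1) h
    have h2 := congrArg (fun X => Q * X.submatrix e e * Pm) h1
    simp only [f, Matrix.submatrix_submatrix, Equiv.symm_comp_self, Matrix.submatrix_id_id,
      ← Matrix.mul_assoc, hQP, Matrix.one_mul] at h2
    simp only [Matrix.mul_assoc, hQP, Matrix.mul_one] at h2
    exact Subtype.ext (Subtype.ext h2)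
  · intro R c h
    have h1 : f R = c • 1 := h
    have h2 := congrArg (fun X => Q * X.submatrix e e * Pm) h1
    simp only [f, Matrix.submatrix_submatrix, Equiv.symm_comp_self, Matrix.submatrix_id_id,
      Matrix.submatrix_smul, Pi.smul_apply, Matrix.submatrix_one_equiv,
      ← Matrix.mul_assoc, hQP, Matrix.one_mul, Matrix.mul_smul, Matrix.smul_mul, Matrix.mul_one] at h2
    rwa [Matrix.mul_assoc, hQP, Matrix.mul_one] at h2

end Cfsg.Agent.SUSiegel
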