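import Cfsg.Agent.Lib.MinDeg.CharWeights
import Cfsg.Agent.Lib.MinDeg.AbelianProj
import Cfsg.Agent.Lib.MinDeg.SUSiegel
import Cfsg.Agent.Lib.AutPSU.Centre
import Cfsg.Agent.Lib.TransvMax.UnitaryBasic
import Cfsg.Agent.Lib.ClassSum.Basic
import Cfsg.Agent.S0283

/-!
Lower bound for the degrees of the non-linear irreducible representations of `SU_n(q)`.
-/

set_option autoImplicit false
set_option linter.unusedSectionVars false
set_option maxHeartbeats 1000000

namespace Cfsg.Agent.SUMinDeg

open Matrix Cfsg.Agent.HermOrbit Cfsg.Agent.SUSiegel Cfsg.Agent.CharWt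

/-- A weight bound in dimension `n = m + m + δ`. -/
theorem main {F : Type*} [Field F] [Fintype F] [DecidableEq F] {q n : ℕ} (m δ : ℕ) (hm : 1 ≤ m)
    (hδ : δ ≤ 1) (hn : n = m + m + δ) (hn3 : 3 ≤ n) (h32 : ¬ (n = 3 ∧ q = 2))
    (hF : Fintype.card F = q ^ 2) {V : Type*} [AddCommGroup V] [Module ℂ V] [FiniteDimensional ℂ V]
    (ρ : Representation ℂ (Cfsg.SU n F q) V) (hρ : ρ.IsIrreducible) (hk : 2 ≤ Module.finrank ℂ V) :
    (q ^ (2 * m) - 1) * q ^ δ ≤ (q + 1) * Module.finrank ℂ V := by
  classical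
  haveI := AutPSU.QField.of_card hF
  obtain ⟨σ, hσ, hσσ, hq⟩ := FormsLib.exists_qhom hF
  obtain ⟨⟨e, he, hes⟩, ⟨τ, hτ⟩⟩ := skew_facts σ hσ hσσ hq hF
  have hne : σ.toMonoidHom e ≠ e ∨ σ τ ≠ τ := by
    by_contra! h
    obtain ⟨h1, h2⟩ := h
    change σ e = e at h1
    rw [h2] at hτ
    rw [hes] at h1
    refine he ?_
    linear_combination (-e) * hτ - τ * h1
  have hnorm : ∃ a : F, a * σ a = -1 := by
    have hσne : (⟨⟨σ, σ, hσσ, hσσ⟩, σ.map_mul, σ.map_add⟩ : F ≃+* F) ≠ RingEquiv.refl F := by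
      intro h
      rcases hne with h' | h'
      · exact h' (congrArg (fun g : F ≃+* F => g e) h)
      · exact h' (congrArg (fun g : F ≃+* F => g τ) h)
    exact TransvMax.exists_norm_eq hσne hσσ (by simp : σ (-1 : F) = -1)
  obtain ⟨a, ha⟩ := hnorm
  have hl : (-τ) + σ (-τ) = -1 := by rw [map_neg]; linear_combination -hτ
  obtain ⟨Φ, -, hΦc⟩ := exists_embedding (σ := σ) m δ hσ hσσ ha hl hn
  let Mk : AddSubgroup (Matrix (Fin m) (Fin m) F) :=
    { carrier := {S | hc σ S = -S}
      zero_mem' := by simp [hc_zero]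
      add_mem' := fun {x y} hx hy => by
        simp only [Set.mem_ofPred_eq] at *
        rw [hc_add, hx, hy]; abel
      neg_mem' := fun {x} hx => by
        simp only [Set.mem_ofPred_eq] at *
        rw [hc_neg, hx] }
  have hMk : ∀ S : Mk, hc σ (S : Matrix (Fin m) (Fin m) F) = -(S : Matrix (Fin m) (Fin m) F) := fun S => S.2
  haveI : Fintype Mk := Fintype.ofFinite _
  have hiso0 : ∀ S : Mk, (⟨radM (σ := σ) (S : Matrix (Fin m) (Fin m) F) (0 : Matrix (Fin m) (Fin δ) F),
      det_radM _ _⟩ : Matrix.SpecialLinearGroup (Idx m δ) F) ∈ isoGroup σ m δ := fun S =>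
    radM_iso hσσ (by simp [hMk S])
  let r : Mk → Cfsg.SU n F q := fun S => Φ ⟨_, hiso0 S⟩
  have hr : ∀ x y, r (x + y) = r x * r y := fun x y => by
    rw [← map_mul]
    refine congrArg Φ (Subtype.ext (Subtype.ext ?_))
    show radM _ _ = radM _ _ * radM _ _
    rw [radM_mul]
    simp [hc_zero]
  -- characters
  obtain ⟨a₀, ha₀⟩ : ∃ a₀ : F, AbelianProj.psi F a₀ ≠ 1 := by
    by_contra! h
    refine AbelianProj.psi_primitive F (one_ne_zero) ?_
    ext x
    simp [h]
  let ψ₀ : AddChar F ℂ := AddChar.mulShift (AbelianProj.psi F) a₀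
  have hψ₀ : ψ₀ 1 ≠ 1 := by simpa [ψ₀, AddChar.mulShift_apply] using ha₀
  let tB : Mk → (Mk →+ F) := fun B =>
    { toFun := fun S => Matrix.trace ((B : Matrix (Fin m) (Fin m) F) * (S : Matrix (Fin m) (Fin m) F))
      map_zero' := by simp
      map_add' := fun x y => by simp [Matrix.mul_add] }
  let wt : Mk → AddChar Mk ℂ := fun B => ψ₀.compAddMonoidHom (tB B)
  have hwt : ∀ B S : Mk, wt B S = ψ₀ (Matrix.trace ((B : Matrix (Fin m) (Fin m) F) * (S : Matrix (Fin m) (Fin m) F))) :=
    fun B S => rfl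
  have hsep : ∀ B : Mk, (B : Matrix (Fin m) (Fin m) F) ≠ 0 → ∃ S : Mk,
      Matrix.trace ((B : Matrix (Fin m) (Fin m) F) * (S : Matrix (Fin m) (Fin m) F)) = 1 := by
    intro B hB
    obtain ⟨j, i, hji⟩ : ∃ j i, (B : Matrix (Fin m) (Fin m) F) j i ≠ 0 := by
      by_contra! h
      exact hB (Matrix.ext h)
    set c := τ / (B : Matrix (Fin m) (Fin m) F) j i with hc'
    have hmem : Matrix.single i j c - Matrix.single j i (σ c) ∈ Mk := by
      show hc σ _ = -_
      ext u v
      simp only [hc_apply, Matrix.sub_apply, Matrix.neg_apply, Matrix.single_apply, map_sub, apply_ite σ,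
        map_zero, hσσ, and_comm]
      abel
    refine ⟨⟨_, hmem⟩, ?_⟩
    have hBij := congrFun (congrFun (hMk B) i) j
    rw [hc_apply, Matrix.neg_apply] at hBij
    rw [Matrix.mul_sub, Matrix.trace_sub, Matrix.trace_mul_single, Matrix.trace_mul_single]
    have h1 : (B : Matrix (Fin m) (Fin m) F) i j = -σ ((B : Matrix (Fin m) (Fin m) F) j i) := by
      rw [hBij, neg_neg]
    rw [h1, hc', map_div₀]
    simp only [op_smul_eq_mul]
    have hs0 : σ ((B : Matrix (Fin m) (Fin m) F) j i) ≠ 0 := by simpa using hji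
    field_simp
    linear_combination hτ
  have hinj : Function.Injective wt := by
    intro B B' h
    by_contra hne
    obtain ⟨S, hS⟩ := hsep (B - B') (by simpa [sub_eq_zero] using fun h' => hne (Subtype.ext h'))
    have h1 := DFunLike.congr_fun h S
    rw [hwt, hwt] at h1
    refine hψ₀ ?_
    rw [← hS, AddSubgroup.coe_sub, Matrix.sub_mul, Matrix.trace_sub, AddChar.map_sub_eq_div, h1,
      div_self]
    exact ψ₀.val_isUnit _ |>.ne_zero
  have hsurj : Function.Surjective wt :=
    ((Fintype.bijective_iff_injective_and_card _).mpr ⟨hinj, (AddChar.card_eq).symm⟩).2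
  -- a non-trivial weight
  obtain ⟨S₁, hS₁⟩ : ∃ S : Mk, (S : Matrix (Fin m) (Fin m) F) ≠ 0 := by
    have hmem : Matrix.single (⟨0, by omega⟩ : Fin m) ⟨0, by omega⟩ e ∈ Mk := by
      show hc σ _ = -_
      ext u v
      simp [hc_apply, Matrix.single_apply, apply_ite σ, hes, and_comm, apply_ite Neg.neg]
      split_ifs <;> simp
    exact ⟨⟨_, hmem⟩, fun h => he (by simpa using congrFun (congrFun h ⟨0, by omega⟩) ⟨0, by omega⟩)⟩
  have hact : ρ (r S₁) ≠ 1 := by
    intro h1
    let K : Subgroup (Cfsg.SU n F q) := (ρ : Cfsg.SU n F q →* Module.End ℂ V).ker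
    have hK : ¬ K ≤ Subgroup.center _ := by
      intro hle
      obtain ⟨c, hc1⟩ := AutPSU.scalar_of_mem_center (q := q) (by omega) (hle (show r S₁ ∈ K from h1))
      have h2 : ((r S₁ : Matrix.SpecialLinearGroup (Fin n) F) : Matrix (Fin n) (Fin n) F) = c • 1 := by
        refine Matrix.toLin'.injective (LinearMap.ext fun v => ?_)
        rw [Matrix.toLin'_apply, Matrix.toLin'_apply, Matrix.smul_mulVec, Matrix.one_mulVec]
        exact hc1 v
      have h3 := hΦc _ c h2
      refine hS₁ (Matrix.ext fun i j => ?_)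
      have h4 := congrFun (congrFun h3 (Sum.inl (Sum.inl i))) (Sum.inl (Sum.inr j))
      simpa [radM] using h4
    have htop : K = ⊤ := S0283.eq_top_of_normal (by rw [Nat.card_eq_fintype_card, hF]) hn3 h32 hK
    have h2 : ∀ g, ρ g = 1 := fun g => (htop ▸ Subgroup.mem_top g : g ∈ K)
    obtain ⟨hV, h⟩ := (CT.isIrreducible_iff ρ).mp hρ
    obtain ⟨v, hv⟩ := exists_ne (0 : V)
    rcases h (Submodule.span ℂ {v}) (fun g w hw => by rw [h2 g]; exact hw) with h3 | h3
    · exact hv (Submodule.span_singleton_eq_bot.mp h3)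
    · have := finrank_span_singleton (K := ℂ) hv
      rw [h3, finrank_top] at this
      omega
  obtain ⟨χ, hχ0, hχ⟩ := exists_weight ρ hr hact
  obtain ⟨B₁, rfl⟩ := hsurj χ
  set Ω' : Finset Mk := Finset.univ.filter fun B => cproj ρ r (wt B) ≠ 0 ∧ (B : Matrix (Fin m) (Fin m) F) ≠ 0
    with hΩ'
  have hB₁ : B₁ ∈ Ω' := Finset.mem_filter.mpr ⟨Finset.mem_univ _, hχ, fun h => hχ0 (by
    ext S; rw [hwt, h, Matrix.zero_mul, Matrix.trace_zero, AddChar.map_zero_eq_one, AddChar.zero_apply])⟩
  set Ω := Ω'.image fun B : Mk => (B : Matrix (Fin m) (Fin m) F) with hΩ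
  have hΩcard : Ω.card = Ω'.card := Finset.card_image_of_injective _ Subtype.val_injective
  have horb : q ^ (2 * m) - 1 ≤ (q + 1) * Ω.card := by
    refine card_bound σ hσ hσσ hq hF Ω ?_ ?_ hm ?_ ⟨_, Finset.mem_image_of_mem _ hB₁⟩
    · intro B hB
      obtain ⟨B', -, rfl⟩ := Finset.mem_image.mp hB
      exact hMk B'
    · intro B hB A hA
      obtain ⟨⟨B, hBm⟩, hB', rfl⟩ := Finset.mem_image.mp hB
      obtain ⟨-, hBw, hB0⟩ := Finset.mem_filter.mp hB'
      have hdet : A.det ≠ 0 := by
        rcases hA with h | ⟨-, h⟩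
        · rw [h]; exact one_ne_zero
        · exact h
      have hAC : A * A⁻¹ = 1 := Matrix.mul_nonsing_inv A (Ne.isUnit hdet)
      have hCA : A⁻¹ * A = 1 := Matrix.nonsing_inv_mul A (Ne.isUnit hdet)
      set d : Matrix (Fin δ) (Fin δ) F := Matrix.diagonal fun _ => A.det / σ A.det with hd
      have hs0 : σ A.det ≠ 0 := by simpa using hdet
      have hd1 : dᵀ * d.map σ = 1 := by
        rw [hd, Matrix.diagonal_transpose, Matrix.diagonal_map (map_zero σ), Matrix.diagonal_mul_diagonal,
          ← Matrix.diagonal_one]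
        congr 1
        funext i
        simp [hσσ]
        field_simp
      have hdetL : (levM A⁻¹ (hc σ A) d).det = 1 := by
        rw [det_levM, det_hc, Matrix.det_nonsing_inv, Ring.inverse_eq_inv', hd, Matrix.det_diagonal,
          Finset.prod_const, Finset.card_univ, Fintype.card_fin]
        rcases (show δ = 0 ∨ δ = 1 by omega) with h | h
        · have hm1 : m ≠ 1 := by omega
          rcases hA with h1 | ⟨h1, -⟩
          · simp [h1]
          · exact absurd h1 hm1
        · rw [h, pow_one]; field_simp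
      have hL : (⟨levM A⁻¹ (hc σ A) d, hdetL⟩ : Matrix.SpecialLinearGroup (Idx m δ) F) ∈ isoGroup σ m δ :=
        levM_iso hσσ (by
          show _ = _
          rw [hc, Matrix.transpose_map, Matrix.map_map, show (σ ∘ σ : F → F) = id from funext hσσ,
            Matrix.map_id, ← Matrix.transpose_mul, hAC, Matrix.transpose_one])
          (by rw [hc, Matrix.transpose_transpose, ← Matrix.map_mul, hAC,
            Matrix.map_one σ (map_zero σ) (map_one σ)]) hd1
      have hC1 : hc σ (A⁻¹) * hc σ A = 1 := by rw [← hc_mul, hAC, hc_one]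
      have hA1 : hc σ A * hc σ (A⁻¹) = 1 := by rw [← hc_mul, hCA, hc_one]
      have hconj : ∀ {X Y S : Matrix (Fin m) (Fin m) F}, hc σ S = -S → hc σ (X * S * hc σ X) = -(X * S * hc σ X) := by
        intro X Y S hS
        rw [hc_mul, hc_mul, hc_hc σ hσσ, hS, Matrix.neg_mul, Matrix.mul_neg, Matrix.mul_assoc]
      let T : Mk ≃+ Mk :=
        { toFun := fun S => ⟨A⁻¹ * (S : Matrix (Fin m) (Fin m) F) * hc σ A⁻¹, hconj (Y := A) (hMk S)⟩
          invFun := fun S => ⟨A * (S : Matrix (Fin m) (Fin m) F) * hc σ A, hconj (Y := A) (hMk S)⟩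
          left_inv := fun S => Subtype.ext (by
            show A * (A⁻¹ * _ * hc σ A⁻¹) * hc σ A = _
            simp only [Matrix.mul_assoc, hC1]
            rw [Matrix.mul_one, ← Matrix.mul_assoc, hAC, Matrix.one_mul])
          right_inv := fun S => Subtype.ext (by
            show A⁻¹ * (A * _ * hc σ A) * hc σ A⁻¹ = _
            simp only [Matrix.mul_assoc, hA1]
            rw [Matrix.mul_one, ← Matrix.mul_assoc, hCA, Matrix.one_mul])
          map_add' := fun x y => Subtype.ext (by simp [Matrix.mul_add, Matrix.add_mul]) }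
      have hBm' : hc σ (hc σ A * B * A) = -(hc σ A * B * A) := by
        rw [hc_mul, hc_mul, hc_hc σ hσσ, show hc σ B = -B from hBm, Matrix.neg_mul, Matrix.mul_neg,
          Matrix.mul_assoc]
      refine Finset.mem_image.mpr ⟨⟨_, hBm'⟩, Finset.mem_filter.mpr ⟨Finset.mem_univ _, ?_, ?_⟩, rfl⟩
      · refine cproj_ne_zero_of_conj ρ T (g := Φ ⟨_, hL⟩) (fun S => ?_) (fun S => ?_) hBw
        · rw [← map_mul, ← map_mul]
          exact congrArg Φ (Subtype.ext (Subtype.ext (levM_mul_radM hC1 _)))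
        · rw [hwt, hwt]
          congr 1
          show Matrix.trace (hc σ A * B * A * (A⁻¹ * _ * hc σ A⁻¹)) = _
          rw [show hc σ A * B * A * (A⁻¹ * (S : Matrix (Fin m) (Fin m) F) * hc σ A⁻¹) =
            hc σ A * (B * (S : Matrix (Fin m) (Fin m) F) * hc σ A⁻¹) by
              simp only [Matrix.mul_assoc]; rw [← Matrix.mul_assoc A, hAC, Matrix.one_mul]]
          rw [Matrix.trace_mul_comm, Matrix.mul_assoc, hC1, Matrix.mul_one]
      · intro h
        refine hB0 ?_
        calc B = hc σ A⁻¹ * (hc σ A * B * A) * A⁻¹ := by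
              simp only [Matrix.mul_assoc, hAC, Matrix.mul_one]
              rw [← Matrix.mul_assoc, hC1, Matrix.one_mul]
          _ = 0 := by
              simp only at h
              rw [h, Matrix.mul_zero, Matrix.zero_mul]
    · intro B hB
      obtain ⟨B', hB', rfl⟩ := Finset.mem_image.mp hB
      exact (Finset.mem_filter.mp hB').2.2
  -- dimensions
  have hdim : ∀ χ ∈ Ω'.image wt, q ^ δ ≤ Module.finrank ℂ (LinearMap.range (cproj ρ r χ)) := by
    intro χ hχ'
    obtain ⟨B, hB, rfl⟩ := Finset.mem_image.mp hχ'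
    obtain ⟨-, hBw, hB0⟩ := Finset.mem_filter.mp hB
    rcases (show δ = 0 ∨ δ = 1 by omega) with rfl | rfl
    · simpa using finrank_pos ρ hBw
    obtain ⟨v, hv⟩ := exists_beta_ne σ hσσ (by
      rcases hne with h | h
      · exact ⟨e, h⟩
      · exact ⟨τ, h⟩) (hMk B) hB0
    set c₀ := beta σ (B : Matrix (Fin m) (Fin m) F) v v with hc₀
    have hc₀s : σ c₀ = -c₀ := beta_flip σ hσσ (hMk B) v v
    let U : F → Matrix (Fin m) (Fin 1) F := fun s => Matrix.of fun i _ => s * v i
    have hUU : ∀ s t, U s * hc σ (U t) = (s * σ t) • Matrix.vecMulVec v (σ ∘ v) := fun s t => by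
      ext i j
      simp [U, Matrix.mul_apply, hc_apply, Matrix.vecMulVec_apply]
      ring
    let SS : F → Matrix (Fin m) (Fin m) F := fun s => (-τ) • (U s * hc σ (U s))
    have hx : ∀ s, (⟨radM (σ := σ) (SS s) (U s), det_radM _ _⟩ : Matrix.SpecialLinearGroup (Idx m 1) F) ∈
        isoGroup σ m 1 := fun s => by
      refine radM_iso hσσ ?_
      have hS : hc σ (SS s) = (-σ τ) • (U s * hc σ (U s)) := by
        simp only [SS]
        ext i j
        have := congrFun (congrFun (show hc σ (U s * hc σ (U s)) = U s * hc σ (U s) by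
          rw [hc_mul, hc_hc σ hσσ]) i) j
        rw [hc_apply] at this
        simp only [hc_apply, Matrix.smul_apply, smul_eq_mul, map_mul, map_neg, this]
      rw [hS]
      simp only [SS]
      rw [← add_smul, show -τ + -σ τ = -1 by linear_combination -hτ, neg_one_smul, neg_add_cancel]
    let x : F → Cfsg.SU n F q := fun s => Φ ⟨_, hx s⟩
    have hxr : ∀ s S, x s * r S = r S * x s := fun s S => by
      rw [← map_mul, ← map_mul]
      refine congrArg Φ (Subtype.ext (Subtype.ext ?_))
      show radM _ _ * radM _ _ = radM _ _ * radM _ _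
      rw [radM_mul, radM_mul]
      simp [hc_zero, add_comm]
    have hD : ∀ s t : F, hc σ ((t * σ s - s * σ t) • Matrix.vecMulVec v (σ ∘ v)) =
        -((t * σ s - s * σ t) • Matrix.vecMulVec v (σ ∘ v)) := fun s t => by
      ext i j
      simp only [hc_apply, Matrix.smul_apply, Matrix.neg_apply, Matrix.vecMulVec_apply, smul_eq_mul,
        Function.comp, map_mul, map_sub, hσσ]
      ring
    let D : F → F → Mk := fun s t => ⟨_, hD s t⟩
    have hxx : ∀ s t, x s * x t = r (D s t) * x t * x s := fun s t => by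
      rw [← map_mul, ← map_mul, ← map_mul]
      refine congrArg Φ (Subtype.ext (Subtype.ext ?_))
      show radM _ _ * radM _ _ = radM _ _ * radM _ _ * radM _ _
      rw [radM_mul, radM_mul, radM_mul]
      simp only [Matrix.zero_mul, sub_zero, zero_add, add_comm (U t)]
      rw [hUU, hUU]
      congr 1
      show _ = (t * σ s - s * σ t) • Matrix.vecMulVec v (σ ∘ v) + SS t + SS s - _
      rw [sub_smul]
      abel
    have hsep' : ∀ i j : F, i ≠ j → ∃ k z, wt B z ≠ 1 ∧
        x k * ((x j)⁻¹ * x i) = r z * ((x j)⁻¹ * x i) * x k := by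
      intro i j hij
      set d := i - j with hd
      have hd0 : d ≠ 0 := sub_ne_zero.mpr hij
      set k := σ (τ / (d * c₀)) with hk'
      refine ⟨k, D k i - D k j, ?_, ?_⟩
      · rw [hwt]
        convert hψ₀
        rw [AddSubgroup.coe_sub]
        show Matrix.trace ((B : Matrix (Fin m) (Fin m) F) * ((i * σ k - k * σ i) • _ - (j * σ k - k * σ j) • _)) = 1
        have htr : Matrix.trace ((B : Matrix (Fin m) (Fin m) F) * Matrix.vecMulVec v (σ ∘ v)) = c₀ := by
          rw [Matrix.mul_vecMulVec, Matrix.trace_vecMulVec, dotProduct_comm]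
          rfl
        rw [← sub_smul, Matrix.mul_smul, Matrix.trace_smul, htr, smul_eq_mul]
        have h1 : σ k * d * c₀ = τ := by rw [hk', hσσ]; field_simp
        have h2 : k * σ d * (-c₀) = σ τ := by rw [← h1, map_mul, map_mul, hσσ, hc₀s]
        have h3 : σ d = σ i - σ j := by rw [hd, map_sub]
        rw [h3] at h2
        rw [hd] at h1
        linear_combination h1 + h2 + hτ
      · have e0 : ∀ s S, (x s)⁻¹ * r S = r S * (x s)⁻¹ := fun s S => by
          rw [inv_mul_eq_iff_eq_mul, ← mul_assoc, hxr, mul_inv_cancel_right]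
        have e2 : x k * (x j)⁻¹ = r (-(D k j)) * (x j)⁻¹ * x k := by
          rw [mul_inv_eq_iff_eq_mul, eq_comm]
          calc r (-(D k j)) * (x j)⁻¹ * x k * x j
              = r (-(D k j)) * ((x j)⁻¹ * (r (D k j) * x j * x k)) := by rw [← hxx]; simp only [mul_assoc]
            _ = r (-(D k j)) * r (D k j) * ((x j)⁻¹ * (x j * x k)) := by
                simp only [mul_assoc]; rw [← mul_assoc (x j)⁻¹ (r _), e0, mul_assoc]
            _ = x k := by rw [← hr, neg_add_cancel, hom_zero hr, one_mul, inv_mul_cancel_left]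
        rw [← mul_assoc (x k), e2, mul_assoc (_ * _), hxx k i, sub_eq_neg_add, hr]
        simp only [mul_assoc]
        congr 1
        rw [← mul_assoc (x j)⁻¹, e0, mul_assoc]
    have h := card_le_sq ρ hr x (wt B) hxr hsep' hBw
    rw [hF] at h
    rw [pow_one]
    exact Nat.pow_le_pow_iff_left two_ne_zero |>.mp h
  have hsum := card_mul_le ρ hr (Ω'.image wt) (q ^ δ) hdim
  rw [Finset.card_image_of_injective _ hinj] at hsum
  calc (q ^ (2 * m) - 1) * q ^ δ ≤ (q + 1) * Ω.card * q ^ δ := Nat.mul_le_mul_right _ horb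
    _ ≤ (q + 1) * Module.finrank ℂ V := by
        rw [mul_assoc, hΩcard]
        exact Nat.mul_le_mul_left _ hsum

end Cfsg.Agent.SUMinDeg
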