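import Cfsg.Agent.Lib.MinDeg.CharWeights
import Cfsg.Agent.Lib.MinDeg.AbelianProj
import Cfsg.Agent.Lib.MinDeg.QuadOrbit
import Cfsg.Agent.Lib.ClassSum.Basic
import Cfsg.Agent.S0270
import Cfsg.Agent.S0246

/-!
Lower bound for the degrees of the non-linear irreducible representations of `Sp_{2n}(q)`, `q` even.
-/

set_option autoImplicit false
set_option linter.unusedSectionVars false
set_option maxHeartbeats 1000000

namespace Cfsg.Agent.SpEvenMinDeg

open Matrix Cfsg.Agent.QuadOrbit Cfsg.Agent.CharWt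

theorem main {F : Type*} [Field F] [Fintype F] [DecidableEq F] {n : ℕ} (hn : 2 ≤ n)
    (heven : Even (Fintype.card F)) (hex : (n, Fintype.card F) ≠ (2, 2))
    {V : Type*} [AddCommGroup V] [Module ℂ V] [FiniteDimensional ℂ V]
    (ρ : Representation ℂ (Matrix.symplecticGroup (Fin n) F) V) (hρ : ρ.IsIrreducible)
    (hk : 2 ≤ Module.finrank ℂ V) :
    (Fintype.card F ^ n - 1) * (Fintype.card F ^ n - Fintype.card F) ≤
      2 * (Fintype.card F + 1) * Module.finrank ℂ V := by
  classical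
  set q := Fintype.card F with hq
  have hq2 : 2 ≤ q := Fintype.one_lt_card
  haveI : CharP F 2 := ringChar.eq_iff.mp
    ((FiniteField.even_card_iff_char_two (F := F)).mpr (Nat.even_iff.mp heven))
  have h2 : (2 : F) = 0 := CharTwo.two_eq_zero
  -- the radical
  let Sy : AddSubgroup (Matrix (Fin n) (Fin n) F) :=
    { carrier := {S | Sᵀ = S}
      zero_mem' := Matrix.transpose_zero
      add_mem' := fun {x y} hx hy => by
        simp only [Set.mem_ofPred_eq] at *
        rw [Matrix.transpose_add, hx, hy]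
      neg_mem' := fun {x} hx => by
        simp only [Set.mem_ofPred_eq] at *
        rw [Matrix.transpose_neg, hx] }
  have hSy : ∀ S : Sy, (S : Matrix (Fin n) (Fin n) F)ᵀ = S := fun S => S.2
  haveI : Fintype Sy := Fintype.ofFinite _
  have hneg : ∀ X : Matrix (Fin n) (Fin n) F, -X = X := fun X => by
    ext i j; exact CharTwo.neg_eq _
  have hmem : ∀ S : Sy, fromBlocks 1 (S : Matrix (Fin n) (Fin n) F) 0 1 ∈
      Matrix.symplecticGroup (Fin n) F := fun S => by
    rw [SymplecticGroup.mem_iff, Matrix.J, fromBlocks_transpose, fromBlocks_multiply, fromBlocks_multiply]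
    simp [hneg, hSy S]
    ext i j
    exact CharTwo.add_self_eq_zero _
  let r : Sy → Matrix.symplecticGroup (Fin n) F := fun S => ⟨_, hmem S⟩
  have hr : ∀ x y, r (x + y) = r x * r y := fun x y => Subtype.ext (by
    show fromBlocks _ _ _ _ = fromBlocks _ _ _ _ * fromBlocks _ _ _ _
    simp [fromBlocks_multiply, add_comm])
  -- characters
  obtain ⟨a₀, ha₀⟩ : ∃ a₀ : F, AbelianProj.psi F a₀ ≠ 1 := by
    by_contra! h
    refine AbelianProj.psi_primitive F (one_ne_zero) ?_
    ext x
    simp [h]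
  let ψ₀ : AddChar F ℂ := AddChar.mulShift (AbelianProj.psi F) a₀
  have hψ₀ : ψ₀ 1 ≠ 1 := by simpa [ψ₀, AddChar.mulShift_apply] using ha₀
  let tQ : Matrix (Fin n) (Fin n) F → (Sy →+ F) := fun Q =>
    { toFun := fun S => Matrix.trace (Q * (S : Matrix (Fin n) (Fin n) F))
      map_zero' := by simp
      map_add' := fun x y => by simp [Matrix.mul_add] }
  let wt : Matrix (Fin n) (Fin n) F → AddChar Sy ℂ := fun Q => ψ₀.compAddMonoidHom (tQ Q)
  have hwt : ∀ Q (S : Sy), wt Q S = ψ₀ (Matrix.trace (Q * (S : Matrix (Fin n) (Fin n) F))) := fun Q S => rfl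
  have hsep : ∀ Q Q', wt Q = wt Q' → ∀ S : Sy,
      Matrix.trace (Q * (S : Matrix (Fin n) (Fin n) F)) = Matrix.trace (Q' * (S : Matrix (Fin n) (Fin n) F)) := by
    intro Q Q' h S
    by_contra hne
    set d := Matrix.trace (Q * (S : Matrix (Fin n) (Fin n) F)) - Matrix.trace (Q' * (S : Matrix (Fin n) (Fin n) F))
      with hd
    have hmS : d⁻¹ • (S : Matrix (Fin n) (Fin n) F) ∈ Sy := by
      show (_ : Matrix (Fin n) (Fin n) F)ᵀ = _
      rw [Matrix.transpose_smul, hSy]
    have h1 := DFunLike.congr_fun h ⟨_, hmS⟩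
    rw [hwt, hwt] at h1
    simp only [Matrix.mul_smul, Matrix.trace_smul, smul_eq_mul] at h1
    refine hψ₀ ?_
    rw [← inv_mul_cancel₀ (show d ≠ 0 from sub_ne_zero.mpr hne), show d⁻¹ * d = d⁻¹ *
      Matrix.trace (Q * (S : Matrix (Fin n) (Fin n) F)) - d⁻¹ * Matrix.trace (Q' * (S : Matrix (Fin n) (Fin n) F)) by
        rw [← mul_sub], AddChar.map_sub_eq_div, h1, div_self]
    exact ψ₀.val_isUnit _ |>.ne_zero
  have hsingle : ∀ (i j : Fin n) (c : F), Matrix.single i j c + Matrix.single j i c ∈ Sy := fun i j c => by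
    show (_ : Matrix (Fin n) (Fin n) F)ᵀ = _
    rw [Matrix.transpose_add, Matrix.transpose_single, Matrix.transpose_single, add_comm]
  have hdiag : ∀ (i : Fin n) (c : F), Matrix.single i i c ∈ Sy := fun i c => by
    show (_ : Matrix (Fin n) (Fin n) F)ᵀ = _
    rw [Matrix.transpose_single]
  let UT := {Q : Matrix (Fin n) (Fin n) F // ∀ i j, j < i → Q i j = 0}
  have hinj : Function.Injective fun Q : UT => wt Q.1 := by
    intro Q Q' h
    refine Subtype.ext (Matrix.ext fun i j => ?_)
    rcases lt_trichotomy i j with hij | rfl | hij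
    · have := hsep _ _ h ⟨_, hsingle j i 1⟩
      simp only [Matrix.mul_add, Matrix.trace_add, Matrix.trace_mul_single, op_smul_eq_mul, mul_one] at this
      rw [Q.2 j i hij, Q'.2 j i hij, add_zero, add_zero] at this
      exact this
    · have := hsep _ _ h ⟨_, hdiag i 1⟩
      simpa only [Matrix.trace_mul_single, op_smul_eq_mul, mul_one] using this
    · rw [Q.2 i j hij, Q'.2 i j hij]
  have hcard : Fintype.card UT = Fintype.card (AddChar Sy ℂ) := by
    rw [AddChar.card_eq]
    refine Fintype.card_congr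
      { toFun := fun Q => ⟨Matrix.of fun i j => if i ≤ j then Q.1 i j else Q.1 j i, ?_⟩
        invFun := fun S => ⟨Matrix.of fun i j => if i ≤ j then (S : Matrix (Fin n) (Fin n) F) i j else 0,
          fun i j h => by simp [not_le.mpr h]⟩
        left_inv := fun Q => ?_
        right_inv := fun S => ?_ }
    · show (_ : Matrix (Fin n) (Fin n) F)ᵀ = _
      ext i j
      rcases lt_trichotomy i j with h | rfl | h
      · simp [h.le, not_le.mpr h]
      · simp
      · simp [h.le, not_le.mpr h]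
    · refine Subtype.ext (Matrix.ext fun i j => ?_)
      by_cases h : i ≤ j
      · simp [h]
      · simp [h, Q.2 i j (not_le.mp h)]
    · refine Subtype.ext (Matrix.ext fun i j => ?_)
      by_cases h : i ≤ j
      · simp [h]
      · simp [h, (not_le.mp h).le]
        exact congrFun (congrFun (hSy S) i) j
  have hsurj : Function.Surjective wt := fun χ => by
    obtain ⟨Q, hQ⟩ := ((Fintype.bijective_iff_injective_and_card _).mpr ⟨hinj, hcard⟩).2 χ
    exact ⟨Q.1, hQ⟩
  choose sec hsec using hsurj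
  have hfq : ∀ Q v, quad (sec (wt Q)) v = quad Q v := by
    intro Q v
    have hm : Matrix.vecMulVec v v ∈ Sy := by
      show (_ : Matrix (Fin n) (Fin n) F)ᵀ = _
      rw [Matrix.transpose_vecMulVec]
    have := hsep _ _ (hsec (wt Q)) ⟨_, hm⟩
    simpa only [Matrix.mul_vecMulVec, Matrix.trace_vecMulVec, dotProduct_comm _ v, quad] using this
  -- a weight which is non-trivial on an alternating element
  set S₁ : Sy := ⟨_, hsingle (⟨0, by omega⟩ : Fin n) ⟨1, by omega⟩ 1⟩ with hS₁
  have hact : ρ (r S₁) ≠ 1 := by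
    intro h1
    let K : Subgroup (Matrix.symplecticGroup (Fin n) F) :=
      (ρ : Matrix.symplecticGroup (Fin n) F →* Module.End ℂ V).ker
    haveI := S0270.result (F := F) n hn (fun h => by
      by_contra h3; exact hex (Prod.ext h (by omega)))
    have hc : Subgroup.center (Matrix.symplecticGroup (Fin n) F) = ⊥ := by
      refine Subgroup.eq_bot_of_card_eq _ ?_
      rw [S0246.result (F := F) rfl n (by omega)]
      exact Nat.Coprime.coprime_dvd_left dvd_rfl (Nat.coprime_two_left.mpr (Nat.Even.sub_odd (by omega) heven odd_one))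
    have hb : Function.Bijective (QuotientGroup.mk' (Subgroup.center (Matrix.symplecticGroup (Fin n) F))) :=
      ⟨by rw [← MonoidHom.ker_eq_bot_iff, QuotientGroup.ker_mk', hc], QuotientGroup.mk'_surjective _⟩
    rcases Subgroup.Normal.eq_bot_or_eq_top (H := K.map (QuotientGroup.mk' (Subgroup.center _)))
        (Subgroup.Normal.map inferInstance _ hb.2) with h3 | h3
    · rw [Subgroup.map_eq_bot_iff_of_injective _ hb.1] at h3
      have h4 : r S₁ = 1 := Subgroup.mem_bot.mp (h3 ▸ (h1 : r S₁ ∈ K))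
      have h5 : ((r S₁ : Matrix.symplecticGroup (Fin n) F) : Matrix (Fin n ⊕ Fin n) (Fin n ⊕ Fin n) F)
          (Sum.inl ⟨0, by omega⟩) (Sum.inr ⟨1, by omega⟩) = 0 := by rw [h4]; simp
      simp [r, hS₁] at h5
    · have htop : K = ⊤ := Subgroup.map_injective hb.1 (h3.trans (Subgroup.map_top_of_surjective _ hb.2).symm)
      have h4 : ∀ g, ρ g = 1 := fun g => (htop ▸ Subgroup.mem_top g : g ∈ K)
      obtain ⟨hV, h⟩ := (CT.isIrreducible_iff ρ).mp hρ
      obtain ⟨v, hv⟩ := exists_ne (0 : V)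
      rcases h (Submodule.span ℂ {v}) (fun g w hw => by rw [h4 g]; exact hw) with h5 | h5
      · exact hv (Submodule.span_singleton_eq_bot.mp h5)
      · have := finrank_span_singleton (K := ℂ) hv
        rw [h5, finrank_top] at this
        omega
  obtain ⟨χ₁, hχ₁, hχ₁'⟩ : ∃ χ : AddChar Sy ℂ, cproj ρ r χ ≠ 0 ∧ χ S₁ ≠ 1 := by
    by_contra! h
    refine hact ?_
    calc ρ (r S₁) = ρ (r S₁) * ∑ χ : AddChar Sy ℂ, cproj ρ r χ := by rw [sum_cproj ρ hr, mul_one]
      _ = ∑ χ : AddChar Sy ℂ, cproj ρ r χ := by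
          rw [Finset.mul_sum]
          refine Finset.sum_congr rfl fun χ _ => ?_
          rw [rad_mul_cproj ρ hr]
          by_cases hχ : cproj ρ r χ = 0
          · rw [hχ, smul_zero]
          · rw [h χ hχ, one_smul]
      _ = 1 := sum_cproj ρ hr
  set W : Finset (AddChar Sy ℂ) := Finset.univ.filter fun χ => cproj ρ r χ ≠ 0 with hW
  set Ω : Finset ((Fin n → F) → F) := W.image fun χ => quad (sec χ) with hΩ
  have horb := card_bound Ω (fun f hf => by
      obtain ⟨χ, -, rfl⟩ := Finset.mem_image.mp hf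
      exact ⟨_, rfl⟩)
    (fun f hf A hA => by
      obtain ⟨χ, hχ, rfl⟩ := Finset.mem_image.mp hf
      have hAC : A * A⁻¹ = 1 := Matrix.mul_nonsing_inv A (Ne.isUnit hA)
      have hCA : A⁻¹ * A = 1 := Matrix.nonsing_inv_mul A (Ne.isUnit hA)
      have hAt : (A⁻¹)ᵀ * Aᵀ = 1 := by rw [← Matrix.transpose_mul, hAC, Matrix.transpose_one]
      have hAt' : Aᵀ * (A⁻¹)ᵀ = 1 := by rw [← Matrix.transpose_mul, hCA, Matrix.transpose_one]
      have hL : fromBlocks A⁻¹ 0 0 Aᵀ ∈ Matrix.symplecticGroup (Fin n) F := by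
        rw [SymplecticGroup.mem_iff, Matrix.J, fromBlocks_transpose, fromBlocks_multiply, fromBlocks_multiply]
        simp [hCA, hAt']
      have hconj : ∀ X : Matrix (Fin n) (Fin n) F, ∀ S : Sy,
          X * (S : Matrix (Fin n) (Fin n) F) * Xᵀ ∈ Sy := fun X S => by
        show (_ : Matrix (Fin n) (Fin n) F)ᵀ = _
        rw [Matrix.transpose_mul, Matrix.transpose_mul, Matrix.transpose_transpose, hSy, Matrix.mul_assoc]
      let T : Sy ≃+ Sy :=
        { toFun := fun S => ⟨_, hconj A⁻¹ S⟩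
          invFun := fun S => ⟨_, hconj A S⟩
          left_inv := fun S => Subtype.ext (by
            show A * (A⁻¹ * _ * (A⁻¹)ᵀ) * Aᵀ = _
            simp only [Matrix.mul_assoc, hAt]
            rw [Matrix.mul_one, ← Matrix.mul_assoc, hAC, Matrix.one_mul])
          right_inv := fun S => Subtype.ext (by
            show A⁻¹ * (A * _ * Aᵀ) * (A⁻¹)ᵀ = _
            simp only [Matrix.mul_assoc, hAt']
            rw [Matrix.mul_one, ← Matrix.mul_assoc, hCA, Matrix.one_mul])
          map_add' := fun x y => Subtype.ext (by simp [Matrix.mul_add, Matrix.add_mul]) }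
      refine Finset.mem_image.mpr ⟨wt (Aᵀ * sec χ * A), Finset.mem_filter.mpr ⟨Finset.mem_univ _, ?_⟩,
        funext fun v => by rw [hfq, quad_conj]⟩
      refine cproj_ne_zero_of_conj ρ T (g := ⟨_, hL⟩) (fun S => Subtype.ext ?_) (fun S => ?_)
        (Finset.mem_filter.mp hχ).2
      · show fromBlocks 1 (A⁻¹ * (S : Matrix (Fin n) (Fin n) F) * (A⁻¹)ᵀ) 0 1 * fromBlocks A⁻¹ 0 0 Aᵀ =
          fromBlocks A⁻¹ 0 0 Aᵀ * fromBlocks 1 _ 0 1
        simp [fromBlocks_multiply, Matrix.mul_assoc, hAt]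
      · rw [hwt]
        conv_rhs => rw [← hsec χ, hwt]
        congr 1
        show Matrix.trace (Aᵀ * sec χ * A * (A⁻¹ * (S : Matrix (Fin n) (Fin n) F) * (A⁻¹)ᵀ)) = _
        rw [show Aᵀ * sec χ * A * (A⁻¹ * (S : Matrix (Fin n) (Fin n) F) * (A⁻¹)ᵀ) =
          Aᵀ * (sec χ * (S : Matrix (Fin n) (Fin n) F) * (A⁻¹)ᵀ) by
            simp only [Matrix.mul_assoc]; rw [← Matrix.mul_assoc A, hAC, Matrix.one_mul]]
        rw [Matrix.trace_mul_comm, Matrix.mul_assoc, hAt, Matrix.mul_one])
    hn (Q := sec χ₁) (Finset.mem_image_of_mem _ (Finset.mem_filter.mpr ⟨Finset.mem_univ _, hχ₁⟩)) (by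
      intro h
      refine hχ₁' ?_
      rw [← hsec χ₁, hwt, hS₁]
      have h1 := congrFun (congrFun h ⟨1, by omega⟩) ⟨0, by omega⟩
      rw [Matrix.add_apply, Matrix.transpose_apply, Matrix.zero_apply] at h1
      simp only [Matrix.mul_add, Matrix.trace_add, Matrix.trace_mul_single, op_smul_eq_mul, mul_one]
      rw [h1, AddChar.map_zero_eq_one])
  have hdim := card_mul_le ρ hr W 1 (fun χ hχ => finrank_pos ρ (Finset.mem_filter.mp hχ).2)
  rw [mul_one] at hdim
  calc (q ^ n - 1) * (q ^ n - q) ≤ 2 * (q + 1) * Ω.card := horb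
    _ ≤ 2 * (q + 1) * Module.finrank ℂ V :=
        Nat.mul_le_mul_left _ (Finset.card_image_le.trans hdim)

end Cfsg.Agent.SpEvenMinDeg
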