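import Cfsg.Agent.Lib.MinDeg.CharWeights
import Cfsg.Agent.Lib.MinDeg.AbelianProj
import Cfsg.Agent.Lib.Recog.CrossChar.Groups
import Cfsg.Agent.Lib.ClassSum.Basic
import Cfsg.Agent.S0270
import Cfsg.Agent.S0269

/-!
Lower bound for the degrees of the non-linear irreducible representations of `Sp_{2n}(q)`, `q` odd.
-/

set_option autoImplicit false
set_option linter.unusedSectionVars false
set_option maxHeartbeats 1000000

namespace Cfsg.Agent.SpOddMinDeg

open Matrix Cfsg.Agent.CharWt
open scoped commutatorElement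

variable {F : Type*} [Field F] [Fintype F] [DecidableEq F] {n : ℕ}

theorem two_ne_zero_of_odd (hodd : Odd (Fintype.card F)) : (2 : F) ≠ 0 := by
  have h : ringChar F ≠ 2 := fun h => by
    have := (FiniteField.even_card_iff_char_two (F := F)).mp h
    rw [Nat.odd_iff] at hodd
    omega
  intro h2
  haveI : CharP F (ringChar F) := ringChar.charP F
  have h3 : ringChar F ∣ 2 := (CharP.cast_eq_zero_iff F (ringChar F) 2).mp (by exact_mod_cast h2)
  rcases (Nat.dvd_prime Nat.prime_two).mp h3 with h4 | h4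
  · exact CharP.char_ne_one F (ringChar F) h4
  · exact h h4

/-- The orbit bound for non-zero symmetric matrices. -/
theorem card_bound (hn : 2 ≤ n) (hodd : Odd (Fintype.card F)) (Ω : Finset (Matrix (Fin n) (Fin n) F))
    (hsym : ∀ Q ∈ Ω, Qᵀ = Q)
    (hinv : ∀ Q ∈ Ω, ∀ A : Matrix (Fin n) (Fin n) F, A.det ≠ 0 → Aᵀ * Q * A ∈ Ω)
    {Q : Matrix (Fin n) (Fin n) F} (hQ : Q ∈ Ω) (hQ0 : Q ≠ 0) :
    (Fintype.card F ^ n - 1) / 2 ≤ Ω.card := by
  classical
  set q := Fintype.card F with hq
  have hq1 : 1 < q := Fintype.one_lt_card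
  have h2 := two_ne_zero_of_odd hodd
  have hQs := hsym Q hQ
  let bl : (Fin n → F) → (Fin n → F) → F := fun v w => v ⬝ᵥ (Q *ᵥ w)
  have hbc : ∀ v w, bl v w = bl w v := fun v w => by
    simp only [bl]
    rw [Matrix.dotProduct_mulVec, ← Matrix.mulVec_transpose, hQs, dotProduct_comm]
  have hadd : ∀ v w s t, bl (s • v + t • w) (s • v + t • w) =
      s ^ 2 * bl v v + t ^ 2 * bl w w + 2 * s * t * bl v w := fun v w s t => by
    have := hbc v w
    simp only [bl, Matrix.mulVec_add, Matrix.mulVec_smul, dotProduct_add, add_dotProduct, dotProduct_smul,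
      smul_dotProduct, smul_eq_mul] at this ⊢
    rw [this]; ring
  obtain ⟨v₀, hv₀⟩ : ∃ v, bl v v ≠ 0 := by
    by_contra! h
    refine hQ0 (Matrix.ext fun i j => ?_)
    have h1 := hadd (Pi.single i (1 : F)) (Pi.single j (1 : F)) 1 1
    rw [h, h, h] at h1
    simp [bl, h2] at h1
    simpa using h1
  set c₀ := bl v₀ v₀ with hc₀
  by_cases hA : ∃ w, bl v₀ w = 0 ∧ bl w w ≠ 0
  · obtain ⟨w, hw, hww⟩ := hA
    have hall : ∀ c : F, c ≠ 0 → ∃ v, v ≠ 0 ∧ bl v v = c := by
      intro c hc
      have hdeg : (Polynomial.C (bl w w) * Polynomial.X ^ 2 - Polynomial.C c).degree = 2 := by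
        rw [Polynomial.degree_sub_eq_left_of_degree_lt]
        · exact Polynomial.degree_C_mul_X_pow 2 hww
        · rw [Polynomial.degree_C_mul_X_pow 2 hww]
          exact lt_of_le_of_lt Polynomial.degree_C_le (by norm_num)
      obtain ⟨s, t, hst⟩ := FiniteField.exists_root_sum_quadratic
        (f := Polynomial.C c₀ * Polynomial.X ^ 2) (Polynomial.degree_C_mul_X_pow 2 hv₀) hdeg
        (Nat.odd_iff.mp hodd)
      simp at hst
      refine ⟨s • v₀ + t • w, fun h => hc ?_, ?_⟩
      · have := hadd v₀ w s t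
        rw [h, hw] at this
        simp [bl] at this
        linear_combination -hst - this
      · rw [hadd, hw, ← hc₀]; linear_combination hst
    let z : Fin n := ⟨0, by omega⟩
    set e : Fin n → F := Pi.single z 1 with he
    have hsub : Fintype.piFinset (Function.update (fun _ => (Finset.univ : Finset F)) z
        (Finset.univ.erase 0)) ⊆ Ω.image fun R => R *ᵥ e := by
      intro u hu
      simp only [Fintype.mem_piFinset] at hu
      have huz : u z ≠ 0 := by simpa using hu z
      obtain ⟨v, hv0, hv⟩ := hall (u z) huz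
      obtain ⟨g, hg⟩ := Recog.CrossChar.exists_sl (by simpa using hn) e v (by simp [he]) hv0
      set R := (g : Matrix (Fin n) (Fin n) F)ᵀ * Q * g with hR
      set u₀ := R *ᵥ e with hu₀
      have hu₀z : u₀ z = u z := by
        rw [← hv]
        show u₀ z = v ⬝ᵥ (Q *ᵥ v)
        rw [← hg, dotProduct_comm (_ *ᵥ e), Matrix.dotProduct_mulVec,
          ← Matrix.mulVec_transpose, Matrix.mulVec_mulVec, Matrix.mulVec_mulVec, hu₀, hR]
        simp [he, Matrix.mul_assoc]
      let x : Fin n → F := fun i => (u i - u₀ i) / u z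
      set H := 1 + Matrix.vecMulVec e x with hH
      have hxz : x z = 0 := by simp [x, hu₀z]
      have hHe : H *ᵥ e = e := by
        rw [hH, Matrix.add_mulVec, Matrix.one_mulVec, Matrix.vecMulVec_mulVec]; simp [he, hxz]
      refine Finset.mem_image.mpr ⟨Hᵀ * R * H, hinv _ (hinv Q hQ _ (by rw [g.2]; exact one_ne_zero)) _ ?_, ?_⟩
      · rw [hH, Matrix.vecMulVec_eq Unit, Matrix.det_one_add_replicateCol_mul_replicateRow]
        simp [he, hxz]
      · rw [← Matrix.mulVec_mulVec, hHe, ← Matrix.mulVec_mulVec, ← hu₀, hH, Matrix.transpose_add,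
          Matrix.transpose_one, Matrix.transpose_vecMulVec, Matrix.add_mulVec, Matrix.one_mulVec,
          Matrix.vecMulVec_mulVec]
        funext i
        simp [he, x, hu₀z]
        field_simp
        ring
    have h1 := (Finset.card_le_card hsub).trans Finset.card_image_le
    rw [Fintype.card_piFinset, ← Finset.mul_prod_erase _ _ (Finset.mem_univ z),
      Finset.prod_congr rfl (g := fun _ => q) fun i hi => by simp [Finset.ne_of_mem_erase hi, hq]] at h1
    simp [Finset.card_erase_of_mem, ← hq] at h1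
    refine le_trans ?_ h1
    obtain ⟨k, rfl⟩ : ∃ k, n = k + 1 := ⟨n - 1, by omega⟩
    rw [Nat.add_sub_cancel]
    refine Nat.div_le_of_le_mul ?_
    have h3 : q ^ (k + 1) ≤ 2 * ((q - 1) * q ^ k) := by
      rw [pow_succ', ← mul_assoc]; exact Nat.mul_le_mul_right _ (by omega)
    omega
  push Not at hA
  set u := Q *ᵥ v₀ with hu
  have hu0 : u ≠ 0 := fun h => hv₀ (show v₀ ⬝ᵥ u = 0 by rw [h, dotProduct_zero])
  have hperp : ∀ x, bl v₀ x = 0 → ∀ y, bl x y = 0 := by
    intro x hx y
    set y' := y - (bl v₀ y / c₀) • v₀ with hy'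
    have hy'0 : bl v₀ y' = 0 := by
      simp only [hy', bl, Matrix.mulVec_sub, Matrix.mulVec_smul, dotProduct_sub, dotProduct_smul, smul_eq_mul]
      field_simp
      simp [hc₀, bl]
    have h0 := hA (x + y') (by
      simp only [bl] at hx hy'0 ⊢
      rw [Matrix.mulVec_add, dotProduct_add, hx, hy'0, add_zero])
    have h1 := hadd x y' 1 1
    simp only [one_smul, one_pow, one_mul, mul_one] at h1
    rw [h0, hA x hx, hA y' hy'0] at h1
    have h3 : bl x y' = 0 := by simpa [h2] using h1.symm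
    have h4 : bl x v₀ = 0 := by rw [hbc]; exact hx
    simp only [hy', bl, Matrix.mulVec_sub, Matrix.mulVec_smul, dotProduct_sub, dotProduct_smul, smul_eq_mul] at h3 h4 ⊢
    rw [h4] at h3
    linear_combination h3
  have hform : Q = c₀⁻¹ • Matrix.vecMulVec u u := by
    refine Matrix.ext fun i j => ?_
    have hsplit := hperp (Pi.single i 1 - (bl v₀ (Pi.single i 1) / c₀) • v₀) (by
      simp only [bl, Matrix.mulVec_sub, Matrix.mulVec_smul, dotProduct_sub, dotProduct_smul, smul_eq_mul]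
      field_simp
      simp [hc₀, bl]) (Pi.single j 1)
    have e1 : ∀ k, bl v₀ (Pi.single k 1) = u k := fun k => by
      rw [hbc]; simp [bl, hu]
    have e2 : bl (Pi.single i 1) (Pi.single j 1) = Q i j := by simp [bl]
    simp only [bl, sub_dotProduct, smul_dotProduct, smul_eq_mul] at hsplit e1 e2
    rw [e1 i, e1 j, e2] at hsplit
    simp [Matrix.vecMulVec_apply]
    linear_combination hsplit
  let T : (Fin n → F) → Matrix (Fin n) (Fin n) F := fun w => c₀⁻¹ • Matrix.vecMulVec w w
  have hT : ∀ w, w ≠ 0 → T w ∈ Ω := by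
    intro w hw
    obtain ⟨g, hg⟩ := Recog.CrossChar.exists_sl (by simpa using hn) u w hu0 hw
    have := hinv Q hQ (g : Matrix (Fin n) (Fin n) F)ᵀ (by rw [Matrix.det_transpose, g.2]; exact one_ne_zero)
    rw [Matrix.transpose_transpose, hform, Matrix.mul_smul, Matrix.smul_mul, Matrix.mul_vecMulVec,
      Matrix.vecMulVec_mul, Matrix.vecMul_transpose, hg] at this
    exact this
  have hfib : ∀ a ∈ (Finset.univ.erase (0 : Fin n → F)).image T,
      ((Finset.univ.erase (0 : Fin n → F)).filter fun w => T w = a).card ≤ 2 := by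
    intro a ha
    obtain ⟨w₀, hw₀, rfl⟩ := Finset.mem_image.mp ha
    refine le_trans (Finset.card_le_card (t := {w₀, -w₀}) fun w hw => ?_) Finset.card_le_two
    have hv : ∀ i j, w i * w j = w₀ i * w₀ j := fun i j => by
      have := congrFun (congrFun (Finset.mem_filter.mp hw).2 i) j
      simpa [T, Matrix.vecMulVec_apply, hv₀] using this
    obtain ⟨j, hj⟩ := Function.ne_iff.mp (Finset.ne_of_mem_erase hw₀)
    rcases mul_self_eq_mul_self_iff.mp (hv j j) with h | h
    · refine Finset.mem_insert.mpr (Or.inl (funext fun i => ?_))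
      have := hv i j
      rw [h] at this
      exact mul_right_cancel₀ hj this
    · refine Finset.mem_insert_of_mem (Finset.mem_singleton.mpr (funext fun i => ?_))
      have := hv i j
      rw [h] at this
      refine mul_right_cancel₀ hj ?_
      show w i * w₀ j = (-w₀ i) * w₀ j
      linear_combination -this
  have h1 := Finset.card_le_mul_card_image _ 2 hfib
  have h3 : ((Finset.univ.erase (0 : Fin n → F)).image T).card ≤ Ω.card :=
    Finset.card_le_card fun R hR => by
      obtain ⟨w, hw, rfl⟩ := Finset.mem_image.mp hR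
      exact hT w (Finset.ne_of_mem_erase hw)
  rw [Finset.card_erase_of_mem (Finset.mem_univ _), Finset.card_univ, Fintype.card_fun, Fintype.card_fin,
    ← hq] at h1
  exact Nat.div_le_of_le_mul (h1.trans (Nat.mul_le_mul_left _ h3))

/-- A fixed-point free invariant submodule contains the bound. -/
theorem main (hn : 2 ≤ n) (hodd : Odd (Fintype.card F))
    {V : Type*} [AddCommGroup V] [Module ℂ V] [FiniteDimensional ℂ V]
    (ρ : Representation ℂ (Matrix.symplecticGroup (Fin n) F) V) (hne : ∃ g, ρ g ≠ 1) :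
    (Fintype.card F ^ n - 1) / 2 ≤ Module.finrank ℂ V := by
  classical
  set q := Fintype.card F with hq
  have h2 := two_ne_zero_of_odd hodd
  have hq3 : 3 ≤ q := by
    have := Fintype.one_lt_card (α := F)
    rw [Nat.odd_iff] at hodd
    omega
  let Sy : AddSubgroup (Matrix (Fin n) (Fin n) F) :=
    { carrier := {S | Sᵀ = S}
      zero_mem' := Matrix.transpose_zero
      add_mem' := fun {x y} hx hy => by
        simp only [Set.mem_ofPred_eq] at *
        rw [Matrix.transpose_add, hx, hy]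
      neg_mem' := fun {x} hx => by
        simp only [Set.mem_ofPred_eq] at *
        rw [Matrix.transpose_neg, hx] }
  have hSy : ∀ S : Sy, (S : Matrix (Fin n) (Fin n) F)ᵀ = S := fun S => S.2
  haveI : Fintype Sy := Fintype.ofFinite _
  have hmem : ∀ S : Sy, fromBlocks 1 (S : Matrix (Fin n) (Fin n) F) 0 1 ∈
      Matrix.symplecticGroup (Fin n) F := fun S => by
    rw [SymplecticGroup.mem_iff, Matrix.J, fromBlocks_transpose, fromBlocks_multiply, fromBlocks_multiply]
    simp [hSy S]
  let r : Sy → Matrix.symplecticGroup (Fin n) F := fun S => ⟨_, hmem S⟩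
  have hr : ∀ x y, r (x + y) = r x * r y := fun x y => Subtype.ext (by
    show fromBlocks _ _ _ _ = fromBlocks _ _ _ _ * fromBlocks _ _ _ _
    simp [fromBlocks_multiply, add_comm])
  obtain ⟨a₀, ha₀⟩ : ∃ a₀ : F, AbelianProj.psi F a₀ ≠ 1 := by
    by_contra! h
    refine AbelianProj.psi_primitive F (one_ne_zero) ?_
    ext x
    simp [h]
  let ψ₀ : AddChar F ℂ := AddChar.mulShift (AbelianProj.psi F) a₀
  have hψ₀ : ψ₀ 1 ≠ 1 := by simpa [ψ₀, AddChar.mulShift_apply] using ha₀
  let tQ : Sy → (Sy →+ F) := fun Q =>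
    { toFun := fun S => Matrix.trace ((Q : Matrix (Fin n) (Fin n) F) * (S : Matrix (Fin n) (Fin n) F))
      map_zero' := by simp
      map_add' := fun x y => by simp [Matrix.mul_add] }
  let wt : Sy → AddChar Sy ℂ := fun Q => ψ₀.compAddMonoidHom (tQ Q)
  have hwt : ∀ Q S : Sy, wt Q S =
      ψ₀ (Matrix.trace ((Q : Matrix (Fin n) (Fin n) F) * (S : Matrix (Fin n) (Fin n) F))) := fun Q S => rfl
  have hinj : Function.Injective wt := by
    intro Q Q' h
    by_contra hne'
    obtain ⟨i, j, hij⟩ : ∃ i j, (Q : Matrix (Fin n) (Fin n) F) i j - (Q' : Matrix (Fin n) (Fin n) F) i j ≠ 0 := by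
      by_contra! h'
      exact hne' (Subtype.ext (Matrix.ext fun i j => sub_eq_zero.mp (h' i j)))
    set d := (Q : Matrix (Fin n) (Fin n) F) i j - (Q' : Matrix (Fin n) (Fin n) F) i j with hd
    have hm : Matrix.single i j (2 * d)⁻¹ + Matrix.single j i (2 * d)⁻¹ ∈ Sy := by
      show (_ : Matrix (Fin n) (Fin n) F)ᵀ = _
      rw [Matrix.transpose_add, Matrix.transpose_single, Matrix.transpose_single, add_comm]
    have h1 := DFunLike.congr_fun h ⟨_, hm⟩
    rw [hwt, hwt] at h1
    simp only [Matrix.mul_add, Matrix.trace_add, Matrix.trace_mul_single, op_smul_eq_mul] at h1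
    have e1 := congrFun (congrFun (hSy Q) i) j
    have e2 := congrFun (congrFun (hSy Q') i) j
    rw [Matrix.transpose_apply] at e1 e2
    rw [e1, e2] at h1
    refine hψ₀ ?_
    have e3 : (1 : F) = ((Q : Matrix (Fin n) (Fin n) F) i j * (2 * d)⁻¹ + (Q : Matrix (Fin n) (Fin n) F) i j * (2 * d)⁻¹) -
        ((Q' : Matrix (Fin n) (Fin n) F) i j * (2 * d)⁻¹ + (Q' : Matrix (Fin n) (Fin n) F) i j * (2 * d)⁻¹) := by
      field_simp
      rw [hd]; ring
    rw [e3, AddChar.map_sub_eq_div, h1, div_self]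
    exact ψ₀.val_isUnit _ |>.ne_zero
  have hsurj : Function.Surjective wt :=
    ((Fintype.bijective_iff_injective_and_card _).mpr ⟨hinj, (AddChar.card_eq).symm⟩).2
  obtain ⟨i₀, -⟩ : ∃ i : Fin n, i.val = 0 := ⟨⟨0, by omega⟩, rfl⟩
  have hm1 : Matrix.single i₀ i₀ (1 : F) ∈ Sy := by
    show (_ : Matrix (Fin n) (Fin n) F)ᵀ = _
    rw [Matrix.transpose_single]
  have hact : ρ (r ⟨_, hm1⟩) ≠ 1 := by
    intro h1
    obtain ⟨g₀, hg₀⟩ := hne
    let K : Subgroup (Matrix.symplecticGroup (Fin n) F) :=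
      (ρ : Matrix.symplecticGroup (Fin n) F →* Module.End ℂ V).ker
    haveI := S0270.result (F := F) n hn (fun _ => hq3)
    have hperf : commutator (Matrix.symplecticGroup (Fin n) F) = ⊤ :=
      S0269.result (F := F) n (by
        rcases (show n = 2 ∨ 3 ≤ n by omega) with h | h
        · exact Or.inr (Or.inl ⟨h, hq3⟩)
        · exact Or.inl h)
    rcases Subgroup.Normal.eq_bot_or_eq_top
        (H := K.map (QuotientGroup.mk' (Subgroup.center (Matrix.symplecticGroup (Fin n) F))))
        (Subgroup.Normal.map inferInstance _ (QuotientGroup.mk'_surjective _)) with h3 | h3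
    · rw [Subgroup.map_eq_bot_iff, QuotientGroup.ker_mk'] at h3
      have h4 := Subgroup.mem_center_iff.mp (h3 (h1 : r ⟨_, hm1⟩ ∈ K)) (SymplecticGroup.symJ (Fin n) F)
      have h5 := congrFun (congrFun (congrArg Subtype.val h4) (Sum.inl i₀)) (Sum.inl i₀)
      simp [r, SymplecticGroup.symJ, Matrix.J, fromBlocks_multiply] at h5
    · refine hg₀ ?_
      have hle : commutator (Matrix.symplecticGroup (Fin n) F) ≤ K := by
        have hsup : K ⊔ Subgroup.center (Matrix.symplecticGroup (Fin n) F) = ⊤ := by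
          have := congrArg (Subgroup.comap (QuotientGroup.mk' (Subgroup.center _))) h3
          rwa [Subgroup.comap_map_eq, QuotientGroup.ker_mk', Subgroup.comap_top] at this
        rw [commutator_def, ← hsup, Subgroup.commutator_le]
        intro a ha b hb
        rw [Subgroup.mem_sup_of_normal_right] at ha hb
        obtain ⟨a₁, ha₁, a₂, ha₂, rfl⟩ := ha
        obtain ⟨b₁, hb₁, b₂, hb₂, rfl⟩ := hb
        have hc : ∀ {z : Matrix.symplecticGroup (Fin n) F}, z ∈ Subgroup.center _ → ∀ x, Commute z x :=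
          fun hz x => ((Subgroup.mem_center_iff.mp hz) x).symm
        have : ⁅a₁ * a₂, b₁ * b₂⁆ = ⁅a₁, b₁⁆ := by
          simp only [commutatorElement_def, _root_.mul_inv_rev]
          have e1 := fun x => (hc ha₂ x).eq
          have e2 := fun x => (hc hb₂ x).eq
          calc a₁ * a₂ * (b₁ * b₂) * (a₂⁻¹ * a₁⁻¹) * (b₂⁻¹ * b₁⁻¹)
              = a₁ * (a₂ * (b₁ * b₂)) * a₂⁻¹ * a₁⁻¹ * b₂⁻¹ * b₁⁻¹ := by simp only [mul_assoc]
            _ = a₁ * (b₁ * b₂) * a₁⁻¹ * b₂⁻¹ * b₁⁻¹ := by rw [e1]; simp [mul_assoc]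
            _ = a₁ * b₁ * (b₂ * a₁⁻¹) * b₂⁻¹ * b₁⁻¹ := by simp only [mul_assoc]
            _ = a₁ * b₁ * a₁⁻¹ * b₁⁻¹ := by rw [e2]; simp [mul_assoc]
        rw [this, commutatorElement_def]
        exact mul_mem (mul_mem (mul_mem ha₁ hb₁) (inv_mem ha₁)) (inv_mem hb₁)
      exact (hle (hperf ▸ Subgroup.mem_top g₀) : g₀ ∈ K)
  obtain ⟨χ, hχ0, hχ⟩ := exists_weight ρ hr hact
  obtain ⟨Q₁, rfl⟩ := hsurj χ
  set Ω' : Finset Sy := Finset.univ.filter fun Q => cproj ρ r (wt Q) ≠ 0 with hΩ'
  set Ω := Ω'.image fun Q : Sy => (Q : Matrix (Fin n) (Fin n) F) with hΩ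
  have horb := card_bound hn hodd Ω (fun Q hQ => by
      obtain ⟨Q', -, rfl⟩ := Finset.mem_image.mp hQ
      exact hSy Q')
    (fun Q hQ A hA => by
      obtain ⟨⟨Q, hQm⟩, hQ', rfl⟩ := Finset.mem_image.mp hQ
      have hAC : A * A⁻¹ = 1 := Matrix.mul_nonsing_inv A (Ne.isUnit hA)
      have hCA : A⁻¹ * A = 1 := Matrix.nonsing_inv_mul A (Ne.isUnit hA)
      have hAt : (A⁻¹)ᵀ * Aᵀ = 1 := by rw [← Matrix.transpose_mul, hAC, Matrix.transpose_one]
      have hAt' : Aᵀ * (A⁻¹)ᵀ = 1 := by rw [← Matrix.transpose_mul, hCA, Matrix.transpose_one]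
      have hL : fromBlocks A⁻¹ 0 0 Aᵀ ∈ Matrix.symplecticGroup (Fin n) F := by
        rw [SymplecticGroup.mem_iff, Matrix.J, fromBlocks_transpose, fromBlocks_multiply, fromBlocks_multiply]
        simp [hCA, hAt']
      have hconj : ∀ X : Matrix (Fin n) (Fin n) F, ∀ S : Sy,
          X * (S : Matrix (Fin n) (Fin n) F) * Xᵀ ∈ Sy := fun X S => by
        show (_ : Matrix (Fin n) (Fin n) F)ᵀ = _
        rw [Matrix.transpose_mul, Matrix.transpose_mul, Matrix.transpose_transpose, hSy, Matrix.mul_assoc]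
      let T : Sy ≃+ Sy :=
        { toFun := fun S => ⟨_, hconj A⁻¹ S⟩
          invFun := fun S => ⟨_, hconj A S⟩
          left_inv := fun S => Subtype.ext (by
            show A * (A⁻¹ * _ * (A⁻¹)ᵀ) * Aᵀ = _
            simp only [Matrix.mul_assoc, hAt]
            rw [Matrix.mul_one, ← Matrix.mul_assoc, hAC, Matrix.one_mul])
          right_inv := fun S => Subtype.ext (by
            show A⁻¹ * (A * _ * Aᵀ) * (A⁻¹)ᵀ = _
            simp only [Matrix.mul_assoc, hAt']
            rw [Matrix.mul_one, ← Matrix.mul_assoc, hCA, Matrix.one_mul])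
          map_add' := fun x y => Subtype.ext (by simp [Matrix.mul_add, Matrix.add_mul]) }
      have hQm' : Aᵀ * Q * A ∈ Sy := by simpa using hconj Aᵀ ⟨Q, hQm⟩
      refine Finset.mem_image.mpr ⟨⟨_, hQm'⟩, Finset.mem_filter.mpr ⟨Finset.mem_univ _, ?_⟩, rfl⟩
      refine cproj_ne_zero_of_conj ρ T (g := ⟨_, hL⟩) (fun S => Subtype.ext ?_) (fun S => ?_)
        (Finset.mem_filter.mp hQ').2
      · show fromBlocks 1 (A⁻¹ * (S : Matrix (Fin n) (Fin n) F) * (A⁻¹)ᵀ) 0 1 * fromBlocks A⁻¹ 0 0 Aᵀ =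
          fromBlocks A⁻¹ 0 0 Aᵀ * fromBlocks 1 _ 0 1
        simp [fromBlocks_multiply, Matrix.mul_assoc, hAt]
      · rw [hwt, hwt]
        congr 1
        show Matrix.trace (Aᵀ * Q * A * (A⁻¹ * (S : Matrix (Fin n) (Fin n) F) * (A⁻¹)ᵀ)) = _
        rw [show Aᵀ * Q * A * (A⁻¹ * (S : Matrix (Fin n) (Fin n) F) * (A⁻¹)ᵀ) =
          Aᵀ * (Q * (S : Matrix (Fin n) (Fin n) F) * (A⁻¹)ᵀ) by
            simp only [Matrix.mul_assoc]; rw [← Matrix.mul_assoc A, hAC, Matrix.one_mul]]
        rw [Matrix.trace_mul_comm, Matrix.mul_assoc, hAt, Matrix.mul_one])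
    (Finset.mem_image_of_mem _ (Finset.mem_filter.mpr ⟨Finset.mem_univ Q₁, hχ⟩)) (fun h => hχ0 (by
      ext S
      rw [hwt, h, Matrix.zero_mul, Matrix.trace_zero, AddChar.map_zero_eq_one, AddChar.zero_apply]))
  have hdim := card_mul_le ρ hr (Ω'.image wt) 1 (fun χ hχ => by
    obtain ⟨Q, hQ, rfl⟩ := Finset.mem_image.mp hχ
    exact finrank_pos ρ (Finset.mem_filter.mp hQ).2)
  rw [mul_one, Finset.card_image_of_injective _ hinj] at hdim
  exact horb.trans (Finset.card_image_le.trans hdim)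

end Cfsg.Agent.SpOddMinDeg
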