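import Cfsg.Agent.Lib.MinDeg.CharWeights
import Cfsg.Agent.Lib.Forms.Sp
import Cfsg.Agent.S0271
import Cfsg.Agent.S0765

/-!
A lower bound for non-trivial actions of `Sp_{2m}(2)`: the orbits of the radical of a point stabiliser
give quadratic forms on `a^⊥/a`.
-/

set_option autoImplicit false
set_option linter.unusedSectionVars false
set_option linter.style.haveILetI false
set_option maxHeartbeats 1000000

namespace Cfsg.Agent.SpTwo

open Matrix

variable {F : Type*} [Field F] [Fintype F] [DecidableEq F] [CharP F 2] (hF : Fintype.card F = 2)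

local notation "PS" m => (Fin m ⊕ Fin m → F)
local notation "Sp" m => Matrix.symplecticGroup (Fin m) F

include hF in
theorem zero_or_one (x : F) : x = 0 ∨ x = 1 := by
  by_contra! h
  have : ({0, 1, x} : Finset F).card = 3 := by simp [Ne.symm h.1, Ne.symm h.2]
  have h2 := Finset.card_le_univ ({0, 1, x} : Finset F)
  omega

theorem B_comm {m : ℕ} (u v : PS m) : FormsLib.spB m F u v = FormsLib.spB m F v u := by
  rw [← FormsLib.spB_alt.neg u v, CharTwo.neg_eq]

theorem B_self {m : ℕ} (u : PS m) : FormsLib.spB m F u u = 0 := FormsLib.spB_alt u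

theorem exists_partner {m : ℕ} {u : PS m} (hu : u ≠ 0) : ∃ v, FormsLib.spB m F u v = 1 := by
  obtain ⟨v, hv⟩ : ∃ v, FormsLib.spB m F u v ≠ 0 := by
    by_contra! h
    exact hu (FormsLib.spB_nondeg.1 u h)
  exact ⟨(FormsLib.spB m F u v)⁻¹ • v, by rw [map_smul, smul_eq_mul, inv_mul_cancel₀ hv]⟩

include hF in
theorem exists_partner₂ {m : ℕ} {u w : PS m} (hu : u ≠ 0) (hw : w ≠ 0) :
    ∃ v, FormsLib.spB m F u v = 1 ∧ FormsLib.spB m F w v = 1 := by
  obtain ⟨v₁, h1⟩ := exists_partner hu
  obtain ⟨v₂, h2⟩ := exists_partner hw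
  rcases zero_or_one hF (FormsLib.spB m F w v₁) with e1 | e1
  · rcases zero_or_one hF (FormsLib.spB m F u v₂) with e2 | e2
    · exact ⟨v₁ + v₂, by rw [map_add, h1, e2, add_zero], by rw [map_add, h2, e1, zero_add]⟩
    · exact ⟨v₂, e2, h2⟩
  · exact ⟨v₁, h1, e1⟩

/-- The sign of a field element. -/
def ep (x : F) : ℤ := if x = 0 then 1 else -1

include hF in
theorem ep_add (x y : F) : ep (x + y) = ep x * ep y := by
  rcases zero_or_one hF x with rfl | rfl <;> rcases zero_or_one hF y with rfl | rfl <;>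
    simp [ep, CharTwo.add_self_eq_zero]

theorem ep_eq (x : F) : ep x = 2 * (if x = 0 then 1 else 0) - 1 := by
  unfold ep; split_ifs <;> norm_num

include hF in
/-- A quadratic form polarising to the symplectic form has Gauss sum of square `4^k`. -/
theorem gauss_sq {k : ℕ} (f : (PS k) → F)
    (hf : ∀ x y, f (x + y) = f x + f y + FormsLib.spB k F x y) :
    (∑ x, ep (f x)) * (∑ x, ep (f x)) = (4 : ℤ) ^ k := by
  classical
  have hf0 : f 0 = 0 := by
    have h := hf 0 0
    rw [add_zero, map_zero, add_zero] at h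
    exact left_eq_add.mp h
  have hinner : ∀ d : PS k, ∑ x, ep (FormsLib.spB k F x d) = if d = 0 then (4 : ℤ) ^ k else 0 := by
    intro d
    split_ifs with hd
    · subst hd
      simp [ep, Fintype.card_fun, hF, ← two_mul, pow_mul]
    · obtain ⟨e, he⟩ := exists_partner hd
      have h : ∑ x, ep (FormsLib.spB k F x d) = -∑ x, ep (FormsLib.spB k F x d) := by
        conv_lhs => rw [← Equiv.sum_comp (Equiv.addRight e)]
        rw [← Finset.sum_neg_distrib]
        refine Finset.sum_congr rfl fun x _ => ?_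
        rw [Equiv.coe_addRight, map_add, LinearMap.add_apply, B_comm e d, he, ep_add hF]
        simp [ep]
      omega
  calc (∑ x, ep (f x)) * (∑ x, ep (f x)) = ∑ x, ∑ d, ep (f x) * ep (f (x + d)) := by
        rw [Finset.sum_mul]
        refine Finset.sum_congr rfl fun x _ => ?_
        rw [Finset.mul_sum]
        exact (Equiv.sum_comp (Equiv.addLeft x) _).symm
    _ = ∑ x, ∑ d, ep (f d) * ep (FormsLib.spB k F x d) := by
        refine Finset.sum_congr rfl fun x _ => Finset.sum_congr rfl fun d _ => ?_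
        rw [← ep_add hF, ← ep_add hF, hf, ← add_assoc, ← add_assoc, CharTwo.add_self_eq_zero, zero_add]
    _ = ∑ d, ep (f d) * ∑ x, ep (FormsLib.spB k F x d) := by
        rw [Finset.sum_comm]
        simp only [Finset.mul_sum]
    _ = (4 : ℤ) ^ k := by
        simp only [hinner, mul_ite, mul_zero, Finset.sum_ite_eq', Finset.mem_univ, if_true, hf0]
        simp [ep]

include hF in
theorem sum_ep_eq {k : ℕ} (f : (PS k) → F) :
    ∑ x, ep (f x) = 2 * ((Finset.univ.filter fun x => f x = 0).card : ℤ) - (4 : ℤ) ^ k := by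
  classical
  simp only [ep_eq, Finset.sum_sub_distrib, ← Finset.mul_sum, Finset.sum_boole]
  simp [Fintype.card_fun, hF, ← two_mul, pow_mul]

include hF in
/-- Number of zeros of a quadratic form: at least that of minus type. -/
theorem zeros_ge {k : ℕ} (f : (PS k) → F)
    (hf : ∀ x y, f (x + y) = f x + f y + FormsLib.spB k F x y) :
    4 ^ k ≤ 2 * (Finset.univ.filter fun x => f x = 0).card + 2 ^ k := by
  classical
  have h := gauss_sq hF f hf
  have h4 : (4 : ℤ) ^ k = ((2 : ℤ) ^ k) ^ 2 := by rw [← pow_mul, mul_comm, pow_mul]; norm_num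
  rw [h4, ← sq] at h
  have hs := sum_ep_eq hF f
  rcases sq_eq_sq_iff_eq_or_eq_neg.mp h with h1 | h1 <;> rw [h1] at hs <;> zify <;>
    nlinarith [pow_pos (show (0 : ℤ) < 2 by norm_num) k]

/-- The transvection at `v`. -/
noncomputable def tv {m : ℕ} (v : PS m) : Sp m := ⟨_, FormsLib.transvection_mem_symplectic v 1⟩

/-- The action of a matrix on a vector. -/
def ap {m : ℕ} (g : Sp m) (x : PS m) : PS m := (g : Matrix (Fin m ⊕ Fin m) (Fin m ⊕ Fin m) F) *ᵥ x

theorem tv_ap {m : ℕ} (v x : PS m) : ap (tv v) x = x + FormsLib.spB m F x v • v := by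
  rw [ap, tv, Matrix.add_mulVec, Matrix.one_mulVec, one_smul, Matrix.vecMulVec_mulVec, op_smul_eq_smul,
    FormsLib.spB_apply, dotProduct_comm x]

theorem ap_mul {m : ℕ} (g h : Sp m) (x : PS m) : ap (g * h) x = ap g (ap h x) :=
  (Matrix.mulVec_mulVec _ _ _).symm

theorem ap_one {m : ℕ} (x : PS m) : ap (1 : Sp m) x = x := Matrix.one_mulVec x

theorem ap_inv_ap {m : ℕ} (g : Sp m) (x : PS m) : ap g (ap g⁻¹ x) = x := by
  rw [← ap_mul, mul_inv_cancel, ap_one]

theorem ext_ap {m : ℕ} {g h : Sp m} (H : ∀ x, ap g x = ap h x) : g = h :=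
  Subtype.ext (Matrix.toLin'.injective (LinearMap.ext fun x => by
    rw [Matrix.toLin'_apply, Matrix.toLin'_apply]; exact H x))

theorem ap_add {m : ℕ} (g : Sp m) (x y : PS m) : ap g (x + y) = ap g x + ap g y := Matrix.mulVec_add _ _ _

theorem ap_smul {m : ℕ} (g : Sp m) (c : F) (x : PS m) : ap g (c • x) = c • ap g x := Matrix.mulVec_smul _ _ _

theorem B_ap {m : ℕ} (g : Sp m) (x y : PS m) :
    FormsLib.spB m F (ap g x) (ap g y) = FormsLib.spB m F x y :=
  (FormsLib.mem_symplectic_iff _).1 g.2 x y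

theorem tv_zero {m : ℕ} : tv (0 : PS m) = 1 :=
  ext_ap fun x => by rw [tv_ap, smul_zero, add_zero, ap_one]

theorem tv_conj {m : ℕ} (g : Sp m) (v : PS m) : g * tv v * g⁻¹ = tv (ap g v) :=
  ext_ap fun x => by
    rw [ap_mul, ap_mul, tv_ap, ap_add, ap_inv_ap, ap_smul, tv_ap]
    congr 2
    conv_rhs => rw [← ap_inv_ap g x, B_ap]

theorem tv_mul_self {m : ℕ} (v : PS m) : tv v * tv v = 1 :=
  ext_ap fun x => by
    rw [ap_mul, tv_ap v x, tv_ap, map_add, map_smul, LinearMap.add_apply, LinearMap.smul_apply, B_self,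
      smul_zero, add_zero, add_assoc, ← add_smul, CharTwo.add_self_eq_zero, zero_smul, add_zero, ap_one]

theorem tv_commute {m : ℕ} {u v : PS m} (h : FormsLib.spB m F u v = 0) : Commute (tv u) (tv v) :=
  ext_ap fun x => by
    simp only [ap_mul, tv_ap, map_add, map_smul, LinearMap.add_apply, LinearMap.smul_apply, B_comm v u, h,
      smul_zero, add_zero]
    abel

theorem tv_sum {m : ℕ} {u v : PS m} (h : FormsLib.spB m F u v = 1) :
    tv u * tv v * (tv u)⁻¹ = tv (u + v) := by
  rw [tv_conj, tv_ap, B_comm v u, h, one_smul, add_comm]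

/-- The elements of the radical at `a`. -/
noncomputable def yy {m : ℕ} (a c : PS m) : Sp m := tv a * tv c * tv (a + c)

theorem yy_ap {m : ℕ} {a c : PS m} (h : FormsLib.spB m F a c = 0) (x : PS m) :
    ap (yy a c) x = x + FormsLib.spB m F x a • c + FormsLib.spB m F x c • a := by
  have h2 : (2 : F) = 0 := CharTwo.two_eq_zero
  funext i
  simp only [yy, ap_mul, tv_ap, map_add, map_smul, LinearMap.add_apply, LinearMap.smul_apply, B_self,
    B_comm c a, h, smul_zero, add_zero, smul_eq_mul, Pi.add_apply, Pi.smul_apply]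
  linear_combination (FormsLib.spB m F x a * a i + FormsLib.spB m F x c * c i) * h2

theorem yy_self {m : ℕ} (a : PS m) : yy a a = 1 := by
  rw [yy, tv_mul_self, one_mul, show a + a = 0 from funext fun i => CharTwo.add_self_eq_zero _, tv_zero]

theorem yy_conj {m : ℕ} (g : Sp m) (a c : PS m) : g * yy a c * g⁻¹ = yy (ap g a) (ap g c) := by
  rw [yy, yy, ← ap_add, ← tv_conj, ← tv_conj, ← tv_conj]
  group

include hF in
theorem yy_mul {m : ℕ} {a c d : PS m} (hc : FormsLib.spB m F a c = 0) (hd : FormsLib.spB m F a d = 0) :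
    yy a c * yy a d = yy a (c + d) * (if FormsLib.spB m F c d = 0 then 1 else tv a) := by
  have hcd : FormsLib.spB m F a (c + d) = 0 := by rw [map_add, hc, hd, add_zero]
  refine ext_ap fun x => ?_
  rw [ap_mul, yy_ap hd, yy_ap hc, ap_mul]
  rcases zero_or_one hF (FormsLib.spB m F c d) with h | h
  · rw [if_pos h, ap_one, yy_ap hcd]
    funext i
    simp only [map_add, map_smul, LinearMap.add_apply, LinearMap.smul_apply, B_self, B_comm d a, hd, hc,
      B_comm d c, h, smul_zero, add_zero, smul_eq_mul, Pi.add_apply, Pi.smul_apply]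
    ring
  · rw [if_neg (by rw [h]; exact one_ne_zero), tv_ap, yy_ap hcd]
    funext i
    simp only [map_add, map_smul, LinearMap.add_apply, LinearMap.smul_apply, B_self, B_comm d a, hd, hc,
      B_comm d c, h, smul_zero, add_zero, smul_eq_mul, Pi.add_apply, Pi.smul_apply, mul_one]
    ring

include hF in
theorem yy_commute_tv {m : ℕ} {a c : PS m} (h : FormsLib.spB m F a c = 0) : Commute (tv a) (yy a c) := by
  have h2 : FormsLib.spB m F a (a + c) = 0 := by rw [map_add, B_self, h, add_zero]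
  exact ((Commute.refl _).mul_right (tv_commute h)).mul_right (tv_commute h2)

variable {m : ℕ} {Ω : Type*} [MulAction (Matrix.symplecticGroup (Fin m) F) Ω]

theorem tv_smul_smul (v : PS m) (p : Ω) : tv v • tv v • p = p := by
  rw [smul_smul, tv_mul_self, one_smul]

include hF in
/-- An element all of whose radical orbits are short cannot exist without a moved fixed point. -/
theorem contradiction (hm : 3 ≤ m)
    (H1 : ∀ (a c : PS m) (p : Ω), FormsLib.spB m F a c = 0 → tv a • p = p → yy a c • p = p)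
    (H2 : ∀ (a c : PS m) (p : Ω), FormsLib.spB m F a c = 0 → yy a c • p = p ∨ yy a c • p = tv a • p)
    (p : Ω) (u₀ : PS m) (hu₀ : tv u₀ • p ≠ p) : False := by
  classical
  have hu₀0 : u₀ ≠ 0 := fun h => hu₀ (by rw [h, tv_zero, one_smul])
  -- fixed points of transvections are pairwise orthogonal
  have horth : ∀ u v : PS m, tv u • p = p → tv v • p = p → FormsLib.spB m F u v = 0 := by
    intro u v hu hv
    rcases zero_or_one hF (FormsLib.spB m F u v) with h | h
    · exact h
    exfalso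
    refine hu₀ ?_
    have hu0 : u ≠ 0 := fun e => one_ne_zero (h.symm.trans (by rw [e]; simp))
    have hS : ∀ x, tv x • p = p → tv u • p = p → FormsLib.spB m F u x = 0 → yy u x • p = p :=
      fun x _ h1 h2 => H1 u x p h2 h1
    have h1 : ∀ x, FormsLib.spB m F u x = 1 → tv x • p = p := by
      intro x hx
      set d := x + v with hd
      have hud : FormsLib.spB m F u d = 0 := by rw [hd, map_add, hx, h, CharTwo.add_self_eq_zero]
      have hyd : yy u d • p = p := H1 u d p hud hu
      have e1 : tv (ap (yy u d) v) • p = p := by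
        rw [← tv_conj, mul_smul, mul_smul, inv_smul_eq_iff.mpr hyd.symm, hv, hyd]
      rw [yy_ap hud, B_comm v u, h, one_smul] at e1
      rcases zero_or_one hF (FormsLib.spB m F v d) with e | e
      · rw [e, zero_smul, add_zero, show v + d = x by rw [hd, add_left_comm]; funext i; simp [CharTwo.add_self_eq_zero]] at e1
        exact e1
      · rw [e, one_smul, show v + d = x by rw [hd, add_left_comm]; funext i; simp [CharTwo.add_self_eq_zero]] at e1
        have e2 : tv (ap (tv u) (x + u)) • p = p := by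
          rw [← tv_conj, mul_smul, mul_smul, inv_smul_eq_iff.mpr hu.symm, e1, hu]
        rw [tv_ap, map_add, LinearMap.add_apply, B_self, B_comm x u, hx, add_zero, one_smul, add_assoc,
          show u + u = 0 from funext fun i => CharTwo.add_self_eq_zero _, add_zero] at e2
        exact e2
    rcases zero_or_one hF (FormsLib.spB m F u u₀) with e | e
    · obtain ⟨x, hx1, hx2⟩ := exists_partner₂ hF hu0 hu₀0
      have hy : FormsLib.spB m F u (x + u₀) = 1 := by rw [map_add, hx1, e, add_zero]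
      have hxy : FormsLib.spB m F x (x + u₀) = 1 := by rw [map_add, B_self, zero_add, B_comm x u₀, hx2]
      have hts := tv_sum hxy
      rw [show x + (x + u₀) = u₀ by funext i; simp [← add_assoc, CharTwo.add_self_eq_zero]] at hts
      rw [← hts, mul_smul, mul_smul, inv_smul_eq_iff.mpr (h1 x hx1).symm, h1 _ hy, h1 x hx1]
    · exact h1 _ e
  -- the two kinds of lines
  have key : ∀ x v : PS m, FormsLib.spB m F x v = 0 → tv x • p ≠ p →
      (yy x v • p ≠ p → tv v • p = tv x • p ∧ tv v • p ≠ p) := by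
    intro x v hxv hx hy
    have h1 : yy x v • p = tv x • p := (H2 x v p hxv).resolve_left hy
    have hyv : yy v x = yy x v := by
      rw [yy, yy, (tv_commute hxv).eq, add_comm v x]
    have hv : tv v • p ≠ p := fun h => hy (by rw [← hyv]; exact H1 v x p (by rw [B_comm, hxv]) h)
    have h3 : yy v x • p = tv v • p := by
      rcases H2 v x p (by rw [B_comm, hxv]) with h | h
      · exact absurd (by rw [← hyv]; exact h) hy
      · exact h
    exact ⟨by rw [← h3, hyv, h1], hv⟩
  have hq : ∀ c d : PS m, FormsLib.spB m F u₀ c = 0 → FormsLib.spB m F u₀ d = 0 →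
      ((yy u₀ (c + d) • p ≠ p) ↔ ¬ ((yy u₀ c • p ≠ p) ↔ ((yy u₀ d • p ≠ p) ↔ FormsLib.spB m F c d = 0))) := by
    intro c d hc hd
    have hcd : FormsLib.spB m F u₀ (c + d) = 0 := by rw [map_add, hc, hd, add_zero]
    have hmul := congrArg (fun g => g • p) (yy_mul hF hc hd)
    simp only [mul_smul] at hmul
    have hcm : ∀ c' : PS m, FormsLib.spB m F u₀ c' = 0 → yy u₀ c' • tv u₀ • p = tv u₀ • yy u₀ c' • p :=
      fun c' h => by rw [smul_smul, smul_smul, (yy_commute_tv hF h).eq]
    rcases H2 u₀ c p hc with e1 | e1 <;> rcases H2 u₀ d p hd with e2 | e2 <;>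
      rcases zero_or_one hF (FormsLib.spB m F c d) with e3 | e3 <;>
      rcases H2 u₀ (c + d) p hcd with e4 | e4 <;>
      simp only [e2, e3, one_ne_zero, if_true, if_false, hcm _ hc, hcm _ hcd, e1, e4, tv_smul_smul,
        one_smul] at hmul <;>
      simp [e1, e2, e3, e4, hu₀] <;>
      first
        | exact absurd hmul hu₀
        | exact absurd hmul.symm hu₀
        | skip
  -- a vector of value one
  obtain ⟨w₁, hw₁, w₂, hw₂, hw12⟩ : ∃ w₁, FormsLib.spB m F u₀ w₁ = 0 ∧ ∃ w₂, FormsLib.spB m F u₀ w₂ = 0 ∧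
      FormsLib.spB m F w₁ w₂ = 1 := by
    obtain ⟨g, hg⟩ := S0271.result m (Pi.single (Sum.inr ⟨0, by omega⟩) (1 : F)) u₀ (by simp) hu₀0
    have hg' : u₀ = ap g (Pi.single (Sum.inr ⟨0, by omega⟩) (1 : F)) := hg.symm
    refine ⟨ap g (Pi.single (Sum.inr ⟨1, by omega⟩) (1 : F)), ?_, ap g (Pi.single (Sum.inl ⟨1, by omega⟩) (1 : F)), ?_, ?_⟩ <;>
      simp only [hg', B_ap] <;> simp only [FormsLib.spB_expand] <;>
      simp [Pi.single_apply, Fin.ext_iff, CharTwo.neg_eq, CharTwo.sub_eq_add, apply_ite, Finset.sum_ite_eq'] <;>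
      first
        | exact Finset.sum_eq_zero fun x _ => by split_ifs <;> simp_all
        | (rw [Finset.sum_eq_single (⟨1, by omega⟩ : Fin m) (fun x _ hx => by simp [Fin.ext_iff] at hx; simp [hx]) (by simp)]; simp)
        | skip
  obtain ⟨c, hc, hcy⟩ : ∃ c, FormsLib.spB m F u₀ c = 0 ∧ yy u₀ c • p ≠ p := by
    by_contra! h
    have := hq w₁ w₂ hw₁ hw₂
    simp [h _ hw₁, h _ hw₂, h _ (show FormsLib.spB m F u₀ (w₁ + w₂) = 0 by rw [map_add, hw₁, hw₂, add_zero]),
      hw12] at this
  -- two directions orthogonal to `u₀` and `c`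
  obtain ⟨hcu, hcS⟩ := key u₀ c hc hu₀ hcy
  have hc0 : c ≠ 0 := fun h => hcS (by rw [h, tv_zero, one_smul])
  obtain ⟨d₁, hd₁, hd₁c, d₂, hd₂, hd₂c, hd12⟩ : ∃ d₁, FormsLib.spB m F u₀ d₁ = 0 ∧ FormsLib.spB m F c d₁ = 0 ∧
      ∃ d₂, FormsLib.spB m F u₀ d₂ = 0 ∧ FormsLib.spB m F c d₂ = 0 ∧ FormsLib.spB m F d₁ d₂ = 1 := by
    have hcu0 : c ≠ u₀ := fun h => hcy (by rw [h, yy_self, one_smul])
    have hsum : u₀ + c ≠ 0 := fun h => hcu0 (funext fun i => by
      have := congrFun h i
      rw [Pi.add_apply, Pi.zero_apply] at this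
      rw [← CharTwo.sub_eq_add, sub_eq_zero] at this
      exact this.symm)
    obtain ⟨b₁, hb₁, hb₁'⟩ : ∃ b, FormsLib.spB m F u₀ b = 1 ∧ FormsLib.spB m F c b = 0 := by
      obtain ⟨v, hv1, hv2⟩ := exists_partner₂ hF hu₀0 hsum
      rw [map_add, LinearMap.add_apply, hv1, add_eq_left] at hv2
      exact ⟨v, hv1, hv2⟩
    obtain ⟨b₂, hb₂, hb₂'⟩ : ∃ b, FormsLib.spB m F c b = 1 ∧ FormsLib.spB m F u₀ b = 0 := by
      obtain ⟨v, hv1, hv2⟩ := exists_partner₂ hF hc0 hsum
      rw [map_add, LinearMap.add_apply, hv1, add_eq_right] at hv2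
      exact ⟨v, hv1, hv2⟩
    let pr : (PS m) →ₗ[F] F × F := (FormsLib.spB m F u₀).prod (FormsLib.spB m F c)
    obtain ⟨d₁, hd₁, hd₁'⟩ : ∃ d, (FormsLib.spB m F u₀ d = 0 ∧ FormsLib.spB m F c d = 0) ∧
        d ∉ Submodule.span F ({u₀, c} : Set (PS m)) := by
      by_contra! h
      have hle : LinearMap.ker pr ≤ Submodule.span F ({u₀, c} : Set (PS m)) := fun d hd => by
        rw [LinearMap.mem_ker] at hd
        exact h d ⟨congrArg Prod.fst hd, congrArg Prod.snd hd⟩
      have h1 := LinearMap.finrank_range_add_finrank_ker pr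
      have h2 : Module.finrank F (LinearMap.range pr) ≤ 2 := by
        refine (Submodule.finrank_le _).trans (le_of_eq ?_)
        simp
      have h3 := Submodule.finrank_mono hle
      have h4 : Module.finrank F (Submodule.span F ({u₀, c} : Set (PS m))) ≤ 2 := by
        refine (finrank_span_le_card _).trans ?_
        simp [Set.toFinset_insert]
        exact Finset.card_le_two
      rw [Module.finrank_fintype_fun_eq_card, Fintype.card_sum, Fintype.card_fin] at h1
      omega
    obtain ⟨x, hx⟩ : ∃ x, FormsLib.spB m F d₁ x ≠ FormsLib.spB m F u₀ x * FormsLib.spB m F b₁ d₁ +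
        FormsLib.spB m F c x * FormsLib.spB m F b₂ d₁ := by
      by_contra! h
      refine hd₁' ?_
      have : d₁ = FormsLib.spB m F b₁ d₁ • u₀ + FormsLib.spB m F b₂ d₁ • c := by
        refine sub_eq_zero.mp (FormsLib.spB_nondeg.1 _ fun x => ?_)
        rw [map_sub, map_add, map_smul, map_smul, LinearMap.sub_apply, LinearMap.add_apply,
          LinearMap.smul_apply, LinearMap.smul_apply, h x, smul_eq_mul, smul_eq_mul]
        ring
      rw [this]
      exact add_mem (Submodule.smul_mem _ _ (Submodule.subset_span (Or.inl rfl)))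
        (Submodule.smul_mem _ _ (Submodule.subset_span (Or.inr rfl)))
    set d₂ := x + FormsLib.spB m F u₀ x • b₁ + FormsLib.spB m F c x • b₂ with hd₂'
    refine ⟨d₁, hd₁.1, hd₁.2, d₂, ?_, ?_, ?_⟩
    · simp [hd₂', hb₁, hb₂', CharTwo.add_self_eq_zero]
    · simp [hd₂', hb₁', hb₂, CharTwo.add_self_eq_zero]
    · rcases zero_or_one hF (FormsLib.spB m F d₁ d₂) with e | e
      · exfalso
        refine hx ?_
        simp only [hd₂', map_add, map_smul, smul_eq_mul, B_comm d₁ b₁, B_comm d₁ b₂] at e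
        linear_combination e - (FormsLib.spB m F u₀ x * FormsLib.spB m F b₁ d₁ +
          FormsLib.spB m F c x * FormsLib.spB m F b₂ d₁) * (CharTwo.two_eq_zero : (2 : F) = 0)
      · exact e
  -- normalised directions
  have hadj : ∀ d, FormsLib.spB m F u₀ d = 0 → FormsLib.spB m F c d = 0 →
      ∃ e, (e = d ∨ e = d + c) ∧ yy u₀ e • p = p := by
    intro d hd hdc
    by_cases h : yy u₀ d • p = p
    · exact ⟨d, Or.inl rfl, h⟩
    refine ⟨d + c, Or.inr rfl, ?_⟩
    have := hq d c hd hc
    simp [h, hcy, B_comm d c, hdc] at this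
    exact this
  obtain ⟨e₁, he₁, hye₁⟩ := hadj d₁ hd₁ hd₁c
  obtain ⟨e₂, he₂, hye₂⟩ := hadj d₂ hd₂ hd₂c
  have hB : ∀ e d, (e = d ∨ e = d + c) → FormsLib.spB m F u₀ d = 0 → FormsLib.spB m F c d = 0 →
      FormsLib.spB m F u₀ e = 0 ∧ FormsLib.spB m F c e = 0 := by
    rintro e d (rfl | rfl) h1 h2
    · exact ⟨h1, h2⟩
    · exact ⟨by rw [map_add, h1, hc, add_zero], by rw [map_add, h2, B_self, add_zero]⟩
  obtain ⟨he₁u, he₁c⟩ := hB e₁ d₁ he₁ hd₁ hd₁c
  obtain ⟨he₂u, he₂c⟩ := hB e₂ d₂ he₂ hd₂ hd₂c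
  have he12 : FormsLib.spB m F e₁ e₂ = 1 := by
    rcases he₁ with rfl | rfl <;> rcases he₂ with rfl | rfl <;>
      simp [hd12, hd₂c, hd₁c, B_comm _ c, B_self]
  obtain ⟨d, hdu, hdc, hyd, hdS, hdS'⟩ : ∃ d, FormsLib.spB m F u₀ d = 0 ∧ FormsLib.spB m F c d = 0 ∧
      yy u₀ d • p = p ∧ tv d • p ≠ p ∧ tv (u₀ + d) • p ≠ p := by
    by_contra! h
    have hrep : ∀ e, FormsLib.spB m F u₀ e = 0 → FormsLib.spB m F c e = 0 → yy u₀ e • p = p →
        ∃ e', (e' = e ∨ e' = u₀ + e) ∧ tv e' • p = p := fun e h1 h2 h3 => by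
      by_cases h4 : tv e • p = p
      · exact ⟨e, Or.inl rfl, h4⟩
      · exact ⟨u₀ + e, Or.inr rfl, h e h1 h2 h3 h4⟩
    obtain ⟨f₁, hf₁, hf₁p⟩ := hrep e₁ he₁u he₁c hye₁
    obtain ⟨f₂, hf₂, hf₂p⟩ := hrep e₂ he₂u he₂c hye₂
    have := horth _ _ hf₁p hf₂p
    rcases hf₁ with rfl | rfl <;> rcases hf₂ with rfl | rfl <;>
      simp [he12, he₂u, he₁u, B_comm _ u₀, B_self] at this
  -- the plane
  have hcd : yy u₀ (c + d) • p ≠ p := by
    have := hq c d hc hdu
    simpa [hcy, hyd, hdc] using this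
  obtain ⟨hcdu, -⟩ := key u₀ (c + d) (by rw [map_add, hc, hdu, add_zero]) hu₀ hcd
  have hline : yy c d • p = tv d • p := by
    rw [yy, mul_smul, mul_smul, hcdu, ← hcu, smul_smul (tv d), (tv_commute (show FormsLib.spB m F d c = 0 by
      rw [B_comm, hdc])).eq, mul_smul, tv_smul_smul]
  have hd' := key c d hdc hcS (by rw [hline]; exact hdS)
  have hfinal : yy u₀ d • p ≠ p := by
    rcases H2 u₀ d p hdu with h | h
    · exfalso
      have h1 : tv (u₀ + d) • p = p := by
        have e1 : yy u₀ d = tv (u₀ + d) * (tv u₀ * tv d) := by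
          rw [yy]
          refine ((Commute.mul_left (tv_commute ?_) (tv_commute ?_))).eq
          · rw [map_add, B_self, hdu, add_zero]
          · rw [map_add, B_self, B_comm d u₀, hdu, add_zero]
        rw [e1, mul_smul, mul_smul, hd'.1, hcu, tv_smul_smul] at h
        exact h
      exact hdS' h1
    · rw [h]; exact hu₀
  exact hfinal hyd

end Cfsg.Agent.SpTwo
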