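import Cfsg.Agent.Lib.MinDeg.SpTwoAction

/-!
Every non-trivial action of `Sp_{2m}(2)`, `m ≥ 3`, has at least `2^(m-1)(2^m - 1)` points, and an orbit on
quadratic forms of minus type has exactly this size.
-/

set_option autoImplicit false
set_option linter.unusedSectionVars false
set_option linter.style.haveILetI false
set_option maxHeartbeats 1000000
set_option synthInstance.maxHeartbeats 400000

namespace Cfsg.Agent.SpTwo

open Matrix

variable {F : Type*} [Field F] [Fintype F] [DecidableEq F] [CharP F 2] (hF : Fintype.card F = 2)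

local notation "PS" m => (Fin m ⊕ Fin m → F)
local notation "Sp" m => Matrix.symplecticGroup (Fin m) F

include hF in
/-- A non-trivial translation action with enough symmetry has at least `4^k` points. -/
theorem card_ge {k : ℕ} {X : Type*} [Fintype X] [Nonempty X] [DecidableEq X] (act : (PS k) → Equiv.Perm X)
    (hadd : ∀ u v, act (u + v) = act u * act v)
    (hsym : ∀ v, ∃ π : Equiv.Perm X, ∀ w, act (ap (tv v) w) * π = π * act w)
    (hne : ∃ w, act w ≠ 1) : 4 ^ k ≤ Fintype.card X := by
  classical
  let ρ : Representation ℂ (Equiv.Perm X) (X → ℂ) :=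
    { toFun := fun σ => LinearMap.funLeft ℂ ℂ σ.symm
      map_one' := rfl
      map_mul' := fun σ τ => rfl }
  have hρ : ∀ (σ : Equiv.Perm X) (f : X → ℂ) (x : X), ρ σ f x = f (σ.symm x) := fun σ f x => rfl
  let wt : (PS k) → AddChar (PS k) ℂ := fun c =>
    { toFun := fun d => (ep (FormsLib.spB k F c d) : ℂ)
      map_zero_eq_one' := by simp [ep]
      map_add_eq_mul' := fun a b => by rw [map_add, ep_add hF]; push_cast; rfl }
  have hwt : ∀ c d, wt c d = (ep (FormsLib.spB k F c d) : ℂ) := fun c d => rfl
  have hinj : Function.Injective wt := by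
    intro c c' h
    by_contra hne'
    obtain ⟨d, hd⟩ := exists_partner (sub_ne_zero.mpr hne')
    have h1 := DFunLike.congr_fun h d
    rw [hwt, hwt, Int.cast_inj] at h1
    rw [map_sub, LinearMap.sub_apply, sub_eq_iff_eq_add] at hd
    rw [hd, ep_add hF] at h1
    rcases zero_or_one hF (FormsLib.spB k F c' d) with e | e <;> simp [e, ep] at h1
  have hsurj : Function.Surjective wt :=
    ((Fintype.bijective_iff_injective_and_card _).mpr ⟨hinj, (AddChar.card_eq).symm⟩).2
  obtain ⟨w₀, hw₀⟩ := hne
  have hact : ρ (act w₀) ≠ 1 := by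
    intro h
    refine hw₀ (Equiv.ext fun x => ?_)
    show act w₀ x = x
    have h1 := congrFun (LinearMap.congr_fun h (Pi.single x (1 : ℂ))) (act w₀ x)
    rw [hρ, Equiv.symm_apply_apply, Pi.single_eq_same, Module.End.one_apply] at h1
    by_contra hne'
    rw [Pi.single_eq_of_ne hne'] at h1
    exact one_ne_zero h1
  obtain ⟨χ, hχ0, hχ⟩ := CharWt.exists_weight ρ hadd hact
  obtain ⟨c₁, rfl⟩ := hsurj χ
  have hc₁ : c₁ ≠ 0 := fun h => hχ0 (by
    ext d; rw [hwt, h, map_zero, LinearMap.zero_apply]; simp [ep])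
  have hstep : ∀ c v, CharWt.cproj ρ act (wt c) ≠ 0 → CharWt.cproj ρ act (wt (ap (tv v) c)) ≠ 0 := by
    intro c v h
    obtain ⟨π, hπ⟩ := hsym v
    have hinv : ∀ w, ap (tv v) (ap (tv v) w) = w := fun w => by rw [← ap_mul, tv_mul_self, ap_one]
    exact CharWt.cproj_ne_zero_of_conj ρ
      ({ toFun := ap (tv v), invFun := ap (tv v), left_inv := hinv, right_inv := hinv,
         map_add' := ap_add _ } : (PS k) ≃+ (PS k))
      hπ (fun w => by
        show wt (ap (tv v) c) (ap (tv v) w) = _
        rw [hwt, hwt, B_ap]) h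
  have hjump : ∀ c c', CharWt.cproj ρ act (wt c) ≠ 0 → FormsLib.spB k F c c' = 1 →
      CharWt.cproj ρ act (wt c') ≠ 0 := by
    intro c c' h hcc
    have e : ap (tv (c + c')) c = c' := by
      rw [tv_ap, map_add, B_self, hcc, zero_add, one_smul, ← add_assoc,
        show c + c = 0 from funext fun i => CharTwo.add_self_eq_zero _, zero_add]
    exact e ▸ hstep c (c + c') h
  have hall : ∀ c, CharWt.cproj ρ act (wt c) ≠ 0 := by
    intro c
    rcases eq_or_ne c 0 with rfl | hc
    · intro h0
      have hfix : ∀ w, ρ (act w) (fun _ => (1 : ℂ)) = fun _ => 1 := fun w => rfl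
      have h1 := LinearMap.congr_fun h0 (fun _ => (1 : ℂ))
      simp only [CharWt.cproj, LinearMap.smul_apply, LinearMap.sum_apply, hfix, hwt, map_zero,
        LinearMap.zero_apply, Finset.sum_const, Finset.card_univ] at h1
      have h2 := congrFun h1 (Classical.arbitrary X)
      simp [ep] at h2
    · obtain ⟨e, he1, he2⟩ := exists_partner₂ hF hc₁ hc
      exact hjump e c (hjump c₁ e hχ he1) (by rw [B_comm]; exact he2)
  have h := CharWt.card_mul_le ρ hadd ((Finset.univ : Finset (PS k)).image wt) 1 (fun χ' hχ' => by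
    obtain ⟨c, -, rfl⟩ := Finset.mem_image.mp hχ'
    exact CharWt.finrank_pos ρ (hall c))
  rw [Finset.card_image_of_injective _ hinj, Finset.card_univ, Fintype.card_fun, hF, Fintype.card_sum,
    Fintype.card_fin, mul_one, Module.finrank_fintype_fun_eq_card, ← two_mul, pow_mul] at h
  norm_num at h
  exact h

variable {k : ℕ}

/-- The embedding of `a^⊥/a`. -/
def iota (w : PS k) : PS (k + 1) :=
  Sum.elim (Fin.cons 0 (w ∘ Sum.inl)) (Fin.cons 0 (w ∘ Sum.inr))

/-- The base point. -/
def a0 : PS (k + 1) := Pi.single (Sum.inr 0) 1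

theorem a0_ne : (a0 : PS (k + 1)) ≠ 0 := by simp [a0]

theorem iota_add (u v : PS k) : iota (u + v) = iota u + iota v := by
  funext i
  rcases i with i | i <;> refine Fin.cases ?_ (fun j => ?_) i <;> simp [iota]

theorem iota_smul (c : F) (u : PS k) : iota (c • u) = c • iota u := by
  funext i
  rcases i with i | i <;> refine Fin.cases ?_ (fun j => ?_) i <;> simp [iota]

theorem B_iota (u v : PS k) : FormsLib.spB (k + 1) F (iota u) (iota v) = FormsLib.spB k F u v := by
  rw [FormsLib.spB_expand, FormsLib.spB_expand, Fin.sum_univ_succ]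
  simp [iota]

theorem B_a0 (x : PS (k + 1)) : FormsLib.spB (k + 1) F a0 x = x (Sum.inl 0) := by
  rw [FormsLib.spB_expand, Fin.sum_univ_succ]
  simp [a0, Pi.single_apply]

theorem B_a0_iota (u : PS k) : FormsLib.spB (k + 1) F a0 (iota u) = 0 := by
  rw [B_a0]; simp [iota]

theorem tv_a0_iota (v : PS k) : ap (tv (iota v)) a0 = a0 := by
  rw [tv_ap, B_a0_iota, zero_smul, add_zero]

theorem tv_iota (v w : PS k) : ap (tv (iota v)) (iota w) = iota (ap (tv v) w) := by
  rw [tv_ap, tv_ap, B_iota, iota_add, iota_smul]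

/-- The radical element of a vector of `a^⊥/a`. -/
noncomputable def rr (w : PS k) : Sp (k + 1) := yy a0 (iota w)

variable {Ω : Type*} [MulAction (Matrix.symplecticGroup (Fin (k + 1)) F) Ω]

include hF in
theorem rr_smul_add (u v : PS k) (p : Ω) :
    rr u • rr v • p = rr (u + v) • p ∨ rr u • rr v • p = rr (u + v) • tv (a0 : PS (k + 1)) • p := by
  rw [smul_smul, rr, rr, rr, yy_mul hF (B_a0_iota u) (B_a0_iota v), ← iota_add]
  split_ifs
  · exact Or.inl (by rw [mul_one])
  · exact Or.inr (by rw [mul_smul])

include hF in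
theorem rr_tv (u : PS k) (p : Ω) : rr u • tv (a0 : PS (k + 1)) • p = tv (a0 : PS (k + 1)) • rr u • p := by
  rw [smul_smul, smul_smul, rr, (yy_commute_tv hF (B_a0_iota u)).eq]

theorem conj_rr (v w : PS k) (p : Ω) :
    tv (iota v) • rr w • p = rr (ap (tv v) w) • tv (iota v) • p := by
  rw [smul_smul, smul_smul]
  congr 1
  rw [rr, rr, ← tv_iota, ← mul_inv_eq_iff_eq_mul, yy_conj, tv_a0_iota]

theorem tv_iota_a0 (v : PS k) (p : Ω) : tv (a0 : PS (k + 1)) • tv (iota v) • p = tv (iota v) • tv (a0 : PS (k + 1)) • p := by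
  rw [smul_smul, smul_smul, (tv_commute (B_a0_iota v)).eq]

theorem rr_zero : rr (0 : PS k) = 1 := by
  rw [rr, show iota (0 : PS k) = 0 by funext i; rcases i with i | i <;> refine Fin.cases ?_ (fun j => ?_) i <;> simp [iota],
    yy, tv_zero, mul_one, add_zero, tv_mul_self]

include hF in
theorem rr_of_perp {c : PS (k + 1)} (hc : FormsLib.spB (k + 1) F a0 c = 0) :
    ∃ w : PS k, yy a0 c = rr w := by
  refine ⟨Sum.elim (fun i => c (Sum.inl i.succ)) (fun i => c (Sum.inr i.succ)), ?_⟩
  rw [B_a0] at hc
  set w : PS k := Sum.elim (fun i => c (Sum.inl i.succ)) (fun i => c (Sum.inr i.succ)) with hw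
  have hdec : c = iota w + c (Sum.inr 0) • a0 := by
    funext i
    rcases i with i | i <;> refine Fin.cases ?_ (fun j => ?_) i <;> simp [iota, a0, hw, hc]
  rcases zero_or_one hF (c (Sum.inr 0)) with e | e
  · conv_lhs => rw [hdec, e, zero_smul, add_zero]
    rfl
  · conv_lhs => rw [hdec, e, one_smul]
    have := yy_mul hF (a := a0) (B_a0_iota w) (B_self a0)
    rw [yy_self, mul_one, if_pos (by rw [B_comm, B_a0_iota]), mul_one] at this
    exact this.symm

include hF in
/-- The lower bound for a non-trivial action. -/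
theorem card_action_ge (hk : 2 ≤ k) [Fintype Ω] [DecidableEq Ω]
    (hne : ∃ (g : Sp (k + 1)) (p : Ω), g • p ≠ p) :
    2 ^ k * (2 ^ (k + 1) - 1) ≤ Fintype.card Ω := by
  classical
  have htarget : ∀ a b : ℕ, 4 ^ k ≤ a → 4 ^ k ≤ b + 2 ^ k → a + b ≤ Fintype.card Ω →
      2 ^ k * (2 ^ (k + 1) - 1) ≤ Fintype.card Ω := by
    intro a b h1 h2 h3
    have e : (4 : ℕ) ^ k = 2 ^ k * 2 ^ k := by rw [← mul_pow]; norm_num
    rw [Nat.mul_sub, mul_one, pow_succ, ← mul_assoc, ← e]
    omega
  have hz : ∀ {a : PS (k + 1)}, a ≠ 0 → ∃ g : Sp (k + 1), ap g a = a0 := fun ha =>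
    S0271.result _ _ _ ha a0_ne
  obtain ⟨p₁, hp₁⟩ : ∃ p : Ω, tv (a0 : PS (k + 1)) • p ≠ p := by
    by_contra! h
    obtain ⟨g, p, hg⟩ := hne
    refine hg ?_
    let S : Subgroup (Sp (k + 1)) :=
      { carrier := {g | ∀ p : Ω, g • p = p}
        one_mem' := fun p => one_smul _ p
        mul_mem' := fun {a b} ha hb p => by rw [mul_smul, hb, ha]
        inv_mem' := fun {a} ha p => inv_smul_eq_iff.mpr (ha p).symm }
    have : S = ⊤ := by
      rw [eq_top_iff, ← S0765.result (F := F) (k + 1), Subgroup.closure_le]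
      rintro A ⟨w, c, hA⟩
      rcases zero_or_one hF c with rfl | rfl
      · have : A = 1 := Subtype.ext (by rw [hA, Cfsg.sympTransvection, zero_smul, add_zero]; rfl)
        rw [this]; exact S.one_mem
      have hA' : A = tv w := Subtype.ext hA
      intro p
      rcases eq_or_ne w 0 with rfl | hw
      · rw [hA', tv_zero, one_smul]
      · obtain ⟨g, hg⟩ := hz hw
        have e : A = g⁻¹ * tv a0 * g := by rw [hA', ← hg, ← tv_conj]; group
        rw [e, mul_smul, mul_smul, h, inv_smul_smul]
    exact (this ▸ Subgroup.mem_top g : g ∈ S) p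
  set Mv : Finset Ω := Finset.univ.filter fun p => tv (a0 : PS (k + 1)) • p ≠ p with hMv
  have hzMv : ∀ p, p ∈ Mv → tv (a0 : PS (k + 1)) • p ∈ Mv := fun p hp => by
    rw [hMv, Finset.mem_filter] at hp ⊢
    refine ⟨Finset.mem_univ _, fun h => hp.2 ?_⟩
    rw [tv_smul_smul] at h
    exact h.symm
  have hrMv : ∀ (w : PS k) p, p ∈ Mv → rr w • p ∈ Mv := fun w p hp => by
    rw [hMv, Finset.mem_filter] at hp ⊢
    refine ⟨Finset.mem_univ _, fun h => hp.2 ?_⟩
    rw [← rr_tv hF] at h
    exact MulAction.injective _ h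
  set z : Sp (k + 1) := tv (a0 : PS (k + 1)) with hzdef
  have hzC : ∀ (w : PS k) (p : Ω), z • rr w • p = rr w • z • p := fun w p => (rr_tv hF w p).symm
  have hN : Fintype.card {p : Ω // z • p = p} + Mv.card = Fintype.card Ω := by
    rw [Fintype.card_subtype, hMv, ← Finset.card_univ]
    exact Finset.card_filter_add_card_filter_not _
  by_cases hA : ∃ (a c : PS (k + 1)) (p : Ω), FormsLib.spB (k + 1) F a c = 0 ∧ tv a • p ≠ p ∧
      yy a c • p ≠ p ∧ yy a c • p ≠ tv a • p
  · -- long orbits on the moved points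
    obtain ⟨a, c, p, hac, hy0, hy1, hy2⟩ := hA
    have ha : a ≠ 0 := fun h => hy0 (by rw [h, tv_zero, one_smul])
    obtain ⟨g, hg⟩ := hz ha
    have hcg : FormsLib.spB (k + 1) F a0 (ap g c) = 0 := by rw [← hg, B_ap, hac]
    obtain ⟨w, hw⟩ := rr_of_perp hF hcg
    rw [← hg, ← yy_conj] at hw
    have hwq : rr w • g • p = g • yy a c • p := by rw [← hw, mul_smul, mul_smul, inv_smul_smul]
    have hzq : z • g • p = g • tv a • p := by
      rw [hzdef, ← hg, ← tv_conj, mul_smul, mul_smul, inv_smul_smul]
    have hqM : g • p ∈ Mv := by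
      refine Finset.mem_filter.mpr ⟨Finset.mem_univ _, fun h => hy0 (MulAction.injective g ?_)⟩
      show g • tv a • p = g • p
      rw [← hzq]; exact h
    let pr : Ω → Finset Ω := fun p => {p, z • p}
    have hprz : ∀ p, pr (z • p) = pr p := fun p => by
      show ({z • p, z • z • p} : Finset Ω) = {p, z • p}
      rw [hzdef, tv_smul_smul, Finset.pair_comm]
    have himg : ∀ (h : Sp (k + 1)), (∀ x : Ω, z • h • x = h • z • x) →
        ∀ p, (pr p).image (fun x => h • x) = pr (h • p) := fun h hh p => by
      show ({p, z • p} : Finset Ω).image _ = {h • p, z • h • p}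
      rw [Finset.image_insert, Finset.image_singleton, hh]
    let perm : ∀ h : Sp (k + 1), (∀ x : Ω, z • h • x = h • z • x) → Equiv.Perm {s // s ∈ Mv.image pr} :=
      fun h hh => Equiv.ofBijective
        (fun s => ⟨s.1.image (fun x => h • x), by
          obtain ⟨p, hp, hps⟩ := Finset.mem_image.mp s.2
          rw [← hps, himg h hh]
          refine Finset.mem_image_of_mem _ (Finset.mem_filter.mpr ⟨Finset.mem_univ _, fun e => ?_⟩)
          exact (Finset.mem_filter.mp hp).2 (MulAction.injective h ((hh p).symm.trans e))⟩)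
        (Finite.injective_iff_bijective.mp fun s t e => Subtype.ext
          (Finset.image_injective (MulAction.injective h) (congrArg Subtype.val e)))
    have hperm : ∀ (h : Sp (k + 1)) hh (q : Ω) (hq : pr q ∈ Mv.image pr),
        (perm h hh ⟨pr q, hq⟩).1 = pr (h • q) := fun h hh q hq => himg h hh q
    have : Nonempty {s // s ∈ Mv.image pr} := ⟨⟨pr (g • p), Finset.mem_image_of_mem _ hqM⟩⟩
    have hge := card_ge hF (X := {s // s ∈ Mv.image pr}) (fun u => perm (rr u) (hzC u))
      (fun u v => Equiv.ext fun s => by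
        obtain ⟨s, hs⟩ := s
        obtain ⟨q, hq, rfl⟩ := Finset.mem_image.mp hs
        refine Subtype.ext ?_
        show ((pr q).image _) = Finset.image _ ((pr q).image _)
        rw [himg _ (hzC (u + v)), himg _ (hzC v), himg _ (hzC u)]
        rcases rr_smul_add hF u v q with e | e <;> rw [e]
        rw [rr_tv hF, hprz])
      (fun v => ⟨perm (tv (iota v)) (tv_iota_a0 v), fun u => Equiv.ext fun s => by
        obtain ⟨s, hs⟩ := s
        obtain ⟨q, hq, rfl⟩ := Finset.mem_image.mp hs
        refine Subtype.ext ?_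
        show Finset.image _ ((pr q).image _) = Finset.image _ ((pr q).image _)
        rw [himg _ (tv_iota_a0 v), himg _ (hzC _), himg _ (hzC u), himg _ (tv_iota_a0 v), conj_rr]⟩)
      ⟨w, fun h => by
        have h1 := congrArg Subtype.val
          (Equiv.congr_fun h ⟨pr (g • p), Finset.mem_image_of_mem _ hqM⟩)
        rw [hperm _ (hzC w)] at h1
        simp only [Equiv.Perm.coe_one, id_eq] at h1
        have h2 : rr w • g • p ∈ pr (g • p) := h1 ▸ Finset.mem_insert_self _ _
        rw [hwq] at h2
        simp only [pr, Finset.mem_insert, Finset.mem_singleton] at h2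
        rcases h2 with h2 | h2
        · exact hy1 (MulAction.injective g h2)
        · rw [hzq] at h2
          exact hy2 (MulAction.injective g h2)⟩
    rw [Fintype.card_coe] at hge
    have hcard : Mv.card = (Mv.image pr).card * 2 := by
      rw [Finset.card_eq_sum_card_image pr Mv]
      refine Finset.sum_const_nat fun s hs => ?_
      obtain ⟨q, hq, rfl⟩ := Finset.mem_image.mp hs
      have hq' : z • q ≠ q := (Finset.mem_filter.mp hq).2
      have : (Mv.filter fun x => pr x = pr q) = pr q := by
        ext x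
        refine ⟨fun hx => (Finset.mem_filter.mp hx).2 ▸ Finset.mem_insert_self _ _, fun hx => ?_⟩
        simp only [pr, Finset.mem_insert, Finset.mem_singleton] at hx
        rcases hx with rfl | rfl
        · exact Finset.mem_filter.mpr ⟨hq, rfl⟩
        · exact Finset.mem_filter.mpr ⟨hzMv q hq, hprz q⟩
      rw [this]
      exact Finset.card_pair (Ne.symm hq')
    exact htarget (4 ^ k) (4 ^ k) le_rfl (Nat.le_add_right _ _) (by omega)
  push Not at hA
  by_cases hB : ∃ (a c : PS (k + 1)) (p : Ω), FormsLib.spB (k + 1) F a c = 0 ∧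
      tv a • p = p ∧ yy a c • p ≠ p
  · -- a fixed point moved by the radical
    obtain ⟨a, c, p, hac, hy0, hy1⟩ := hB
    have ha : a ≠ 0 := fun h => hy1 (by
      rw [h, yy, tv_zero, one_mul, zero_add, tv_mul_self, one_smul])
    obtain ⟨g, hg⟩ := hz ha
    have hcg : FormsLib.spB (k + 1) F a0 (ap g c) = 0 := by rw [← hg, B_ap, hac]
    obtain ⟨w, hw⟩ := rr_of_perp hF hcg
    rw [← hg, ← yy_conj] at hw
    have hwq : rr w • g • p = g • yy a c • p := by rw [← hw, mul_smul, mul_smul, inv_smul_smul]
    have hqF : z • g • p = g • p := by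
      rw [hzdef, ← hg, ← tv_conj, mul_smul, mul_smul, inv_smul_smul, hy0]
    let perm : ∀ h : Sp (k + 1), (∀ x : Ω, z • h • x = h • z • x) → Equiv.Perm {p : Ω // z • p = p} :=
      fun h hh => (MulAction.toPerm h).subtypePerm fun x => by
        show z • h • x = h • x ↔ z • x = x
        rw [hh]
        exact (MulAction.injective h).eq_iff
    have : Nonempty {p : Ω // z • p = p} := ⟨⟨g • p, hqF⟩⟩
    have hge := card_ge hF (X := {p : Ω // z • p = p}) (fun u => perm (rr u) (hzC u))
      (fun u v => Equiv.ext fun q => by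
        refine Subtype.ext ?_
        show rr (u + v) • q.1 = rr u • rr v • q.1
        rcases rr_smul_add hF u v q.1 with e | e <;> rw [e]
        rw [← hzdef, q.2])
      (fun v => ⟨perm (tv (iota v)) (tv_iota_a0 v), fun u => Equiv.ext fun q => by
        refine Subtype.ext ?_
        exact (conj_rr v u q.1).symm⟩)
      ⟨w, fun h => by
        have h1 : rr w • g • p = g • p := congrArg Subtype.val (Equiv.congr_fun h ⟨g • p, hqF⟩)
        rw [hwq] at h1
        exact hy1 (MulAction.injective g h1)⟩
    -- the quadratic forms of the moved points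
    let fp : Ω → (PS k) → F := fun q u => if rr u • q = q then 0 else 1
    have hshort : ∀ q ∈ Mv, ∀ u : PS k, rr u • q = q ∨ rr u • q = z • q := fun q hq u => by
      by_cases e : rr u • q = q
      · exact Or.inl e
      · exact Or.inr (hA a0 (iota u) q (B_a0_iota u) (Finset.mem_filter.mp hq).2 e)
    have hquad : ∀ q ∈ Mv, ∀ u v, fp q (u + v) = fp q u + fp q v + FormsLib.spB k F u v := by
      intro q hq u v
      have hq' : z • q ≠ q := (Finset.mem_filter.mp hq).2
      have hmul : rr u • rr v • q =
          rr (u + v) • (if FormsLib.spB k F u v = 0 then (1 : Sp (k + 1)) else z) • q := by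
        rw [smul_smul, smul_smul, rr, rr, rr, yy_mul hF (B_a0_iota u) (B_a0_iota v), ← iota_add, B_iota]
      have hzC' : ∀ (w : PS k) (x : Ω), rr w • z • x = z • rr w • x := fun w x => (hzC w x).symm
      have hzz : ∀ x : Ω, z • z • x = x := fun x => tv_smul_smul _ x
      rcases hshort q hq u with e1 | e1 <;> rcases hshort q hq v with e2 | e2 <;>
        rcases hshort q hq (u + v) with e3 | e3 <;>
        rcases zero_or_one hF (FormsLib.spB k F u v) with e4 | e4 <;>
        simp only [e2, e4, one_ne_zero, if_true, if_false, one_smul, hzC', e1, e3, hzz] at hmul <;>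
        simp [fp, e1, e2, e3, e4, hq', CharTwo.add_self_eq_zero] <;>
        first
          | exact absurd hmul hq'
          | exact absurd hmul.symm hq'
          | skip
    have hzero : ∀ v, fp p₁ v = 0 →
        fp (tv (iota v) • p₁) = fun u => fp p₁ u + FormsLib.spB k F u v := by
      intro v hv
      have hp₁M : p₁ ∈ Mv := Finset.mem_filter.mpr ⟨Finset.mem_univ _, hp₁⟩
      funext u
      have hinv : ap (tv v) (ap (tv v) u) = u := by rw [← ap_mul, tv_mul_self, ap_one]
      have e : rr u • tv (iota v) • p₁ = tv (iota v) • rr (ap (tv v) u) • p₁ := by rw [conj_rr, hinv]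
      have e' : fp (tv (iota v) • p₁) u = fp p₁ (ap (tv v) u) := by
        simp only [fp, e, (MulAction.injective (tv (iota v) : Sp (k + 1))).eq_iff]
      rw [e', tv_ap]
      rcases zero_or_one hF (FormsLib.spB k F u v) with e2 | e2
      · rw [e2, zero_smul, add_zero, add_zero]
      · rw [e2, one_smul, hquad _ hp₁M, hv, add_zero, e2]
    set Z := Finset.univ.filter fun v => fp p₁ v = 0 with hZ
    have hZ2 := zeros_ge hF (fp p₁) (hquad p₁ (Finset.mem_filter.mpr ⟨Finset.mem_univ _, hp₁⟩))
    have hsub : Z.card ≤ (Mv.image fp).card := by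
      refine Finset.card_le_card_of_injOn (fun v u => fp p₁ u + FormsLib.spB k F u v) (fun v hv => ?_)
        (fun v _ v' _ e => ?_)
      · refine Finset.mem_image.mpr ⟨tv (iota v) • p₁, Finset.mem_filter.mpr
          ⟨Finset.mem_univ _, fun h => hp₁ ?_⟩, hzero v (Finset.mem_filter.mp hv).2⟩
        exact MulAction.injective _ ((tv_iota_a0 v p₁).symm.trans h)
      · by_contra hne'
        obtain ⟨u, hu⟩ := exists_partner (sub_ne_zero.mpr hne')
        have h1 := congrFun e u
        simp only [add_right_inj] at h1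
        rw [B_comm, map_sub, ← h1, sub_self] at hu
        exact zero_ne_one hu
    have hfib : 2 * (Mv.image fp).card ≤ Mv.card := by
      refine Finset.mul_card_image_le_card _ _ fun s hs => ?_
      obtain ⟨q, hq, rfl⟩ := Finset.mem_image.mp hs
      have hfz : fp (z • q) = fp q := funext fun u => by
        simp only [fp, ← hzC, (MulAction.injective z).eq_iff]
      calc 2 = ({q, z • q} : Finset Ω).card := (Finset.card_pair (Ne.symm (Finset.mem_filter.mp hq).2)).symm
        _ ≤ _ := Finset.card_le_card fun x hx => by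
          simp only [Finset.mem_insert, Finset.mem_singleton] at hx
          rcases hx with rfl | rfl
          · exact Finset.mem_filter.mpr ⟨hq, rfl⟩
          · exact Finset.mem_filter.mpr ⟨hzMv q hq, hfz⟩
    exact htarget _ (2 * Z.card) hge (by omega) (by omega)
  push Not at hB
  exact (contradiction hF (by omega) hB
    (fun a c p h => by
      by_cases e0 : tv a • p = p
      · exact Or.inl (hB a c p h e0)
      · exact or_iff_not_imp_left.mpr (hA a c p h e0))
    p₁ a0 hp₁).elim

variable {m : ℕ}

/-- The set of quadratic forms polarising to the symplectic form is permuted by the group; this is the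
standard one. -/
def qstd (x : PS m) : F := ∑ i, x (Sum.inl i) * x (Sum.inr i)

theorem qstd_add (x y : PS m) : qstd (x + y) = qstd x + qstd y + FormsLib.spB m F x y := by
  rw [FormsLib.spB_expand]
  simp only [qstd, Pi.add_apply, CharTwo.sub_eq_add, CharTwo.neg_eq, ← Finset.sum_add_distrib]
  exact Finset.sum_congr rfl fun i _ => by ring

include hF in
theorem sum_shift {f : (PS m) → F} (hf : ∀ x y, f (x + y) = f x + f y + FormsLib.spB m F x y) (v : PS m) :
    ∑ x, ep (f x + FormsLib.spB m F x v) = ep (f v) * ∑ x, ep (f x) := by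
  rw [Finset.mul_sum]
  conv_rhs => rw [← Equiv.sum_comp (Equiv.addRight v)]
  refine Finset.sum_congr rfl fun x _ => ?_
  rw [Equiv.coe_addRight, ← ep_add hF]
  congr 1
  rw [hf]
  linear_combination -(f v) * (CharTwo.two_eq_zero : (2 : F) = 0)

include hF in
/-- A quadratic form of minus type. -/
theorem exists_minus (hm : 1 ≤ m) :
    ∃ f : (PS m) → F, (∀ x y, f (x + y) = f x + f y + FormsLib.spB m F x y) ∧
      ∑ x, ep (f x) = -2 ^ m := by
  classical
  have h := gauss_sq hF (qstd (F := F) (m := m)) qstd_add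
  rw [show (4 : ℤ) ^ m = 2 ^ m * 2 ^ m by rw [← mul_pow]; norm_num] at h
  rcases mul_self_eq_mul_self_iff.mp h with h | h
  · set w : PS m := Pi.single (Sum.inl ⟨0, hm⟩) 1 + Pi.single (Sum.inr ⟨0, hm⟩) 1 with hw
    have hqw : qstd w = 1 := by
      simp [qstd, hw, Pi.single_apply, Finset.sum_ite_eq']
    refine ⟨fun x => qstd x + FormsLib.spB m F x w, fun x y => ?_, ?_⟩
    · simp only [qstd_add, map_add, LinearMap.add_apply]; abel
    · rw [sum_shift hF qstd_add, hqw, h]
      simp [ep]
  · exact ⟨qstd, qstd_add, h⟩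

include hF in
/-- A subgroup of index `2^(m-1)(2^m - 1)`. -/
theorem exists_index (hm : 1 ≤ m) :
    ∃ H : Subgroup (Sp m), H.index = 2 ^ (m - 1) * (2 ^ m - 1) := by
  classical
  letI : MulAction (Sp m) ((PS m) → F) :=
    { smul := fun g f x => f (ap g⁻¹ x)
      one_smul := fun f => funext fun x => by
        show f (ap (1 : Sp m)⁻¹ x) = f x
        rw [inv_one, ap_one]
      mul_smul := fun g h f => funext fun x => by
        show f (ap (g * h)⁻¹ x) = f (ap h⁻¹ (ap g⁻¹ x))
        rw [_root_.mul_inv_rev, ap_mul] }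
  obtain ⟨f, hf, hS⟩ := exists_minus hF hm
  refine ⟨MulAction.stabilizer (Sp m) f, ?_⟩
  set Z := Finset.univ.filter fun x => f x = 0 with hZ
  have horb : MulAction.orbit (Sp m) f = (fun v x => f x + FormsLib.spB m F x v) '' (↑Z : Set (PS m)) := by
    ext φ
    constructor
    · rintro ⟨g, rfl⟩
      let d : (PS m) →ₗ[F] F :=
        { toFun := fun x => f (ap g⁻¹ x) + f x
          map_add' := fun x y => by
            rw [ap_add, hf, hf, B_ap]
            linear_combination FormsLib.spB m F x y * (CharTwo.two_eq_zero : (2 : F) = 0)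
          map_smul' := fun r x => by
            rcases zero_or_one hF r with rfl | rfl
            · have h0 : f 0 = 0 := by
                have h := hf 0 0
                rw [add_zero, map_zero, add_zero] at h
                exact left_eq_add.mp h
              simp [ap, h0]
            · simp }
      obtain ⟨v, hv⟩ := (LinearMap.injective_iff_surjective_of_finrank_eq_finrank
        (f := FormsLib.spB m F) Subspace.dual_finrank_eq.symm).mp
        (fun u u' e => sub_eq_zero.mp (FormsLib.spB_nondeg.1 _ fun y => by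
          rw [map_sub, e, sub_self, LinearMap.zero_apply])) d
      have hgf : ∀ x, f (ap g⁻¹ x) = f x + FormsLib.spB m F x v := fun x => by
        have h1 : FormsLib.spB m F v x = f (ap g⁻¹ x) + f x := LinearMap.congr_fun hv x
        rw [B_comm, h1]
        linear_combination -(f x) * (CharTwo.two_eq_zero : (2 : F) = 0)
      refine ⟨v, Finset.mem_filter.mpr ⟨Finset.mem_univ _, ?_⟩, funext fun x => (hgf x).symm⟩
      have h1 : ∑ x, ep (f (ap g⁻¹ x)) = ∑ x, ep (f x) :=
        Fintype.sum_bijective (ap g⁻¹)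
          (Finite.injective_iff_bijective.mp fun x y e => by
            have := congrArg (ap g) e
            rwa [ap_inv_ap, ap_inv_ap] at this) _ _ fun x => rfl
      simp only [hgf] at h1
      rw [sum_shift hF hf, hS] at h1
      rcases zero_or_one hF (f v) with e | e
      · exact e
      · exfalso
        rw [e] at h1
        simp [ep] at h1
        have : (0 : ℤ) < 2 ^ m := by positivity
        omega
    · rintro ⟨v, hv, rfl⟩
      refine ⟨tv v, funext fun x => ?_⟩
      show f (ap (tv v)⁻¹ x) = _
      rw [show (tv v)⁻¹ = tv v from inv_eq_of_mul_eq_one_right (tv_mul_self v), tv_ap]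
      rcases zero_or_one hF (FormsLib.spB m F x v) with e | e
      · simp only [e, zero_smul, add_zero]
      · simp only [e, one_smul]
        rw [hf, (Finset.mem_filter.mp hv).2, add_zero, e]
  have hinj : Function.Injective fun (v : PS m) (x : PS m) => f x + FormsLib.spB m F x v := fun v v' e => by
    by_contra hne
    obtain ⟨u, hu⟩ := exists_partner (sub_ne_zero.mpr hne)
    have h1 := congrFun e u
    simp only [add_right_inj] at h1
    rw [B_comm, map_sub, ← h1, sub_self] at hu
    exact zero_ne_one hu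
  rw [MulAction.index_stabilizer, horb, Set.ncard_image_of_injective _ hinj, Set.ncard_coe_finset]
  rw [sum_ep_eq hF, ← hZ] at hS
  have e1 : (4 : ℕ) ^ m = 2 ^ (m - 1) * 2 ^ m * 2 := by
    rw [mul_comm, ← mul_assoc, ← pow_succ', Nat.sub_add_cancel hm, ← mul_pow]
    norm_num
  have e2 : 2 ^ m = 2 ^ (m - 1) * 2 := by rw [← pow_succ, Nat.sub_add_cancel hm]
  have e3 : 2 * Z.card + 2 ^ m = 4 ^ m := by
    zify; linarith
  rw [Nat.mul_sub, mul_one]
  omega

end Cfsg.Agent.SpTwo
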