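import Cfsg.Agent.Lib.MinDeg.PairBound

/-!
A faithful representation of `Sp_{2n}(q)` over `F_q` has degree at least `2n`.
-/

set_option autoImplicit false
set_option maxHeartbeats 1000000

namespace Cfsg.Agent.MinDeg

open Matrix
open scoped MatrixGroups

variable {F : Type*} [Field F] {n : ℕ}

/-- The `2 × 2` matrix acting on the `i`-th coordinate pair. -/
def spMat (i : Fin n) (M : Matrix (Fin 2) (Fin 2) F) : Matrix (Fin n ⊕ Fin n) (Fin n ⊕ Fin n) F :=
  fromBlocks (diagonal fun l => if l = i then M 0 0 else 1) (diagonal fun l => if l = i then M 0 1 else 0)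
    (diagonal fun l => if l = i then M 1 0 else 0) (diagonal fun l => if l = i then M 1 1 else 1)

theorem spMat_mul (i : Fin n) (M N : Matrix (Fin 2) (Fin 2) F) :
    spMat i M * spMat i N = spMat i (M * N) := by
  simp only [spMat, fromBlocks_multiply, diagonal_mul_diagonal, diagonal_add]
  congr 1 <;> congr 1 <;> funext l <;> by_cases h : l = i <;>
    simp [h, Matrix.mul_apply, Fin.sum_univ_two]

theorem spMat_comm {i j : Fin n} (hij : i ≠ j) (M N : Matrix (Fin 2) (Fin 2) F) :
    spMat i M * spMat j N = spMat j N * spMat i M := by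
  simp only [spMat, fromBlocks_multiply, diagonal_mul_diagonal, diagonal_add]
  congr 1 <;> congr 1 <;> funext l <;> by_cases h : l = i <;> by_cases h' : l = j <;>
    first | exact absurd (h.symm.trans h') hij | simp [h, h', hij, Ne.symm hij]

theorem spMat_one (i : Fin n) : spMat i (1 : Matrix (Fin 2) (Fin 2) F) = 1 := by
  have h1 : (fun l => if l = i then (1 : Matrix (Fin 2) (Fin 2) F) 0 0 else 1) = fun _ => (1 : F) := by
    funext l; simp
  simp only [spMat, h1]
  simp [diagonal_one, fromBlocks_one]

theorem spMat_mem (i : Fin n) (M : SL(2, F)) :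
    spMat i (M : Matrix (Fin 2) (Fin 2) F) ∈ Matrix.symplecticGroup (Fin n) F := by
  have hd : (M : Matrix (Fin 2) (Fin 2) F) 0 0 * (M : Matrix (Fin 2) (Fin 2) F) 1 1 -
      (M : Matrix (Fin 2) (Fin 2) F) 0 1 * (M : Matrix (Fin 2) (Fin 2) F) 1 0 = 1 := by
    rw [← det_fin_two]; exact M.2
  rw [SymplecticGroup.mem_iff, spMat, Matrix.J, fromBlocks_transpose]
  simp only [diagonal_transpose, ← diagonal_one, ← diagonal_zero, diagonal_neg, fromBlocks_multiply,
    diagonal_mul_diagonal, diagonal_add]
  congr 1 <;> congr 1 <;> funext l <;> by_cases h : l = i <;>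
    simp [h] <;> first
      | ring1 | linear_combination hd | linear_combination -hd | linear_combination (2 : F) * hd
      | linear_combination (-2 : F) * hd

/-- `SL(2)` on the `i`-th coordinate pair. -/
def spEmb (i : Fin n) : SL(2, F) →* Matrix.symplecticGroup (Fin n) F where
  toFun M := ⟨spMat i M, spMat_mem i M⟩
  map_one' := Subtype.ext (spMat_one i)
  map_mul' M N := by
    apply Subtype.ext
    exact (spMat_mul i M.1 N.1).symm

theorem spEmb_comm {i j : Fin n} (hij : i ≠ j) (M N : SL(2, F)) : Commute (spEmb i M) (spEmb j N) := by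
  show spEmb i M * spEmb j N = spEmb j N * spEmb i M
  apply Subtype.ext
  exact spMat_comm hij M.1 N.1

theorem spEmb_injective (i : Fin n) : Function.Injective (spEmb (F := F) i) := by
  intro M N h
  have h' : spMat i (M : Matrix (Fin 2) (Fin 2) F) = spMat i (N : Matrix (Fin 2) (Fin 2) F) :=
    congrArg Subtype.val h
  rw [spMat, spMat, fromBlocks_inj] at h'
  obtain ⟨a, b, c, d⟩ := h'
  have a' := congrFun (diagonal_injective a) i
  have b' := congrFun (diagonal_injective b) i
  have c' := congrFun (diagonal_injective c) i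
  have d' := congrFun (diagonal_injective d) i
  simp only [if_true] at a' b' c' d'
  apply Subtype.ext
  ext p q
  fin_cases p <;> fin_cases q <;> assumption

theorem two_mul_le [Finite F] {d : ℕ} (ρ : Matrix.symplecticGroup (Fin n) F →* GL (Fin d) F)
    (hρ : Function.Injective ρ) : 2 * n ≤ d := by
  classical
  haveI := Fintype.ofFinite F
  let K := AlgebraicClosure F
  let σ := algebraMap F K
  let Φ : Matrix.symplecticGroup (Fin n) F →* Module.End K (Fin d → K) :=
    ((Matrix.toLinAlgEquiv' : Matrix (Fin d) (Fin d) K ≃ₐ[K] _) : _ →* _).comp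
      ((σ.mapMatrix : Matrix (Fin d) (Fin d) F →+* Matrix (Fin d) (Fin d) K).toMonoidHom.comp
        ((Units.coeHom _).comp ρ))
  have hΦ : Function.Injective Φ := by
    intro g g' h
    have h1 := (Matrix.toLinAlgEquiv' : Matrix (Fin d) (Fin d) K ≃ₐ[K] _).injective h
    exact hρ (Units.ext (Matrix.map_injective σ.injective h1))
  have hunit : ∀ g, Function.Injective (Φ g) := fun g u v h => by
    have := congrArg (Φ g⁻¹) h
    rwa [← Module.End.mul_apply, ← Module.End.mul_apply, ← map_mul, inv_mul_cancel, map_one] at this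
  -- the pair in `SL(2)`
  obtain ⟨X, Y, k, m, r, hr, hpow, hc1, ⟨j, hj, hj'⟩, hxy, hsep⟩ :
      ∃ (X Y : SL(2, F)) (k m r : ℕ), (r : F) ≠ 0 ∧ (X ^ m) ^ r = 1 ∧ X ^ m ≠ 1 ∧
        (∃ j, X ^ m * Y = Y * (X ^ m) ^ j ∧ Y * X ^ m = (X ^ m) ^ j * Y) ∧ X * Y = Y * X ^ k ∧
        ∀ a : K, a ^ (m * r) = 1 → a ^ m ≠ 1 → a ^ k ≠ a := by
    by_cases h2 : ringChar F = 2
    · haveI : CharP F 2 := h2 ▸ ringChar.charP F
      have h2 : (2 : F) = 0 := CharTwo.two_eq_zero
      let X : SL(2, F) := ⟨!![0, 1; 1, 1], by simp [det_fin_two, CharTwo.neg_eq]⟩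
      let Y : SL(2, F) := ⟨!![0, 1; 1, 0], by simp [det_fin_two, CharTwo.neg_eq]⟩
      have hX2 : X.1 * X.1 = !![1, 1; 1, 0] := by
        ext p q
        fin_cases p <;> fin_cases q <;> simp [X, Matrix.mul_apply, Fin.sum_univ_two, CharTwo.add_self_eq_zero]
      have hX3 : X * X * X = 1 := by
        apply Subtype.ext
        show X.1 * X.1 * X.1 = 1
        rw [hX2, Matrix.one_fin_two]
        ext p q
        fin_cases p <;> fin_cases q <;> simp [X, Matrix.mul_apply, Fin.sum_univ_two, CharTwo.add_self_eq_zero]
      have hXY : X * Y = Y * (X * X) := by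
        apply Subtype.ext
        show X.1 * Y.1 = Y.1 * (X.1 * X.1)
        rw [hX2]
        simp [X, Y, Matrix.mul_fin_two]
      have hYX : Y * X = X * X * Y := by
        apply Subtype.ext
        show Y.1 * X.1 = X.1 * X.1 * Y.1
        rw [hX2]
        simp [X, Y, Matrix.mul_fin_two]
      refine ⟨X, Y, 2, 1, 3, ?_, ?_, ?_, ⟨2, ?_, ?_⟩, ?_, ?_⟩
      · rw [Ne, CharP.cast_eq_zero_iff F 2]; norm_num
      · rw [pow_one, pow_succ, pow_two]; exact hX3
      · rw [pow_one]
        intro e
        have := congrFun (congrFun (congrArg Subtype.val e) 0) 0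
        simp [X] at this
      · rw [pow_one, pow_two]; exact hXY
      · rw [pow_one, pow_two]; exact hYX
      · rw [pow_two]; exact hXY
      · intro a h3 hne e
        rw [pow_one] at hne
        rw [one_mul] at h3
        rcases eq_or_ne a 0 with rfl | h0
        · simp at h3
        · exact hne (mul_left_cancel₀ h0 (by rw [mul_one, ← sq]; exact e))
    · have h2F : (2 : F) ≠ 0 := Ring.two_ne_zero h2
      obtain ⟨a, b, hab⟩ := FiniteField.exists_root_sum_quadratic
        (f := (Polynomial.X ^ 2 : Polynomial F)) (g := (Polynomial.X ^ 2 + 1 : Polynomial F))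
        (Polynomial.degree_X_pow 2)
        (by rw [← Polynomial.C_1]; exact Polynomial.degree_X_pow_add_C (by norm_num) 1)
        (FiniteField.odd_card_of_char_ne_two h2)
      simp at hab
      let X : SL(2, F) := ⟨!![0, 1; -1, 0], by simp [det_fin_two]⟩
      let Y : SL(2, F) := ⟨!![a, b; b, -a], by simp [det_fin_two]; linear_combination -hab⟩
      have hX2 : X.1 * X.1 = !![-1, 0; 0, -1] := by
        simp [X, Matrix.mul_fin_two]
      have hX4 : X * X * (X * X) = 1 := by
        apply Subtype.ext
        show X.1 * X.1 * (X.1 * X.1) = 1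
        rw [hX2, Matrix.one_fin_two]
        simp [Matrix.mul_fin_two]
      have hcY : X * X * Y = Y * (X * X) := by
        apply Subtype.ext
        show X.1 * X.1 * Y.1 = Y.1 * (X.1 * X.1)
        rw [hX2]
        simp [Y, Matrix.mul_fin_two]
      have hXY : X * Y = Y * X * (X * X) := by
        apply Subtype.ext
        show X.1 * Y.1 = Y.1 * X.1 * (X.1 * X.1)
        rw [hX2]
        simp [X, Y, Matrix.mul_fin_two]
      refine ⟨X, Y, 3, 2, 2, by exact_mod_cast h2F, ?_, ?_, ⟨1, ?_, ?_⟩, ?_, ?_⟩
      · rw [pow_two, pow_two]; exact hX4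
      · rw [pow_two]
        intro e
        have e' : X.1 * X.1 = 1 := congrArg Subtype.val e
        rw [hX2] at e'
        have := congrFun (congrFun e' 0) 0
        simp at this
        exact h2F (by linear_combination -this)
      · rw [pow_one, pow_two]; exact hcY
      · rw [pow_one, pow_two]; exact hcY.symm
      · rw [pow_succ' X 2, pow_two, ← mul_assoc]; exact hXY
      · intro c h4 hne e
        rcases eq_or_ne c 0 with rfl | h0
        · simp at h4
        · exact hne (mul_left_cancel₀ h0 (by rw [mul_one]; linear_combination e))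
  have H : PairSystem (K := K) (fun i : Fin n => Φ (spEmb i X)) (fun i => Φ (spEmb i Y))
      (fun i => Φ (spEmb i (X ^ m))) k r :=
    { rpos := by rw [← map_natCast σ]; exact (map_ne_zero σ).mpr hr
      cpow := fun i => by rw [← map_pow, ← map_pow, hpow, map_one, map_one]
      xx := fun i l h => (spEmb_comm h X X).map Φ
      xy := fun i l h => (spEmb_comm h X Y).map Φ
      cx := fun i l => by
        by_cases h : i = l
        · subst h; exact (((Commute.refl X).pow_left m).map (spEmb i)).map Φ
        · exact (spEmb_comm h _ X).map Φ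
      cy := fun i l h => (spEmb_comm h _ Y).map Φ
      cc := fun i l => by
        by_cases h : i = l
        · subst h; exact Commute.refl _
        · exact (spEmb_comm h _ _).map Φ
      cyi := fun i => ⟨j, by simp only [← map_pow, ← map_mul]; exact ⟨by rw [hj], by rw [hj']⟩⟩
      xyi := fun i => by simp only [← map_pow, ← map_mul]; rw [hxy]
      yinj := fun i => hunit _
      sep := fun i v a hv hxv hcv => by
        have hm : Φ (spEmb i (X ^ m)) v = a ^ m • v := by
          rw [map_pow, map_pow]; exact pow_mulVec_eigen _ hxv m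
        refine hsep a ?_ fun e => hcv (by rw [hm, e, one_smul])
        have h1 : Φ (spEmb i (X ^ (m * r))) v = v := by
          rw [pow_mul, hpow, map_one, map_one, Module.End.one_apply]
        rw [map_pow, map_pow, pow_mulVec_eigen _ hxv] at h1
        have h3 : (a ^ (m * r) - 1) • v = 0 := by rw [sub_smul, h1, one_smul, sub_self]
        exact sub_eq_zero.mp ((smul_eq_zero.mp h3).resolve_right hv) }
  have hb := H.two_mul_card_le _ ⊤ (Finset.univ : Finset (Fin n)) le_rfl (fun i _ w _ => ⟨trivial, trivial, trivial⟩)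
    (fun i _ => by
      by_contra hno
      push Not at hno
      have : Φ (spEmb i (X ^ m)) = 1 := LinearMap.ext fun w => hno w trivial
      rw [← map_one Φ] at this
      exact hc1 (spEmb_injective i ((hΦ this).trans (map_one _).symm)))
  simpa [finrank_top] using hb

end Cfsg.Agent.MinDeg
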