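import Cfsg.Agent.Lib.MinDeg.AbelianProj
import Cfsg.Agent.Lib.MinDeg.SpOddMinDeg

/-!
The Weil representation of `Sp_{2n}(q)`, `q` odd, normalised so that the determinants on the even
and on the odd functions agree; the odd part is irreducible.
-/

set_option autoImplicit false
set_option linter.unusedSectionVars false
set_option maxHeartbeats 1000000

namespace Cfsg.Agent.WeilRep

open Matrix

variable {F : Type*} [Field F] [Fintype F] [DecidableEq F] {n : ℕ}

local notation "PS" => (Fin n ⊕ Fin n → F)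
local notation "X" => (Fin n → F)
local notation "LL" => ((Fin n → F) → ℂ)
local notation "ψ" => AbelianProj.psi F

/-- The alternating form on phase space. -/
def B (u v : PS) : F := (u ∘ Sum.inl) ⬝ᵥ (v ∘ Sum.inr) - (u ∘ Sum.inr) ⬝ᵥ (v ∘ Sum.inl)

/-- The Weyl operators. -/
noncomputable def W (u : PS) : Module.End ℂ LL where
  toFun f x := ψ ((u ∘ Sum.inr) ⬝ᵥ x + 2⁻¹ * ((u ∘ Sum.inr) ⬝ᵥ (u ∘ Sum.inl))) * f (x + u ∘ Sum.inl)
  map_add' f g := by funext x; simp [mul_add]
  map_smul' c f := by funext x; simp; ring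

theorem W_apply (u : PS) (f : LL) (x : X) :
    W u f x = ψ ((u ∘ Sum.inr) ⬝ᵥ x + 2⁻¹ * ((u ∘ Sum.inr) ⬝ᵥ (u ∘ Sum.inl))) * f (x + u ∘ Sum.inl) := rfl

theorem W_zero : W (0 : PS) = 1 := by
  refine LinearMap.ext fun f => funext fun x => ?_
  rw [W_apply]
  have h1 : ((0 : PS) ∘ Sum.inr : X) = 0 := rfl
  have h2 : ((0 : PS) ∘ Sum.inl : X) = 0 := rfl
  simp [h1, h2]

theorem W_mul (h2 : (2 : F) ≠ 0) (u v : PS) : W u * W v = ψ (2⁻¹ * B u v) • W (u + v) := by
  refine LinearMap.ext fun f => funext fun x => ?_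
  simp only [Module.End.mul_apply, LinearMap.smul_apply, Pi.smul_apply, smul_eq_mul, W_apply]
  have h1 : ((u + v) ∘ Sum.inr : X) = u ∘ Sum.inr + v ∘ Sum.inr := rfl
  have h3 : ((u + v) ∘ Sum.inl : X) = u ∘ Sum.inl + v ∘ Sum.inl := rfl
  rw [h1, h3, ← mul_assoc, ← mul_assoc, ← AddChar.map_add_eq_mul, ← AddChar.map_add_eq_mul, add_assoc x]
  congr 2
  simp only [B, add_dotProduct, dotProduct_add]
  rw [dotProduct_comm (u ∘ Sum.inl) (v ∘ Sum.inr)]
  field_simp
  ring

theorem trace_eq_sum (T : Module.End ℂ LL) :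
    LinearMap.trace ℂ LL T = ∑ x, T (Pi.single x 1) x := by
  rw [LinearMap.trace_eq_matrix_trace ℂ (Pi.basisFun ℂ X) T, Matrix.trace]
  exact Finset.sum_congr rfl fun x _ => by simp [Matrix.diag, LinearMap.toMatrix_apply]

theorem trace_W {u : PS} (hu : u ≠ 0) : LinearMap.trace ℂ LL (W u) = 0 := by
  rw [trace_eq_sum]
  by_cases ha : u ∘ Sum.inl = (0 : X)
  · have hb : u ∘ Sum.inr ≠ (0 : X) := fun h => hu (funext fun i => by
      rcases i with i | i
      · exact congrFun ha i
      · exact congrFun h i)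
    simp only [W_apply, ha, add_zero, dotProduct_zero, mul_zero, Pi.single_eq_same, mul_one]
    simp only [dotProduct_comm (u ∘ Sum.inr)]
    rw [AbelianProj.sum_psi_dot, if_neg hb]
  · refine Finset.sum_eq_zero fun x _ => ?_
    rw [W_apply, Pi.single_eq_of_ne (fun h => ha (by simpa using h)), mul_zero]

theorem linearIndependent_W (h2 : (2 : F) ≠ 0) :
    LinearIndependent ℂ (W : PS → Module.End ℂ LL) := by
  classical
  rw [Fintype.linearIndependent_iff]
  intro a ha v
  have h := congrArg (fun T => LinearMap.trace ℂ LL (W (-v) * T)) ha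
  simp only [Finset.mul_sum, mul_smul_comm, map_sum, map_smul, mul_zero, map_zero] at h
  rw [Fintype.sum_eq_single v (fun u hu => by
    rw [W_mul h2, map_smul, trace_W (fun e => hu (eq_of_neg_add_eq_zero e).symm), smul_zero, smul_zero]),
    W_mul h2, neg_add_cancel, W_zero, map_smul, LinearMap.trace_one, smul_eq_mul, smul_eq_mul] at h
  refine (mul_eq_zero.mp h).resolve_right (mul_ne_zero (AddChar.val_isUnit _ _).ne_zero ?_)
  rw [Module.finrank_fintype_fun_eq_card]
  exact Nat.cast_ne_zero.mpr Fintype.card_ne_zero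

theorem span_W (h2 : (2 : F) ≠ 0) :
    Submodule.span ℂ (Set.range (W : PS → Module.End ℂ LL)) = ⊤ := by
  refine (linearIndependent_W h2).span_eq_top_of_card_eq_finrank ?_
  rw [Module.finrank_linearMap, Module.finrank_fintype_fun_eq_card]
  simp [pow_add]

/-- An operator commuting with all Weyl operators is scalar. -/
theorem scalar_of_commute (h2 : (2 : F) ≠ 0) (T : Module.End ℂ LL) (hT : ∀ u : PS, T * W u = W u * T) :
    ∃ c : ℂ, T = c • 1 := by
  classical
  have hall : ∀ E : Module.End ℂ LL, T * E = E * T := by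
    intro E
    have : E ∈ Submodule.span ℂ (Set.range (W : PS → Module.End ℂ LL)) := by rw [span_W h2]; trivial
    induction this using Submodule.span_induction with
    | mem x hx => obtain ⟨u, rfl⟩ := hx; exact hT u
    | zero => rw [mul_zero, zero_mul]
    | add x y _ _ hx hy => rw [mul_add, add_mul, hx, hy]
    | smul c x _ hx => rw [mul_smul_comm, smul_mul_assoc, hx]
  set δ : LL := Pi.single 0 1 with hδ
  refine ⟨T δ 0, LinearMap.ext fun f => ?_⟩
  let E : Module.End ℂ LL := (LinearMap.proj (0 : X) : LL →ₗ[ℂ] ℂ).smulRight f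
  have h := LinearMap.congr_fun (hall E) δ
  have e1 : E δ = f := by simp [E, hδ]
  simp only [Module.End.mul_apply, e1] at h
  rw [h]
  simp [E]

/-- The intertwining relation. -/
def Inter (T : PS → PS) (M : Module.End ℂ LL) : Prop := ∀ u : PS, M * W u = W (T u) * M

theorem inter_unique (h2 : (2 : F) ≠ 0) {T : PS → PS} {M : (Module.End ℂ LL)ˣ} {M' : Module.End ℂ LL}
    (hM : Inter T (M : Module.End ℂ LL)) (hM' : Inter T M') :
    ∃ c : ℂ, M' = c • (M : Module.End ℂ LL) := by
  obtain ⟨c, hc⟩ := scalar_of_commute h2 ((M⁻¹ : (Module.End ℂ LL)ˣ) * M' : Module.End ℂ LL) (fun u => by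
    rw [mul_assoc, hM' u, ← mul_assoc, ← mul_assoc]
    congr 1
    rw [Units.inv_mul_eq_iff_eq_mul, ← mul_assoc, Units.eq_mul_inv_iff_mul_eq]
    exact (hM u).symm)
  refine ⟨c, ?_⟩
  calc M' = (M : Module.End ℂ LL) * (((M⁻¹ : (Module.End ℂ LL)ˣ) : Module.End ℂ LL) * M') := by
        rw [← mul_assoc, Units.mul_inv, one_mul]
    _ = c • (M : Module.End ℂ LL) := by rw [hc, mul_smul_comm, mul_one]

theorem B_self (u : PS) : B u u = 0 := by rw [B, dotProduct_comm, sub_self]

/-- Existence of intertwiners. -/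
theorem exists_inter (h2 : (2 : F) ≠ 0) {T : PS → PS} (hadd : ∀ u v, T (u + v) = T u + T v)
    (hinj : Function.Injective T) (hB : ∀ u v, B (T u) (T v) = B u v) :
    ∃ M : (Module.End ℂ LL)ˣ, Inter T (M : Module.End ℂ LL) := by
  classical
  let ev : LL →ₗ[ℂ] ℂ := LinearMap.proj (0 : X)
  let Mv : LL → Module.End ℂ LL := fun v => ∑ u : PS, (ev.comp (W (-u))).smulRight (W (T u) v)
  have hMv : ∀ v f, Mv v f = ∑ u : PS, (W (-u) f 0) • W (T u) v := fun v f => by
    simp [Mv, ev]
  obtain ⟨v, hv⟩ : ∃ v, Mv v ≠ 0 := by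
    by_contra! h
    have hli := Fintype.linearIndependent_iff.mp ((linearIndependent_W h2).comp T hinj)
      (fun u => W (-u) (Pi.single 0 1) 0) (LinearMap.ext fun v => by
        rw [LinearMap.sum_apply, LinearMap.zero_apply]
        simp only [LinearMap.smul_apply, Function.comp]
        rw [← hMv, h v, LinearMap.zero_apply]) 0
    rw [neg_zero, W_zero] at hli
    simp at hli
  have hinter : Inter T (Mv v) := by
    intro w
    refine LinearMap.ext fun f => ?_
    rw [Module.End.mul_apply, Module.End.mul_apply, hMv, hMv, map_sum]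
    simp only [map_smul]
    refine (Fintype.sum_equiv (Equiv.addLeft w) _ _ fun u => ?_).symm
    rw [Equiv.coe_addLeft]
    have e1 : W (-(w + u)) (W w f) = ψ (2⁻¹ * B w u) • W (-u) f := by
      rw [← Module.End.mul_apply, W_mul h2, show -(w + u) + w = -u by abel, LinearMap.smul_apply]
      congr 2
      have := B_self w
      simp only [B] at this ⊢
      have h1 : ((-(w + u) : PS) ∘ Sum.inl : X) = -(w ∘ Sum.inl + u ∘ Sum.inl) := rfl
      have h3 : ((-(w + u) : PS) ∘ Sum.inr : X) = -(w ∘ Sum.inr + u ∘ Sum.inr) := rfl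
      rw [h1, h3, neg_dotProduct, neg_dotProduct, add_dotProduct, add_dotProduct,
        dotProduct_comm (u ∘ Sum.inl) (w ∘ Sum.inr), dotProduct_comm (u ∘ Sum.inr) (w ∘ Sum.inl)]
      linear_combination (-2⁻¹) * this
    rw [e1, ← Module.End.mul_apply, W_mul h2, LinearMap.smul_apply, hadd, hB, Pi.smul_apply, smul_smul,
      smul_eq_mul, mul_comm]
  have hker : LinearMap.ker (Mv v) = ⊥ := by
    rw [Submodule.eq_bot_iff]
    intro f hf
    by_contra hf0
    refine hv (LinearMap.ext fun g => ?_)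
    have hsub : ∀ E : Module.End ℂ LL, Mv v (E f) = 0 := by
      intro E
      have : E ∈ Submodule.span ℂ (Set.range (W : PS → Module.End ℂ LL)) := by rw [span_W h2]; trivial
      induction this using Submodule.span_induction with
      | mem x hx =>
          obtain ⟨u, rfl⟩ := hx
          rw [← Module.End.mul_apply, hinter u, Module.End.mul_apply, LinearMap.mem_ker.mp hf, map_zero]
      | zero => rw [LinearMap.zero_apply, map_zero]
      | add x y _ _ hx hy => rw [LinearMap.add_apply, map_add, hx, hy, add_zero]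
      | smul c x _ hx => rw [LinearMap.smul_apply, map_smul, hx, smul_zero]
    obtain ⟨x, hx⟩ := Function.ne_iff.mp hf0
    rw [Pi.zero_apply] at hx
    have h := hsub ((f x)⁻¹ • (LinearMap.proj x : LL →ₗ[ℂ] ℂ).smulRight g)
    simpa [smul_smul, inv_mul_cancel₀ hx] using h
  have hu : IsUnit (Mv v) := (LinearMap.isUnit_iff_ker_eq_bot _).mpr hker
  exact ⟨hu.unit, by rw [IsUnit.unit_spec]; exact hinter⟩

/-- The parity operator. -/
def P : Module.End ℂ LL where
  toFun f x := f (-x)
  map_add' f g := rfl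
  map_smul' c f := rfl

theorem P_apply (f : LL) (x : X) : P f x = f (-x) := rfl

theorem P_mul_P : (P : Module.End ℂ LL) * P = 1 := by
  refine LinearMap.ext fun f => funext fun x => ?_
  simp [P_apply]

theorem P_W (u : PS) : (P : Module.End ℂ LL) * W u = W (-u) * P := by
  refine LinearMap.ext fun f => funext fun x => ?_
  simp only [Module.End.mul_apply, P_apply, W_apply]
  have h1 : ((-u : PS) ∘ Sum.inr : X) = -(u ∘ Sum.inr) := rfl
  have h3 : ((-u : PS) ∘ Sum.inl : X) = -(u ∘ Sum.inl) := rfl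
  rw [h1, h3]
  simp [neg_add_rev, add_comm]

theorem trace_P (h2 : (2 : F) ≠ 0) : LinearMap.trace ℂ LL (P : Module.End ℂ LL) = 1 := by
  rw [trace_eq_sum, Fintype.sum_eq_single (0 : X) fun x hx => ?_]
  · simp [P_apply]
  · rw [P_apply, Pi.single_eq_of_ne]
    intro h
    refine hx (funext fun i => ?_)
    have := congrFun h i
    simp only [Pi.neg_apply] at this
    have h3 : (2 : F) * x i = 0 := by linear_combination -this
    exact (mul_eq_zero.mp h3).resolve_left h2

theorem commute_P (h2 : (2 : F) ≠ 0) {T : PS → PS} (hneg : ∀ u, T (-u) = -T u)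
    {M : (Module.End ℂ LL)ˣ} (hM : Inter T (M : Module.End ℂ LL)) :
    Commute (P : Module.End ℂ LL) (M : Module.End ℂ LL) := by
  let Pu : (Module.End ℂ LL)ˣ := ⟨P, P, P_mul_P, P_mul_P⟩
  have h1 : Inter (fun u => -T u) ((M * Pu : (Module.End ℂ LL)ˣ) : Module.End ℂ LL) := fun u => by
    show (M : Module.End ℂ LL) * P * W u = W (-T u) * ((M : Module.End ℂ LL) * P)
    rw [mul_assoc, P_W, ← mul_assoc, hM, hneg, mul_assoc]
  obtain ⟨c, hc⟩ := inter_unique h2 h1 (M' := (P : Module.End ℂ LL) * (M : Module.End ℂ LL)) fun u => by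
    rw [mul_assoc, hM, ← mul_assoc, P_W, mul_assoc]
  have hc' : (P : Module.End ℂ LL) * (M : Module.End ℂ LL) = c • ((M : Module.End ℂ LL) * P) := hc
  have h3 := congrArg (fun E => LinearMap.trace ℂ LL (E * ((M⁻¹ : (Module.End ℂ LL)ˣ) : Module.End ℂ LL))) hc'
  simp only [mul_assoc, Units.mul_inv, mul_one, smul_mul_assoc, map_smul] at h3
  rw [LinearMap.trace_mul_comm ℂ (M : Module.End ℂ LL), mul_assoc, Units.inv_mul, mul_one,
    trace_P h2, smul_eq_mul, mul_one] at h3
  rw [← h3, one_smul] at hc'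
  exact hc'

/-- The even (`s = 1`) or odd (`s = -1`) functions. -/
def Ev (s : ℂ) : Submodule ℂ LL := LinearMap.ker ((P : Module.End ℂ LL) - s • 1)

theorem mem_Ev {s : ℂ} {f : LL} : f ∈ (Ev s : Submodule ℂ LL) ↔ P f = s • f := by
  simp [Ev, LinearMap.mem_ker, sub_eq_zero]

theorem mem_Ev_map {s : ℂ} {M : Module.End ℂ LL} (h : Commute P M) {f : LL}
    (hf : f ∈ (Ev s : Submodule ℂ LL)) : M f ∈ (Ev s : Submodule ℂ LL) := by
  rw [mem_Ev] at hf ⊢
  rw [← Module.End.mul_apply, h.eq, Module.End.mul_apply, hf, map_smul]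

/-- The determinant on an eigenspace of the parity. -/
noncomputable def dd (s : ℂ) (M : Module.End ℂ LL) : ℂ :=
  open Classical in
  if h : Commute P M then LinearMap.det (M.restrict fun f hf => mem_Ev_map (s := s) h hf) else 0

theorem dd_mul {s : ℂ} {M M' : Module.End ℂ LL} (h : Commute P M) (h' : Commute P M') :
    dd s (M * M') = dd s M * dd s M' := by
  rw [dd, dd, dd, dif_pos h, dif_pos h', dif_pos (h.mul_right h'), ← map_mul]
  rfl

theorem dd_one {s : ℂ} : dd (F := F) (n := n) s 1 = 1 := by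
  rw [dd, dif_pos (Commute.one_right _)]
  convert LinearMap.det_id (M := (Ev s : Submodule ℂ LL))
  ext x; rfl

theorem dd_smul {s c : ℂ} {M : Module.End ℂ LL} (h : Commute P M) :
    dd s (c • M) = c ^ Module.finrank ℂ (Ev s : Submodule ℂ LL) * dd s M := by
  rw [dd, dd, dif_pos h, dif_pos (h.smul_right c), ← LinearMap.det_smul]
  rfl

theorem finrank_Ev (h2 : (2 : F) ≠ 0) :
    2 * Module.finrank ℂ (Ev (1 : ℂ) : Submodule ℂ LL) = Fintype.card F ^ n + 1 ∧
    2 * Module.finrank ℂ (Ev (-1 : ℂ) : Submodule ℂ LL) + 1 = Fintype.card F ^ n := by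
  classical
  have key : ∀ s : ℂ, s * s = 1 → (2 : ℂ) * Module.finrank ℂ (Ev s : Submodule ℂ LL) =
      (Fintype.card F : ℂ) ^ n + s := by
    intro s hs
    have hproj : LinearMap.IsProj (Ev s : Submodule ℂ LL) ((2 : ℂ)⁻¹ • (1 + s • (P : Module.End ℂ LL))) := by
      refine ⟨fun f => ?_, fun f hf => ?_⟩
      · rw [mem_Ev]
        have hPP : P (P f) = f := LinearMap.congr_fun P_mul_P f
        simp only [LinearMap.smul_apply, LinearMap.add_apply, Module.End.one_apply, map_smul, map_add,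
          smul_add, smul_smul, hPP]
        rw [show s * (2⁻¹ * s) = 2⁻¹ by rw [mul_left_comm, hs, mul_one], add_comm, mul_comm s]
      · rw [mem_Ev] at hf
        simp only [LinearMap.smul_apply, LinearMap.add_apply, Module.End.one_apply, hf, smul_smul, hs,
          one_smul, smul_add, ← add_smul]
        rw [mul_assoc, hs, show (2 : ℂ)⁻¹ + 2⁻¹ * 1 = 1 by norm_num, one_smul]
    have h := hproj.trace
    rw [map_smul, map_add, map_smul, LinearMap.trace_one, trace_P h2, Module.finrank_fintype_fun_eq_card,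
      Fintype.card_fun, Fintype.card_fin, smul_eq_mul, smul_eq_mul, mul_one, Nat.cast_pow] at h
    rw [← h]; field_simp
  refine ⟨?_, ?_⟩
  · have h := key 1 (one_mul 1)
    exact_mod_cast h
  · have h := key (-1) (by norm_num)
    have h' : ((2 * Module.finrank ℂ (Ev (-1 : ℂ) : Submodule ℂ LL) + 1 : ℕ) : ℂ) = ((Fintype.card F ^ n : ℕ) : ℂ) := by
      push_cast
      linear_combination h
    exact_mod_cast h'

theorem B_eq (u v : PS) : B u v = -(u ⬝ᵥ (Matrix.J (Fin n) F *ᵥ v)) := by
  conv_rhs => rw [← Sum.elim_comp_inl_inr u, ← Sum.elim_comp_inl_inr v, Matrix.J, Matrix.fromBlocks_mulVec,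
    sumElim_dotProduct_sumElim]
  simp only [B, Sum.elim_comp_inl, Sum.elim_comp_inr, Matrix.zero_mulVec, Matrix.neg_mulVec, Matrix.one_mulVec,
    zero_add, add_zero, dotProduct_neg]
  ring

theorem B_mulVec (g : Matrix.symplecticGroup (Fin n) F) (u v : PS) :
    B ((g : Matrix (Fin n ⊕ Fin n) (Fin n ⊕ Fin n) F) *ᵥ u) ((g : Matrix (Fin n ⊕ Fin n) (Fin n ⊕ Fin n) F) *ᵥ v) = B u v := by
  have h := SymplecticGroup.mem_iff.mp (SymplecticGroup.transpose_mem g.2)
  rw [Matrix.transpose_transpose] at h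
  rw [B_eq, B_eq, Matrix.mulVec_mulVec, Matrix.dotProduct_mulVec, ← Matrix.vecMul_transpose,
    Matrix.vecMul_vecMul, ← Matrix.mul_assoc, h, ← Matrix.dotProduct_mulVec]

/-- The normalised intertwiner of a group element. -/
theorem exists_normal (h2 : (2 : F) ≠ 0) (g : Matrix.symplecticGroup (Fin n) F) :
    ∃ U : (Module.End ℂ LL)ˣ,
      Inter (fun u => (g : Matrix (Fin n ⊕ Fin n) (Fin n ⊕ Fin n) F) *ᵥ u) (U : Module.End ℂ LL) ∧
        dd 1 (U : Module.End ℂ LL) = dd (-1) (U : Module.End ℂ LL) := by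
  have hinj : Function.Injective fun u : PS => (g : Matrix (Fin n ⊕ Fin n) (Fin n ⊕ Fin n) F) *ᵥ u :=
    Matrix.mulVec_injective_iff_isUnit.mpr
      ((Matrix.isUnit_iff_isUnit_det _).mpr (SymplecticGroup.symplectic_det g.2))
  obtain ⟨M, hM⟩ := exists_inter h2 (fun u v => Matrix.mulVec_add _ u v) hinj (B_mulVec g)
  have hP := commute_P h2 (fun u => Matrix.mulVec_neg u _) hM
  have hPi := hP.units_inv_right
  have hne : ∀ s, dd s (M : Module.End ℂ LL) ≠ 0 := fun s h => by
    have := dd_mul (s := s) hP hPi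
    rw [Units.mul_inv, dd_one, h, zero_mul] at this
    exact one_ne_zero this
  set c : ℂˣ := Units.mk0 _ (div_ne_zero (hne (-1)) (hne 1)) with hc
  have hval : ((Units.map (algebraMap ℂ (Module.End ℂ LL)).toMonoidHom c * M : (Module.End ℂ LL)ˣ) :
      Module.End ℂ LL) = (c : ℂ) • (M : Module.End ℂ LL) := (Algebra.smul_def _ _).symm
  refine ⟨Units.map (algebraMap ℂ (Module.End ℂ LL)).toMonoidHom c * M, ?_, ?_⟩
  · intro u
    rw [hval, smul_mul_assoc, mul_smul_comm, hM u]
  · rw [hval, dd_smul hP, dd_smul hP]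
    obtain ⟨h1, h3⟩ := finrank_Ev (F := F) (n := n) h2
    rw [show Module.finrank ℂ (Ev (1 : ℂ) : Submodule ℂ LL) = Module.finrank ℂ (Ev (-1 : ℂ) : Submodule ℂ LL) + 1
      by omega, pow_succ, mul_assoc, hc, Units.val_mk0, div_mul_cancel₀ _ (hne 1)]

theorem normal_unique (h2 : (2 : F) ≠ 0) {g : Matrix.symplecticGroup (Fin n) F}
    {U U' : (Module.End ℂ LL)ˣ}
    (hU : Inter (fun u => (g : Matrix (Fin n ⊕ Fin n) (Fin n ⊕ Fin n) F) *ᵥ u) (U : Module.End ℂ LL))
    (hd : dd 1 (U : Module.End ℂ LL) = dd (-1) (U : Module.End ℂ LL))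
    (hU' : Inter (fun u => (g : Matrix (Fin n ⊕ Fin n) (Fin n ⊕ Fin n) F) *ᵥ u) (U' : Module.End ℂ LL))
    (hd' : dd 1 (U' : Module.End ℂ LL) = dd (-1) (U' : Module.End ℂ LL)) : U = U' := by
  obtain ⟨c, hc⟩ := inter_unique h2 hU hU'
  have hP := commute_P h2 (fun u => Matrix.mulVec_neg u _) hU
  have hP' := commute_P h2 (fun u => Matrix.mulVec_neg u _) hU'
  have hne : ∀ s, dd s (U' : Module.End ℂ LL) ≠ 0 := fun s h => by
    have := dd_mul (s := s) hP' hP'.units_inv_right
    rw [Units.mul_inv, dd_one, h, zero_mul] at this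
    exact one_ne_zero this
  have hne' := hne 1
  rw [hc, dd_smul hP, dd_smul hP] at hd'
  rw [hc, dd_smul hP] at hne'
  obtain ⟨h1, h3⟩ := finrank_Ev (F := F) (n := n) h2
  rw [show Module.finrank ℂ (Ev (1 : ℂ) : Submodule ℂ LL) = Module.finrank ℂ (Ev (-1 : ℂ) : Submodule ℂ LL) + 1
    by omega, pow_succ] at hd' hne'
  obtain ⟨hcd, hne1⟩ := mul_ne_zero_iff.mp hne'
  obtain ⟨hck, hc0⟩ := mul_ne_zero_iff.mp hcd
  rw [← hd, mul_assoc] at hd'
  have h4 : c = 1 := mul_right_cancel₀ hne1 (by rw [one_mul]; exact mul_left_cancel₀ hck hd')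
  exact Units.ext (by rw [hc, h4, one_smul])

/-- The Weil representation. -/
theorem exists_weil (h2 : (2 : F) ≠ 0) :
    ∃ w : Matrix.symplecticGroup (Fin n) F →* (Module.End ℂ LL)ˣ, ∀ g : Matrix.symplecticGroup (Fin n) F,
      Inter (fun u => (g : Matrix (Fin n ⊕ Fin n) (Fin n ⊕ Fin n) F) *ᵥ u) (w g : Module.End ℂ LL) ∧
        Commute P (w g : Module.End ℂ LL) := by
  choose U hU hd using exists_normal (F := F) (n := n) h2
  have hP : ∀ g, Commute P (U g : Module.End ℂ LL) := fun g => commute_P h2 (fun u => Matrix.mulVec_neg u _) (hU g)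
  refine ⟨MonoidHom.mk' U fun g h => normal_unique h2 (hU _) (hd _) ?_ ?_, fun g => ⟨hU g, hP g⟩⟩
  · intro u
    rw [Units.val_mul, mul_assoc, hU h u, ← mul_assoc, hU g _, mul_assoc]
    show W ((g : Matrix (Fin n ⊕ Fin n) (Fin n ⊕ Fin n) F) *ᵥ ((h : Matrix (Fin n ⊕ Fin n) (Fin n ⊕ Fin n) F) *ᵥ u)) * _ = _
    rw [Matrix.mulVec_mulVec]
    rfl
  · rw [Units.val_mul, dd_mul (hP g) (hP h), dd_mul (hP g) (hP h), hd g, hd h]

/-- The Weil representation on odd functions is irreducible. -/
theorem exists_irreducible (hn : 2 ≤ n) (hodd : Odd (Fintype.card F)) :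
    ∃ ρ : Representation ℂ (Matrix.symplecticGroup (Fin n) F)
      (Fin ((Fintype.card F ^ n - 1) / 2) → ℂ), ρ.IsIrreducible := by
  classical
  have h2 := SpOddMinDeg.two_ne_zero_of_odd hodd
  obtain ⟨w, hw⟩ := exists_weil (F := F) (n := n) h2
  obtain ⟨-, hdim⟩ := finrank_Ev (F := F) (n := n) h2
  have hd : Module.finrank ℂ (Ev (-1 : ℂ) : Submodule ℂ LL) = (Fintype.card F ^ n - 1) / 2 := by omega
  let e : (Ev (-1 : ℂ) : Submodule ℂ LL) ≃ₗ[ℂ] (Fin ((Fintype.card F ^ n - 1) / 2) → ℂ) :=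
    LinearEquiv.ofFinrankEq _ _ (by rw [Module.finrank_fin_fun, hd])
  let res : Matrix.symplecticGroup (Fin n) F → Module.End ℂ (Ev (-1 : ℂ) : Submodule ℂ LL) := fun g =>
    (w g : Module.End ℂ LL).restrict fun f hf => mem_Ev_map (hw g).2 hf
  have hres : ∀ g (f : (Ev (-1 : ℂ) : Submodule ℂ LL)), ((res g f : (Ev (-1 : ℂ) : Submodule ℂ LL)) : LL) =
      (w g : Module.End ℂ LL) (f : LL) := fun g f => rfl
  let ρ : Representation ℂ (Matrix.symplecticGroup (Fin n) F) (Fin ((Fintype.card F ^ n - 1) / 2) → ℂ) :=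
    { toFun := fun g => e.conj (res g)
      map_one' := by
        refine LinearMap.ext fun x => e.symm.injective ?_
        rw [LinearEquiv.conj_apply_apply, e.symm_apply_apply, Module.End.one_apply]
        refine Subtype.ext ?_
        rw [hres, map_one]; rfl
      map_mul' := fun g h => by
        refine LinearMap.ext fun x => e.symm.injective ?_
        rw [Module.End.mul_apply, LinearEquiv.conj_apply_apply, LinearEquiv.conj_apply_apply,
          LinearEquiv.conj_apply_apply, e.symm_apply_apply, e.symm_apply_apply, e.symm_apply_apply]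
        refine Subtype.ext ?_
        rw [hres, hres, hres, map_mul]; rfl }
  have hq3 : 3 ≤ Fintype.card F := by
    have := Fintype.one_lt_card (α := F)
    rw [Nat.odd_iff] at hodd
    omega
  -- no fixed vectors
  have hnofix : ∀ v : LL, P v = (-1 : ℂ) • v → (∀ g, (w g : Module.End ℂ LL) v = v) → v = 0 := by
    intro v _ hfix
    by_contra hv
    obtain ⟨x₀, hx₀⟩ := Function.ne_iff.mp hv
    rw [Pi.zero_apply] at hx₀
    -- diagonal elements
    have hlow : ∀ S : Matrix (Fin n) (Fin n) F, Sᵀ = S → ∃ l : ℂ, ∀ x, v x = l * ψ (-(2⁻¹) * (x ⬝ᵥ (S *ᵥ x))) * v x := by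
      intro S hS
      have hg : fromBlocks 1 0 S 1 ∈ Matrix.symplecticGroup (Fin n) F := by
        rw [SymplecticGroup.mem_iff, Matrix.J, fromBlocks_transpose, fromBlocks_multiply, fromBlocks_multiply]
        simp [hS]
      let D : Module.End ℂ LL :=
        { toFun := fun f x => ψ (-(2⁻¹) * (x ⬝ᵥ (S *ᵥ x))) * f x
          map_add' := fun f g => by funext x; simp [mul_add]
          map_smul' := fun c f => by funext x; simp; ring }
      have hD : Inter (fun u => (fromBlocks 1 0 S 1 : Matrix (Fin n ⊕ Fin n) (Fin n ⊕ Fin n) F) *ᵥ u) D := by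
        intro u
        refine LinearMap.ext fun f => funext fun x => ?_
        show ψ _ * W u f x = W _ (D f) x
        rw [W_apply, W_apply]
        dsimp only
        conv_rhs => rw [Matrix.fromBlocks_mulVec]
        simp only [Sum.elim_comp_inl, Sum.elim_comp_inr, Matrix.one_mulVec, Matrix.zero_mulVec, add_zero]
        show ψ _ * (ψ _ * f _) = ψ _ * (ψ _ * f _)
        rw [← mul_assoc, ← mul_assoc, ← AddChar.map_add_eq_mul, ← AddChar.map_add_eq_mul]
        congr 2
        have hsym : ∀ a b : X, a ⬝ᵥ (S *ᵥ b) = b ⬝ᵥ (S *ᵥ a) := fun a b => by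
          rw [Matrix.dotProduct_mulVec, ← Matrix.mulVec_transpose, hS, dotProduct_comm]
        simp only [add_dotProduct, dotProduct_add, Matrix.mulVec_add]
        rw [hsym (u ∘ Sum.inl) x, dotProduct_comm (S *ᵥ (u ∘ Sum.inl)) x,
          dotProduct_comm (S *ᵥ (u ∘ Sum.inl)) (u ∘ Sum.inl)]
        field_simp
        ring
      obtain ⟨l, hl⟩ := inter_unique h2 (hw ⟨_, hg⟩).1 hD
      refine ⟨l⁻¹, fun x => ?_⟩
      have h := congrFun (LinearMap.congr_fun hl v) x
      rw [LinearMap.smul_apply, hfix, Pi.smul_apply, smul_eq_mul] at h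
      have hl0 : l ≠ 0 := by
        rintro rfl
        have h0 := congrFun (LinearMap.congr_fun hl (fun _ => 1)) 0
        simp [D] at h0
      rw [mul_assoc, show ψ _ * v x = D v x from rfl, h, ← mul_assoc, inv_mul_cancel₀ hl0, one_mul]
    have hlev : ∀ A : Matrix (Fin n) (Fin n) F, A.det ≠ 0 → v (A *ᵥ x₀) ≠ 0 := by
      intro A hA
      have hAC : A * A⁻¹ = 1 := Matrix.mul_nonsing_inv A (Ne.isUnit hA)
      have hCA : A⁻¹ * A = 1 := Matrix.nonsing_inv_mul A (Ne.isUnit hA)
      have hg : fromBlocks A 0 0 (A⁻¹)ᵀ ∈ Matrix.symplecticGroup (Fin n) F := by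
        rw [SymplecticGroup.mem_iff, Matrix.J, fromBlocks_transpose, fromBlocks_multiply, fromBlocks_multiply]
        simp [hAC, ← Matrix.transpose_mul]
      let O : Module.End ℂ LL :=
        { toFun := fun f x => f (A⁻¹ *ᵥ x)
          map_add' := fun f g => rfl
          map_smul' := fun c f => rfl }
      have hO : Inter (fun u => (fromBlocks A 0 0 (A⁻¹)ᵀ : Matrix (Fin n ⊕ Fin n) (Fin n ⊕ Fin n) F) *ᵥ u) O := by
        intro u
        refine LinearMap.ext fun f => funext fun x => ?_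
        show W u f (A⁻¹ *ᵥ x) = W _ (O f) x
        rw [W_apply, W_apply]
        dsimp only
        conv_rhs => rw [Matrix.fromBlocks_mulVec]
        simp only [Sum.elim_comp_inl, Sum.elim_comp_inr, Matrix.zero_mulVec, add_zero, zero_add]
        show ψ _ * f _ = ψ _ * f (A⁻¹ *ᵥ _)
        rw [Matrix.mulVec_add, Matrix.mulVec_mulVec _ A⁻¹ A, hCA, Matrix.one_mulVec,
          Matrix.mulVec_transpose, ← Matrix.dotProduct_mulVec, ← Matrix.dotProduct_mulVec, Matrix.mulVec_mulVec,
          hCA, Matrix.one_mulVec]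
      obtain ⟨l, hl⟩ := inter_unique h2 (hw ⟨_, hg⟩).1 hO
      have h := congrFun (LinearMap.congr_fun hl v) (A *ᵥ x₀)
      rw [LinearMap.smul_apply, hfix, Pi.smul_apply, smul_eq_mul] at h
      intro h0
      rw [h0, mul_zero] at h
      refine hx₀ ?_
      rw [← h]
      show v x₀ = v _
      rw [Matrix.mulVec_mulVec, hCA, Matrix.one_mulVec]
    have hsup : ∀ x, v x ≠ 0 → ∀ i j, x i * x j = x₀ i * x₀ j := by
      intro x hx i j
      by_contra hne
      obtain ⟨a, ha⟩ : ∃ a : F, ψ a ≠ 1 := by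
        by_contra! h
        refine AbelianProj.psi_primitive F (one_ne_zero) ?_
        ext y; simp [h]
      set d := x i * x j - x₀ i * x₀ j with hd'
      have hd0 : d ≠ 0 := sub_ne_zero.mpr hne
      set c := -(a / d) with hc
      set S := Matrix.single i j c + Matrix.single j i c with hS
      obtain ⟨l, hl⟩ := hlow S (by
        rw [hS, Matrix.transpose_add, Matrix.transpose_single, Matrix.transpose_single, add_comm])
      have hval : ∀ y : X, -(2⁻¹) * (y ⬝ᵥ (S *ᵥ y)) = (a / d) * (y i * y j) := fun y => by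
        have hupd : ∀ (k : Fin n) (b : F), y ⬝ᵥ Function.update (0 : X) k b = y k * b := fun k b =>
          dotProduct_single _ _ _
        rw [hS, Matrix.add_mulVec, dotProduct_add]
        simp [Matrix.single_mulVec, hupd, hc]
        field_simp
        ring
      have h1 : l * ψ (-(2⁻¹) * (x ⬝ᵥ (S *ᵥ x))) = 1 :=
        mul_right_cancel₀ hx (by rw [one_mul]; exact (hl x).symm)
      have h3 : l * ψ (-(2⁻¹) * (x₀ ⬝ᵥ (S *ᵥ x₀))) = 1 :=
        mul_right_cancel₀ hx₀ (by rw [one_mul]; exact (hl x₀).symm)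
      refine ha ?_
      have hl0 : l ≠ 0 := left_ne_zero_of_mul_eq_one h1
      have h4 := mul_left_cancel₀ hl0 (h1.trans h3.symm)
      rw [hval, hval] at h4
      rw [show a = a / d * (x i * x j) - a / d * (x₀ i * x₀ j) by rw [← mul_sub, ← hd']; field_simp,
        AddChar.map_sub_eq_div, h4, div_self]
      exact (AddChar.val_isUnit _ _).ne_zero
    have hcard : ({0, x₀, -x₀} : Finset X).card < (Finset.univ : Finset X).card := by
      refine lt_of_le_of_lt Finset.card_le_three ?_
      rw [Finset.card_univ, Fintype.card_fun, Fintype.card_fin]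
      exact lt_of_lt_of_le (by omega : 3 < 3 ^ 2) ((Nat.pow_le_pow_left hq3 2).trans (Nat.pow_le_pow_right (by omega) hn))
    obtain ⟨y, -, hy⟩ := Finset.exists_mem_notMem_of_card_lt_card hcard
    simp only [Finset.mem_insert, Finset.mem_singleton, not_or] at hy
    have hx00 : x₀ ≠ 0 := by
      rintro rfl
      refine hx₀ ?_
      have := congrFun ‹P v = (-1 : ℂ) • v› 0
      rw [P_apply, neg_zero, Pi.smul_apply, smul_eq_mul] at this
      linear_combination this / 2
    obtain ⟨g, hg⟩ := Recog.CrossChar.exists_sl (by simpa using hn) x₀ y hx00 hy.1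
    have h := hsup _ (hlev g (by rw [g.2]; exact one_ne_zero))
    rw [hg] at h
    obtain ⟨j, hj⟩ := Function.ne_iff.mp hx00
    rw [Pi.zero_apply] at hj
    rcases mul_self_eq_mul_self_iff.mp (h j j) with e1 | e1
    · refine hy.2.1 (funext fun i => mul_right_cancel₀ hj ?_)
      have := h i j
      rwa [e1] at this
    · refine hy.2.2 (funext fun i => mul_right_cancel₀ hj ?_)
      have := h i j
      rw [e1] at this
      show y i * x₀ j = -x₀ i * x₀ j
      linear_combination -this
  refine ⟨ρ, (CT.isIrreducible_iff ρ).mpr ⟨?_, fun U hU => ?_⟩⟩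
  · haveI : Nonempty (Fin ((Fintype.card F ^ n - 1) / 2)) := by
      refine ⟨⟨0, ?_⟩⟩
      have : 3 ^ 2 ≤ Fintype.card F ^ n := (Nat.pow_le_pow_left hq3 2).trans (Nat.pow_le_pow_right (by omega) hn)
      omega
    infer_instance
  · by_contra! hne
    obtain ⟨hbot, htop⟩ := hne
    let ρU : Representation ℂ (Matrix.symplecticGroup (Fin n) F) U :=
      { toFun := fun g => (ρ g).restrict (hU g)
        map_one' := by ext x; simp
        map_mul' := fun g h => by ext x; simp }
    obtain ⟨x, hxU, hx⟩ := Submodule.exists_mem_ne_zero_of_ne_bot hbot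
    have htriv : ∀ g, ρU g = 1 := by
      by_contra! h
      have h1 := SpOddMinDeg.main hn hodd ρU h
      have h3 := Submodule.finrank_lt htop
      rw [Module.finrank_fin_fun] at h3
      omega
    refine hx ?_
    have h0 : ((e.symm x : (Ev (-1 : ℂ) : Submodule ℂ LL)) : LL) = 0 := by
      refine hnofix _ (mem_Ev.mp (e.symm x).2) fun g => ?_
      have h1 : ρ g x = x := congrArg Subtype.val (LinearMap.congr_fun (htriv g) ⟨x, hxU⟩)
      have h1' : e.symm (ρ g x) = e.symm x := congrArg e.symm h1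
      rw [show ρ g x = e.conj (res g) x from rfl, LinearEquiv.conj_apply_apply, e.symm_apply_apply] at h1'
      rw [← hres, h1']
    have : e.symm x = 0 := Subtype.ext h0
    simpa using congrArg e this

end Cfsg.Agent.WeilRep
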